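import Cfsg.Agent.Lib.KGroups.Functor.Reduce

/-!
Reduction of control of transfer to the constrained sections.
-/

set_option autoImplicit false
set_option linter.unusedSectionVars false

namespace CfsgLib.KGroups.Functor

open CfsgLib.LocalEven.SylowIn
open scoped commutatorElement

universe u

variable {G : Type u} [Group G] [Finite G] {p : ℕ} [Fact p.Prime]
variable {𝓦 : Set (∀ (Q : Type u) [Group Q], Subgroup Q)}

theorem mem_commutator_of_mul {H : Subgroup G} {s h m : G} (hh : h ∈ ⁅H, H⁆) (hm : m ∈ H) (he : s = h * m)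
    {k : ℕ} (hs : s ^ p ^ k = 1) (hmo : (orderOf m).Coprime p) : s ∈ ⁅H, H⁆ := by
  rw [← Subgroup.map_subtype_commutator H] at hh ⊢
  obtain ⟨h', hh', rfl⟩ := hh
  have hsH : s ∈ H := he ▸ H.mul_mem h'.2 hm
  refine ⟨⟨s, hsH⟩, ?_, rfl⟩
  rw [SetLike.mem_coe, ← Abelianization.ker_of, MonoidHom.mem_ker] at hh' ⊢
  have e : Abelianization.of (⟨s, hsH⟩ : H) = Abelianization.of ⟨m, hm⟩ := by
    rw [show (⟨s, hsH⟩ : H) = h' * ⟨m, hm⟩ from Subtype.ext he, map_mul, hh', one_mul]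
  refine CharP.eq_one_of_pow_coprime (n := orderOf m) hmo ?_ (k := k) ?_
  · rw [e, ← map_pow, show (⟨m, hm⟩ : H) ^ orderOf m = 1 from Subtype.ext (pow_orderOf_eq_one m), map_one]
  · rw [← map_pow, show (⟨s, hsH⟩ : H) ^ p ^ k = 1 from Subtype.ext hs, map_one]

theorem inf_commutator_le_target (S : Sylow p G) (h𝓦 : ∀ W ∈ 𝓦, Cfsg.IsCharPFunctor.{u} p W) {K : Subgroup G}
    (hSK : (S : Subgroup G) ≤ K) (h : Cfsg.FamilyControlsTransferIn p (ind G 𝓦) K) :
    (S : Subgroup G) ⊓ ⁅K, K⁆ ≤ transferTarget (ind G 𝓦) (S : Subgroup G) ⊤ := by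
  rw [familyTransfer_change (isConjugacyFunctor_ind h𝓦) h (isSylowIn_of_le S hSK)]
  refine iSup₂_le fun W hW => ?_
  exact (inf_le_inf_left _ (Subgroup.commutator_mono (inf_le_inf_right _ le_top) (inf_le_inf_right _ le_top))).trans
    (le_iSup₂_of_le W hW le_rfl)

/-- The image of `S ∩ G'` modulo a normal subgroup. -/
theorem map_inf_commutator_le (S : Sylow p G) {H : Type u} [Group H] [Finite H] (φ : G →* H) (hφ : Function.Surjective φ)
    (h𝓦 : ∀ W ∈ 𝓦, Cfsg.IsCharPFunctor.{u} p W) (h : Cfsg.FamilyControlsTransferIn p (ind H 𝓦) ⊤)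
    (hstep : ∀ W ∈ 𝓦, ∀ z ∈ (S : Subgroup G).map φ ⊓
      ⁅Subgroup.normalizer (Cfsg.inducedFunctor W ((S : Subgroup G).map φ) : Set H),
        Subgroup.normalizer (Cfsg.inducedFunctor W ((S : Subgroup G).map φ) : Set H)⁆,
      z ∈ (transferTarget (ind G 𝓦) (S : Subgroup G) ⊤).map φ) :
    ((S : Subgroup G) ⊓ ⁅(⊤ : Subgroup G), ⊤⁆).map φ ≤ (transferTarget (ind G 𝓦) (S : Subgroup G) ⊤).map φ := by
  refine (Subgroup.map_inf_le _ _ φ).trans ?_
  rw [Subgroup.map_commutator, Subgroup.map_top_of_surjective φ hφ]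
  have h1 := familyTransfer_change (isConjugacyFunctor_ind h𝓦) h (isSylowIn_top (S.mapSurjective hφ))
  rw [Sylow.coe_mapSurjective] at h1
  rw [h1]
  refine iSup₂_le ?_
  rintro _ ⟨W, hW, rfl⟩
  simp only [top_inf_eq]
  exact hstep W hW

/-- Reduction modulo a normal `p'`-subgroup. -/
theorem familyTransfer_of_quotient (S : Sylow p G) {H : Type u} [Group H] [Finite H] (φ : G →* H) (hφ : Function.Surjective φ)
    (hker : (Nat.card φ.ker).Coprime p) (h𝓦 : ∀ W ∈ 𝓦, Cfsg.IsCharPFunctor.{u} p W)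
    (h : Cfsg.FamilyControlsTransferIn p (ind H 𝓦) ⊤) : Cfsg.FamilyControlsTransferIn p (ind G 𝓦) ⊤ := by
  refine familyTransfer_of_le S ?_
  have hinj := injOn_sylow φ hker S.2
  have hMS : transferTarget (ind G 𝓦) (S : Subgroup G) ⊤ ≤ (S : Subgroup G) :=
    (transferTarget_le _ _ _).trans inf_le_left
  intro y hy
  obtain ⟨m, hm, hym⟩ := map_inf_commutator_le S φ hφ h𝓦 h (fun W hW z hz => by
    set K := Subgroup.normalizer (Cfsg.inducedFunctor W (S : Subgroup G) : Set G)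
    have hKmap : Subgroup.normalizer (Cfsg.inducedFunctor W ((S : Subgroup G).map φ) : Set H) ≤ K.map φ := by
      rw [inducedFunctor_map (h𝓦 W hW) φ S.2 hinj]
      intro x hx
      obtain ⟨n, hn, rfl⟩ := exists_normalizer_lift φ hφ hker (S.2.to_le (inducedFunctor_le W _)) hx
      exact ⟨n, hn, rfl⟩
    obtain ⟨⟨s, hs, rfl⟩, hz2⟩ := hz
    have hz3 := Subgroup.commutator_mono hKmap hKmap hz2
    rw [← Subgroup.map_commutator] at hz3
    obtain ⟨c, hc, hcs⟩ := hz3
    have hSK : (S : Subgroup G) ≤ K := Subgroup.le_normalizer.trans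
      (normalizer_le_normalizer_functor (isConjugacyFunctor_induced (h𝓦 W hW)) S.2)
    refine ⟨s, ?_, rfl⟩
    refine Subgroup.mem_iSup_of_mem (Cfsg.inducedFunctor W) (Subgroup.mem_iSup_of_mem ⟨W, hW, rfl⟩ ?_)
    rw [top_inf_eq]
    refine ⟨hs, ?_⟩
    obtain ⟨k, hk⟩ := S.2 ⟨s, hs⟩
    refine mem_commutator_of_mul hc (m := c⁻¹ * s) (K.mul_mem (K.inv_mem (K.commutator_le_self hc)) (hSK hs))
      (by simp) (k := k) (congrArg Subtype.val hk) (Nat.Coprime.coprime_dvd_left (Subgroup.orderOf_dvd_natCard _ ?_) hker)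
    rw [MonoidHom.mem_ker, map_mul, map_inv, hcs, inv_mul_cancel]) ⟨y, hy, rfl⟩
  exact hinj (hMS hm) hy.1 hym ▸ hm

/-- The case where the elements of order prime to `p` centralize the normal `p`-subgroup `ker φ`. -/
theorem familyTransfer_of_centralized (S : Sylow p G) {H : Type u} [Group H] [Finite H] (φ : G →* H) (hφ : Function.Surjective φ)
    (hker : IsPGroup p φ.ker) (hsup : Subgroup.centralizer (φ.ker : Set G) ⊔ (S : Subgroup G) = ⊤)
    (h𝓦 : ∀ W ∈ 𝓦, Cfsg.IsCharPFunctor.{u} p W) (h : Cfsg.FamilyControlsTransferIn p (ind H 𝓦) ⊤)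
    (hHn : ∀ W ∈ 𝓦, Subgroup.normalizer (Cfsg.inducedFunctor W ((S : Subgroup G).map φ) : Set H) ≠ ⊤)
    (hM : ∀ K : Subgroup G, (S : Subgroup G) ≤ K → K ≠ ⊤ → Cfsg.FamilyControlsTransferIn p (ind G 𝓦) K)
    (hcomm : ⁅(S : Subgroup G), (S : Subgroup G)⁆ ≤ transferTarget (ind G 𝓦) (S : Subgroup G) ⊤) :
    Cfsg.FamilyControlsTransferIn p (ind G 𝓦) ⊤ := by
  refine familyTransfer_of_le S ?_
  have hTS : φ.ker ≤ (S : Subgroup G) := hker.le_sylow_of_normal S
  set M := transferTarget (ind G 𝓦) (S : Subgroup G) ⊤ with hMdef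
  intro y hy
  have hcomap : ((S : Subgroup G).map φ).comap φ = (S : Subgroup G) := by
    rw [Subgroup.comap_map_eq, sup_eq_left.mpr hTS]
  obtain ⟨m, hm, hym⟩ := map_inf_commutator_le S φ hφ h𝓦 h (fun W hW z hz => by
    set N' := Subgroup.normalizer (Cfsg.inducedFunctor W ((S : Subgroup G).map φ) : Set H) with hN'
    set K := N'.comap φ with hK
    have hKmap : N' = K.map φ := (Subgroup.map_comap_eq_self_of_surjective hφ N').symm
    have hSK : (S : Subgroup G) ≤ K := by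
      rw [hK, ← Subgroup.map_le_iff_le_comap]
      exact Subgroup.le_normalizer.trans
        (normalizer_le_normalizer_functor (isConjugacyFunctor_induced (h𝓦 W hW)) (S.2.map φ))
    have hKne : K ≠ ⊤ := fun e => hHn W hW (by
      rw [← hN', hKmap, e, Subgroup.map_top_of_surjective φ hφ])
    obtain ⟨hz1, hz2⟩ := hz
    rw [hKmap, ← Subgroup.map_commutator] at hz2
    obtain ⟨c, hc, rfl⟩ := hz2
    have hcS : c ∈ (S : Subgroup G) := by rw [← hcomap]; exact hz1
    exact ⟨c, inf_commutator_le_target S h𝓦 hSK (hM K hSK hKne) ⟨hcS, hc⟩, rfl⟩) ⟨y, hy, rfl⟩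
  -- the transfer into `S / M`
  set t := m⁻¹ * y with ht
  have htT : t ∈ φ.ker := by rw [MonoidHom.mem_ker, ht, map_mul, map_inv, hym, inv_mul_cancel]
  have htG : t ∈ ⁅(⊤ : Subgroup G), ⊤⁆ := Subgroup.mul_mem _ (Subgroup.inv_mem _ (transferTarget_le _ _ _ hm).2) hy.2
  let ψ : (S : Subgroup G) →* Abelianization (S : Subgroup G) ⧸ (M.subgroupOf (S : Subgroup G)).map Abelianization.of :=
    (QuotientGroup.mk' _).comp Abelianization.of
  have hψ : ∀ x : (S : Subgroup G), ψ x = 1 ↔ (x : G) ∈ M := by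
    intro x
    refine (QuotientGroup.eq_one_iff _).trans ⟨?_, fun hx => ⟨x, hx, rfl⟩⟩
    rintro ⟨z, hz, hzx⟩
    have hd : z⁻¹ * x ∈ commutator (S : Subgroup G) := by
      rw [← Abelianization.ker_of, MonoidHom.mem_ker, map_mul, map_inv, hzx, inv_mul_cancel]
    have hd' : ((z⁻¹ * x : (S : Subgroup G)) : G) ∈ M := hcomm (by
      rw [← Subgroup.map_subtype_commutator]; exact ⟨_, hd, rfl⟩)
    simpa using M.mul_mem hz hd'
  have hkey : ∀ (u : G) (hu : u ∈ φ.ker) (g : G) (hx : g⁻¹ * u * g ∈ (S : Subgroup G)),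
      ψ ⟨_, hx⟩ = ψ ⟨u, hTS hu⟩ := by
    intro u hu g hx
    have hg : g ∈ ((Subgroup.centralizer (φ.ker : Set G) ⊔ (S : Subgroup G) : Subgroup G) : Set G) := by
      rw [hsup]; trivial
    rw [Subgroup.normal_mul] at hg
    obtain ⟨c, hc, s, hs, rfl⟩ := hg
    have e : (⟨_, hx⟩ : (S : Subgroup G)) = ⟨s, hs⟩⁻¹ * ⟨u, hTS hu⟩ * ⟨s, hs⟩ := by
      apply Subtype.ext
      have h1 : c⁻¹ * u * c = u := by
        rw [mul_assoc, Subgroup.mem_centralizer_iff.mp hc u hu, inv_mul_cancel_left]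
      calc (c * s)⁻¹ * u * (c * s) = s⁻¹ * (c⁻¹ * u * c) * s := by simp [mul_assoc]
        _ = s⁻¹ * u * s := by rw [h1]
    rw [e, map_mul, map_mul, map_inv, mul_comm ((ψ _)⁻¹), mul_assoc, inv_mul_cancel, mul_one]
  -- `transfer ψ` kills `G'`
  have h1 : MonoidHom.transfer ψ t = 1 := by
    rw [← _root_.commutator_def] at htG
    exact Abelianization.commutator_subset_ker _ htG
  have htM : t ∈ M := by
    refine (hψ ⟨t, hTS htT⟩).mp ?_
    have h2 : ψ ⟨t, hTS htT⟩ ^ (S : Subgroup G).index = 1 := by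
      classical
      rw [← h1]
      have : Fintype (Quotient (MulAction.orbitRel (Subgroup.zpowers t) (G ⧸ (S : Subgroup G)))) := Fintype.ofFinite _
      rw [Subgroup.index_eq_sum_minimalPeriod (S : Subgroup G) t, ← Finset.prod_pow_eq_pow_sum,
        MonoidHom.transfer_eq_prod_quotient_orbitRel_zpowers_quot]
      refine Finset.prod_congr rfl fun q _ => ?_
      rw [← map_pow]
      exact (hkey _ (Subgroup.pow_mem _ htT _) q.out.out
        (QuotientGroup.out_conj_pow_minimalPeriod_mem (S : Subgroup G) t q.out)).symm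
    obtain ⟨k, hk⟩ := S.2 ⟨t, hTS htT⟩
    refine CharP.eq_one_of_pow_coprime (n := (S : Subgroup G).index)
      (((Fact.out : p.Prime).coprime_iff_not_dvd.mpr S.not_dvd_index).symm) h2 (k := k) ?_
    rw [← map_pow, hk, map_one]
  have := M.mul_mem hm htM
  rwa [ht, mul_inv_cancel_left] at this

/-- A non-constrained group with controlled proper subgroups and quotients is controlled. -/
theorem familyTransfer_step {X : Type u} [Group X] [Finite X] (h𝓦 : ∀ W ∈ 𝓦, Cfsg.IsCharPFunctor.{u} p W)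
    (hsub : ∀ K : Subgroup X, K ≠ ⊤ → Cfsg.FamilyControlsTransferIn p (ind X 𝓦) K)
    (hquo : ∀ (N : Subgroup X) [N.Normal], N ≠ ⊥ → Cfsg.FamilyControlsTransferIn p (ind (X ⧸ N) 𝓦) ⊤)
    (hcon : ¬ Subgroup.centralizer (Cfsg.pCore p X : Set X) ≤ Cfsg.pCore p X) :
    Cfsg.FamilyControlsTransferIn p (ind X 𝓦) ⊤ := by
  obtain ⟨S⟩ : Nonempty (Sylow p X) := inferInstance
  set T := Cfsg.pCore p X with hT
  have hTn : T.Normal := LocalEven.SylowIn.pCore_normal X p
  rcases eq_or_ne T ⊥ with hbot | hTbot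
  · refine familyTransfer_top S (isConjugacyFunctor_ind h𝓦) fun U hUS hU _ => hsub _ fun htop => hU ?_
    have : U.Normal := Subgroup.normalizer_eq_top_iff.mp htop
    exact le_bot_iff.mp (hbot ▸ Solvable.Cores.le_pCore (isPGroup_of_le S hUS))
  set N := Cfsg.pPrimeCore p X with hN
  have hNn : N.Normal := Solvable.Cores.pPrimeCore_normal p
  rcases eq_or_ne N ⊥ with hNbot | hNbot
  swap
  · exact familyTransfer_of_quotient S (QuotientGroup.mk' N) (QuotientGroup.mk'_surjective N)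
      (by rw [QuotientGroup.ker_mk']; exact Solvable.Cores.coprime_card_pPrimeCore p) h𝓦 (hquo N hNbot)
  obtain ⟨L, hSL, hL, hfac⟩ := frattini_centralizer S hNbot hcon
  set C := Subgroup.centralizer (T : Set X) with hC
  rcases ne_or_eq (C ⊔ (S : Subgroup X)) ⊤ with hH | hH
  · refine familyTransfer_of_le S (inf_commutator_le_of_focal (isSylowIn_top S) fun x hx u _ hux => ?_)
    obtain ⟨c, hc, l, hl, rfl⟩ := hfac u
    have hA : Subgroup.zpowers x ≤ (S : Subgroup X) := Subgroup.zpowers_le.mpr hx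
    obtain ⟨c', hc', l', hl', he, hl'A⟩ :=
      exists_factor S (X := C ⊔ (S : Subgroup X)) le_sup_right hSL (Subgroup.mem_sup_left hc) hl hA
        (by rw [MonoidHom.map_zpowers, Subgroup.zpowers_le]; exact hux)
    rw [he] at hux ⊢
    have hx' : l' * x * l'⁻¹ ∈ (S : Subgroup X) := hl'A (conjG_mem (Subgroup.mem_zpowers x))
    have h1 := inf_commutator_le_target S h𝓦 hSL (hsub L hL)
      ⟨(S : Subgroup X).mul_mem hx' ((S : Subgroup X).inv_mem hx), Subgroup.commutator_mem_commutator hl' (hSL hx)⟩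
    have hux' : c' * (l' * x * l'⁻¹) * c'⁻¹ ∈ (S : Subgroup X) := by simpa [mul_assoc] using hux
    have h2 := inf_commutator_le_target S h𝓦 le_sup_right (hsub _ hH)
      ⟨(S : Subgroup X).mul_mem hux' ((S : Subgroup X).inv_mem hx'),
        Subgroup.commutator_mem_commutator hc' ((le_sup_right : (S : Subgroup X) ≤ C ⊔ (S : Subgroup X)) hx')⟩
    simpa [mul_assoc] using Subgroup.mul_mem _ h2 h1
  have hST : ¬ (S : Subgroup X) ≤ T := fun hle =>
    hcon (isPGroup_centralizer_of_inf_le S hNbot (inf_le_left.trans hle))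
  refine familyTransfer_of_centralized S (QuotientGroup.mk' T) (QuotientGroup.mk'_surjective T)
    (by rw [QuotientGroup.ker_mk']; exact Solvable.Cores.isPGroup_pCore p)
    (by rw [QuotientGroup.ker_mk']; exact hH) h𝓦 (hquo T hTbot) ?_ (fun K _ hK => hsub K hK) ?_
  · exact fun W hW => normalizer_quotient_pCore_ne_top S hST (h𝓦 W hW)
  · refine le_trans (le_inf (S : Subgroup X).commutator_le_self ?_)
      (inf_commutator_le_target S h𝓦 Subgroup.le_normalizer (hsub _ ?_))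
    · exact Subgroup.commutator_mono Subgroup.le_normalizer Subgroup.le_normalizer
    · intro htop
      have : (S : Subgroup X).Normal := Subgroup.normalizer_eq_top_iff.mp htop
      exact hST (Solvable.Cores.le_pCore S.2)

/-- The constrained sections, with controlled proper subgroups and quotients, decide control of transfer. -/
theorem familyTransfer_ind (h𝓦 : ∀ W ∈ 𝓦, Cfsg.IsCharPFunctor.{u} p W)
    (hloc : ∀ (X : Type u) [Group X] [Finite X], Sec G X →
      Subgroup.centralizer (Cfsg.pCore p X : Set X) ≤ Cfsg.pCore p X →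
      (∀ K : Subgroup X, K ≠ ⊤ → Cfsg.FamilyControlsTransferIn p (ind X 𝓦) K) →
      (∀ (N : Subgroup X) [N.Normal], N ≠ ⊥ → Cfsg.FamilyControlsTransferIn p (ind (X ⧸ N) 𝓦) ⊤) →
        Cfsg.FamilyControlsTransferIn p (ind X 𝓦) ⊤) :
    ∀ (X : Type u) [Group X] [Finite X], Sec G X → Cfsg.FamilyControlsTransferIn p (ind X 𝓦) ⊤ := by
  suffices key : ∀ (n : ℕ) (X : Type u) [Group X] [Finite X], Nat.card X = n → Sec G X →
      Cfsg.FamilyControlsTransferIn p (ind X 𝓦) ⊤ from fun X _ _ hX => key _ X rfl hX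
  intro n
  induction n using Nat.strong_induction_on with
  | _ n ih =>
  intro X _ _ hn hX
  subst hn
  have hsub : ∀ K : Subgroup X, K ≠ ⊤ → Cfsg.FamilyControlsTransferIn p (ind X 𝓦) K := by
    intro K hK
    refine familyTransfer_of_subgroup h𝓦 K (ih _ ?_ K rfl (hX.of_subgroup K))
    exact lt_of_le_of_ne (Subgroup.card_le_card_group K) fun e => hK (Subgroup.eq_top_of_card_eq K e)
  have hquo : ∀ (N : Subgroup X) [N.Normal], N ≠ ⊥ → Cfsg.FamilyControlsTransferIn p (ind (X ⧸ N) 𝓦) ⊤ := by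
    intro N _ hN
    refine ih _ ?_ (X ⧸ N) rfl (hX.of_surjective (QuotientGroup.mk' N) (QuotientGroup.mk'_surjective N))
    rw [← Subgroup.card_mul_index N]
    exact lt_mul_of_one_lt_left (Nat.pos_of_ne_zero Subgroup.index_ne_zero_of_finite)
      ((Subgroup.one_lt_card_iff_ne_bot N).mpr hN)
  by_cases hcon : Subgroup.centralizer (Cfsg.pCore p X : Set X) ≤ Cfsg.pCore p X
  · exact hloc X hX hcon hsub hquo
  · exact familyTransfer_step h𝓦 hsub hquo hcon

/-- The constrained sections decide control of transfer. -/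
theorem familyTransfer_sec (h𝓦 : ∀ W ∈ 𝓦, Cfsg.IsCharPFunctor.{u} p W)
    (hloc : ∀ (X : Type u) [Group X] [Finite X], Sec G X →
      Subgroup.centralizer (Cfsg.pCore p X : Set X) ≤ Cfsg.pCore p X →
        Cfsg.FamilyControlsTransferIn p (ind X 𝓦) ⊤) :
    ∀ (X : Type u) [Group X] [Finite X], Sec G X → Cfsg.FamilyControlsTransferIn p (ind X 𝓦) ⊤ :=
  familyTransfer_ind h𝓦 fun X _ _ hX hc _ _ => hloc X hX hc

/-- Modulo `O_p`, `S ∩ G'` lies in the target, if the proper subgroups and the quotient are controlled. -/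
theorem inf_commutator_le_sup (S : Sylow p G) (h𝓦 : ∀ W ∈ 𝓦, Cfsg.IsCharPFunctor.{u} p W)
    (hM : ∀ K : Subgroup G, K ≠ ⊤ → Cfsg.FamilyControlsTransferIn p (ind G 𝓦) K)
    (N : Subgroup G) [N.Normal] (hNp : IsPGroup p N)
    (hquo : Cfsg.FamilyControlsTransferIn p (ind (G ⧸ N) 𝓦) ⊤)
    (hHn : ∀ W ∈ 𝓦, Subgroup.normalizer (Cfsg.inducedFunctor W ((S : Subgroup G).map (QuotientGroup.mk' N)) :
      Set (G ⧸ N)) ≠ ⊤) :
    (S : Subgroup G) ⊓ ⁅(⊤ : Subgroup G), ⊤⁆ ≤
      transferTarget (ind G 𝓦) (S : Subgroup G) ⊤ ⊔ (N ⊓ ⁅(⊤ : Subgroup G), ⊤⁆) := by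
  have hNS : N ≤ (S : Subgroup G) := hNp.le_sylow_of_normal S
  intro y hy
  obtain ⟨m, hm, hym⟩ := map_inf_commutator_le S (QuotientGroup.mk' N) (QuotientGroup.mk'_surjective N) h𝓦 hquo
    (fun W hW z hz => by
      set N' := Subgroup.normalizer (Cfsg.inducedFunctor W ((S : Subgroup G).map (QuotientGroup.mk' N)) : Set (G ⧸ N)) with hN'
      set K := N'.comap (QuotientGroup.mk' N) with hK
      have hKmap : N' = K.map (QuotientGroup.mk' N) :=
        (Subgroup.map_comap_eq_self_of_surjective (QuotientGroup.mk'_surjective N) N').symm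
      have hSK : (S : Subgroup G) ≤ K := by
        rw [hK, ← Subgroup.map_le_iff_le_comap]
        exact Subgroup.le_normalizer.trans
          (normalizer_le_normalizer_functor (isConjugacyFunctor_induced (h𝓦 W hW)) (S.2.map _))
      have hKne : K ≠ ⊤ := fun e => hHn W hW (by
        rw [← hN', hKmap, e, Subgroup.map_top_of_surjective _ (QuotientGroup.mk'_surjective N)])
      obtain ⟨hz1, hz2⟩ := hz
      rw [hKmap, ← Subgroup.map_commutator] at hz2
      obtain ⟨c, hc, rfl⟩ := hz2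
      have hcS : c ∈ (S : Subgroup G) := by
        have h1 : c ∈ ((S : Subgroup G).map (QuotientGroup.mk' N)).comap (QuotientGroup.mk' N) := hz1
        rwa [Subgroup.comap_map_eq, QuotientGroup.ker_mk', sup_eq_left.mpr hNS] at h1
      exact ⟨c, inf_commutator_le_target S h𝓦 hSK (hM K hKne) ⟨hcS, hc⟩, rfl⟩) ⟨y, hy, rfl⟩
  have htN : m⁻¹ * y ∈ N := by
    rw [← QuotientGroup.ker_mk' N, MonoidHom.mem_ker, map_mul, map_inv, hym, inv_mul_cancel]
  have htG : m⁻¹ * y ∈ ⁅(⊤ : Subgroup G), ⊤⁆ :=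
    Subgroup.mul_mem _ (Subgroup.inv_mem _ (transferTarget_le _ _ _ hm).2) hy.2
  simpa using Subgroup.mul_mem_sup hm (show m⁻¹ * y ∈ N ⊓ ⁅(⊤ : Subgroup G), ⊤⁆ from ⟨htN, htG⟩)

end CfsgLib.KGroups.Functor
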