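import Cfsg.Prelude.Def_LocalEven
import Cfsg.Agent.Lib.KGroups.Functor.ReduceTransfer

/-!
The reduction theorems in terms of sections `K/R`.
-/

set_option autoImplicit false

namespace CfsgLib.KGroups.Functor

open CfsgLib.LocalEven.SylowIn

universe u

variable {G : Type u} [Group G] [Finite G] {p : ℕ} [Fact p.Prime]
variable {𝓦 : Set (∀ (Q : Type u) [Group Q], Subgroup Q)}

theorem familyControls_of_sections (h𝓦 : ∀ W ∈ 𝓦, Cfsg.IsCharPFunctor.{u} p W)
    (hloc : ∀ (K R : Subgroup G) [_hR : (R.subgroupOf K).Normal],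
      Subgroup.centralizer (Cfsg.pCore p (K ⧸ R.subgroupOf K) : Set (K ⧸ R.subgroupOf K)) ≤
        Cfsg.pCore p (K ⧸ R.subgroupOf K) →
      Cfsg.FamilyControlsStrongFusionIn p (ind (K ⧸ R.subgroupOf K) 𝓦) ⊤)
    (X : Type u) [Group X] [Finite X] (hX : Sec G X) : Cfsg.FamilyControlsStrongFusionIn p (ind X 𝓦) ⊤ :=
  familyControls_sec h𝓦 (fun Y _ _ hY hc => by
    obtain ⟨K, R, hR, ⟨e⟩⟩ := hY.exists_equiv
    exact familyControls_of_equiv h𝓦 e (@hloc K R hR (centralizer_pCore_of_equiv e p hc))) X hX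

theorem familyTransfer_of_sections (h𝓦 : ∀ W ∈ 𝓦, Cfsg.IsCharPFunctor.{u} p W)
    (hloc : ∀ (K R : Subgroup G) [_hR : (R.subgroupOf K).Normal],
      Subgroup.centralizer (Cfsg.pCore p (K ⧸ R.subgroupOf K) : Set (K ⧸ R.subgroupOf K)) ≤
        Cfsg.pCore p (K ⧸ R.subgroupOf K) →
      Cfsg.FamilyControlsTransferIn p (ind (K ⧸ R.subgroupOf K) 𝓦) ⊤)
    (X : Type u) [Group X] [Finite X] (hX : Sec G X) : Cfsg.FamilyControlsTransferIn p (ind X 𝓦) ⊤ :=
  familyTransfer_sec h𝓦 (fun Y _ _ hY hc => by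
    obtain ⟨K, R, hR, ⟨e⟩⟩ := hY.exists_equiv
    exact familyTransfer_of_equiv h𝓦 e (@hloc K R hR (centralizer_pCore_of_equiv e p hc))) X hX

theorem controlsStrongFusion_of_family {W : ∀ (Q : Type u) [Group Q], Subgroup Q} (hW : Cfsg.IsCharPFunctor.{u} p W)
    (T : Sylow p G) (h : Cfsg.FamilyControlsStrongFusionIn p (ind G {W}) ⊤) :
    Cfsg.ControlsStrongFusion p (Cfsg.inducedFunctor W (T : Subgroup G)) := by
  rw [ind, Set.image_singleton] at h
  refine ⟨T, inducedFunctor_le W _, fun A hA => ⟨hA, fun g hg => ?_⟩⟩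
  obtain ⟨g', hg', hag⟩ := agrees_of_familyControls
    (fun V hV => Set.mem_singleton_iff.mp hV ▸ isConjugacyFunctor_induced hW) h (isSylowIn_top T) (x := g)
    trivial ((Subgroup.closure_le _).mpr hA) (conjG_closure_le hg)
  exact ⟨g', hg'.mem_of_singleton.2, fun a ha => hag a (Subgroup.subset_closure ha)⟩

theorem family_of_normal {W : ∀ (Q : Type u) [Group Q], Subgroup Q} (T : Sylow p G)
    (h : (Cfsg.inducedFunctor W (T : Subgroup G)).Normal) :
    Cfsg.FamilyControlsStrongFusionIn p (ind G {W}) ⊤ := by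
  rw [ind, Set.image_singleton]
  exact familyControls_singleton (controls_of_exists_mem (isSylowIn_top T) fun A x _ _ _ =>
    ⟨x, ⟨trivial, by rw [Subgroup.normalizer_eq_top_iff.mpr h]; trivial⟩, fun a _ => rfl⟩)

theorem family_of_factor (W₁ W₂ : ∀ (Q : Type u) [Group Q], Subgroup Q)
    (h₁ : Cfsg.IsCharPFunctor.{u} p W₁) (h₂ : Cfsg.IsCharPFunctor.{u} p W₂) (T : Sylow p G)
    (h : ∀ x : G, ∃ a ∈ Subgroup.normalizer (Cfsg.inducedFunctor W₁ (T : Subgroup G) : Set G),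
      ∃ b ∈ Subgroup.normalizer (Cfsg.inducedFunctor W₂ (T : Subgroup G) : Set G), x = a * b) :
    Cfsg.FamilyControlsStrongFusionIn p (ind G {W₁, W₂}) ⊤ := by
  refine familyControls_of_agrees (isSylowIn_top T) fun A x _ hA hxA => ?_
  obtain ⟨a, ha, b, hb, rfl⟩ := h x
  have hle : ∀ W : (∀ (Q : Type u) [Group Q], Subgroup Q), Cfsg.IsCharPFunctor.{u} p W →
      (T : Subgroup G) ≤ Subgroup.normalizer (Cfsg.inducedFunctor W (T : Subgroup G) : Set G) :=
    fun W hW => Subgroup.le_normalizer.trans (normalizer_le_normalizer_functor (isConjugacyFunctor_induced hW) T.2)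
  obtain ⟨a', ha', b', hb', he, hbA⟩ := exists_factor T (hle W₁ h₁) (hle W₂ h₂) ha hb hA hxA
  rw [he] at hxA ⊢
  rw [← conjG_conjG] at hxA
  exact ((Chain.single ⟨_, ⟨W₂, Or.inr rfl, rfl⟩, ⟨trivial, hb'⟩, hA, hbA⟩).trans
    (Chain.single ⟨_, ⟨W₁, Or.inl rfl, rfl⟩, ⟨trivial, ha'⟩, hbA, hxA⟩)).agrees

end CfsgLib.KGroups.Functor
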