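import Cfsg.Prelude.Def_ConjugacyFunctors
import Cfsg.Agent.Lib.LocalEven.SylowIn

/-!
Chains of conjugations, extremal conjugates in a Sylow subgroup.
-/

set_option autoImplicit false

namespace CfsgLib.KGroups.Functor

open CfsgLib.LocalEven.SylowIn

variable {G : Type*} [Group G]

/-- `A ^ᶜ g` is `g A g⁻¹`. -/
scoped notation:max A:max " ^ᶜ " g:max => Subgroup.map (MulEquiv.toMonoidHom (MulAut.conj g)) A

theorem conjG_mem {A : Subgroup G} {g a : G} (ha : a ∈ A) : g * a * g⁻¹ ∈ A ^ᶜ g := ⟨a, ha, rfl⟩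

theorem conjG_conjG (A : Subgroup G) (g h : G) : (A ^ᶜ h) ^ᶜ g = A ^ᶜ (g * h) := map_conj_conj A g h

theorem conjG_one (A : Subgroup G) : A ^ᶜ (1 : G) = A := map_conj_one A

theorem conjG_inv_conjG (A : Subgroup G) (g : G) : (A ^ᶜ g) ^ᶜ g⁻¹ = A := by
  rw [conjG_conjG, inv_mul_cancel, conjG_one]

theorem conjG_eq_iff {A : Subgroup G} {g : G} :
    A ^ᶜ g = A ↔ g ∈ Subgroup.normalizer (A : Set G) := map_conj_eq_iff

theorem conjG_congr {A : Subgroup G} {g g' : G} (h : ∀ a ∈ A, g * a * g⁻¹ = g' * a * g'⁻¹) :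
    A ^ᶜ g = A ^ᶜ g' := by
  ext x
  constructor <;> rintro ⟨a, ha, rfl⟩
  · exact ⟨a, ha, (h a ha).symm⟩
  · exact ⟨a, ha, h a ha⟩

theorem card_conjG (A : Subgroup G) (g : G) : Nat.card ↥(A ^ᶜ g) = Nat.card A :=
  Subgroup.card_map_of_injective (MulAut.conj g).injective

theorem conjG_closure_le {A : Set G} {S : Subgroup G} {g : G}
    (h : (fun a => g * a * g⁻¹) '' A ⊆ S) : (Subgroup.closure A) ^ᶜ g ≤ S := by
  rw [MonoidHom.map_closure, Subgroup.closure_le]
  exact h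

/-- A chain of conjugations, each step `A ↦ x A x⁻¹` satisfying `R A x`. -/
inductive Chain (R : Subgroup G → G → Prop) : Subgroup G → G → Prop
  | refl (A : Subgroup G) : Chain R A 1
  | step {A : Subgroup G} {x g : G} : R A x → Chain R (A ^ᶜ x) g → Chain R A (g * x)

variable {R R' : Subgroup G → G → Prop}

theorem Chain.single {A : Subgroup G} {x : G} (h : R A x) : Chain R A x := by
  simpa using Chain.step h (Chain.refl _)

theorem Chain.trans {A : Subgroup G} {g h : G} (hg : Chain R A g) (hh : Chain R (A ^ᶜ g) h) :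
    Chain R A (h * g) := by
  induction hg with
  | refl A => rw [conjG_one] at hh; simpa using hh
  | step hx _ ih =>
    rw [← conjG_conjG] at hh
    rw [← mul_assoc]
    exact Chain.step hx (ih hh)

theorem Chain.mono (hR : ∀ A B x, B ≤ A → R A x → R B x) {A B : Subgroup G} {g : G} (hB : B ≤ A)
    (h : Chain R A g) : Chain R B g := by
  induction h generalizing B with
  | refl A => exact Chain.refl _
  | step hx _ ih => exact Chain.step (hR _ _ _ hB hx) (ih (Subgroup.map_mono hB))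

theorem Chain.imp {A : Subgroup G} {g : G} (hR : ∀ A x, R A x → R' A x) (h : Chain R A g) :
    Chain R' A g := by
  induction h with
  | refl A => exact Chain.refl _
  | step hx _ ih => exact Chain.step (hR _ _ hx) ih

theorem Chain.symm (hR : ∀ A x, R A x → R (A ^ᶜ x) x⁻¹) {A : Subgroup G} {g : G} (h : Chain R A g) :
    Chain R (A ^ᶜ g) g⁻¹ := by
  induction h with
  | refl A => rw [conjG_one, inv_one]; exact Chain.refl _
  | @step A x g hx _ ih =>
    rw [mul_inv_rev, ← conjG_conjG A g x]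
    refine ih.trans ?_
    rw [conjG_inv_conjG]
    exact Chain.single (hR _ _ hx)

/-- `g` agrees on `A` with a chain. -/
def Agrees (R : Subgroup G → G → Prop) (A : Subgroup G) (g : G) : Prop :=
  ∃ g' : G, Chain R A g' ∧ ∀ a ∈ A, g * a * g⁻¹ = g' * a * g'⁻¹

theorem Chain.agrees {A : Subgroup G} {g : G} (h : Chain R A g) : Agrees R A g :=
  ⟨g, h, fun _ _ => rfl⟩

theorem Agrees.congr {A : Subgroup G} {g h : G} (hg : Agrees R A g)
    (he : ∀ a ∈ A, h * a * h⁻¹ = g * a * g⁻¹) : Agrees R A h := by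
  obtain ⟨g', h1, h2⟩ := hg
  exact ⟨g', h1, fun a ha => (he a ha).trans (h2 a ha)⟩

theorem Agrees.mono (hR : ∀ A B x, B ≤ A → R A x → R B x) {A B : Subgroup G} {g : G} (hB : B ≤ A)
    (h : Agrees R A g) : Agrees R B g := by
  obtain ⟨g', h1, h2⟩ := h
  exact ⟨g', h1.mono hR hB, fun a ha => h2 a (hB ha)⟩

theorem Agrees.trans {A : Subgroup G} {g h : G} (hg : Agrees R A g) (hh : Agrees R (A ^ᶜ g) h) :
    Agrees R A (h * g) := by
  obtain ⟨g', h1, h2⟩ := hg
  obtain ⟨h', h3, h4⟩ := hh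
  refine ⟨h' * g', h1.trans ?_, fun a ha => ?_⟩
  · rwa [← conjG_congr h2]
  · calc h * g * a * (h * g)⁻¹ = h * (g * a * g⁻¹) * h⁻¹ := by group
      _ = h' * (g * a * g⁻¹) * h'⁻¹ := h4 _ (conjG_mem ha)
      _ = h' * (g' * a * g'⁻¹) * h'⁻¹ := by rw [h2 a ha]
      _ = _ := by group

theorem Agrees.symm (hR : ∀ A x, R A x → R (A ^ᶜ x) x⁻¹) {A : Subgroup G} {g : G}
    (h : Agrees R A g) : Agrees R (A ^ᶜ g) g⁻¹ := by
  obtain ⟨g', h1, h2⟩ := h
  refine ⟨g'⁻¹, ?_, ?_⟩
  · rw [conjG_congr h2]; exact h1.symm hR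
  · rintro _ ⟨a, ha, rfl⟩
    show g⁻¹ * (g * a * g⁻¹) * g⁻¹⁻¹ = g'⁻¹ * (g * a * g⁻¹) * g'⁻¹⁻¹
    calc g⁻¹ * (g * a * g⁻¹) * g⁻¹⁻¹ = a := by group
      _ = g'⁻¹ * (g' * a * g'⁻¹) * g'⁻¹⁻¹ := by group
      _ = _ := by rw [h2 a ha]

/-! ### Sylow subgroups of normalizers -/

variable {p : ℕ} [Fact p.Prime] [Finite G]

theorem not_dvd_relIndex {T H : Subgroup G} (h : IsSylowIn p T H) : ¬ p ∣ T.relIndex H :=
  h.toSylow.not_dvd_index

theorem isSylowIn_of_not_dvd {T H : Subgroup G} (hle : T ≤ H) (hT : IsPGroup p T)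
    (h : ¬ p ∣ T.relIndex H) : IsSylowIn p T H := by
  refine ⟨hle, hT, fun U hUH hU hTU => (le_antisymm hTU ?_).symm⟩
  have h1 := Subgroup.relIndex_mul_relIndex T U H hTU hUH
  obtain ⟨n, hn⟩ := hU.index (T.subgroupOf U)
  rw [← Subgroup.relIndex_eq_one]
  change T.relIndex U = p ^ n at hn
  rcases Nat.eq_zero_or_pos n with rfl | hpos
  · rw [hn, pow_zero]
  · exact absurd (dvd_trans (hn ▸ dvd_pow_self p hpos.ne') (Dvd.intro _ h1)) h

variable (S : Sylow p G)

/-- `N_S(T)` is a Sylow subgroup of `N_G(T)`. -/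
def Extremal (T : Subgroup G) : Prop :=
  ¬ p ∣ ((S : Subgroup G) ⊓ Subgroup.normalizer (T : Set G)).relIndex (Subgroup.normalizer (T : Set G))

theorem isPGroup_sylow_inf (H : Subgroup G) : IsPGroup p ↥((S : Subgroup G) ⊓ H) :=
  S.2.to_le inf_le_left

theorem isPGroup_of_le {T : Subgroup G} (hT : T ≤ (S : Subgroup G)) : IsPGroup p T := S.2.to_le hT

theorem Extremal.isSylowIn {T : Subgroup G} (h : Extremal S T) :
    IsSylowIn p ((S : Subgroup G) ⊓ Subgroup.normalizer (T : Set G)) (Subgroup.normalizer (T : Set G)) :=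
  isSylowIn_of_not_dvd inf_le_right (isPGroup_sylow_inf S _) h

theorem exists_conjG_le {P : Subgroup G} (hP : IsPGroup p P) : ∃ g : G, P ^ᶜ g ≤ (S : Subgroup G) := by
  obtain ⟨Q, hQ⟩ := hP.exists_le_sylow
  obtain ⟨g, hg⟩ := MulAction.exists_smul_eq G Q S
  refine ⟨g, ?_⟩
  have h : (Q : Subgroup G) ^ᶜ g = (S : Subgroup G) := by
    rw [← hg]; rfl
  exact (Subgroup.map_mono hQ).trans h.le

theorem exists_extremal {T : Subgroup G} (hT : T ≤ (S : Subgroup G)) :
    ∃ g : G, T ^ᶜ g ≤ (S : Subgroup G) ∧ Extremal S (T ^ᶜ g) := by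
  obtain ⟨P, hP, hTP⟩ := exists_isSylowIn (p := p) (Subgroup.normalizer (T : Set G))
    (Subgroup.le_normalizer) (isPGroup_of_le S hT)
  obtain ⟨g, hg⟩ := exists_conjG_le S hP.2.1
  refine ⟨g, (Subgroup.map_mono hTP).trans hg, ?_⟩
  have hN := normalizer_map_conj T g
  have h2 := hP.map_conj g
  rw [← hN] at h2
  have : P ^ᶜ g = (S : Subgroup G) ⊓ Subgroup.normalizer ((T ^ᶜ g : Subgroup G) : Set G) :=
    (h2.2.2 _ inf_le_right (isPGroup_sylow_inf S _) (le_inf hg h2.1)).symm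
  rw [Extremal, ← this]
  exact not_dvd_relIndex h2

/-- An extremal conjugate receives `N_S(T)`. -/
theorem Extremal.exists_conjG {T U : Subgroup G} (h : Extremal S U) {g : G} (hg : T ^ᶜ g = U) :
    ∃ k : G, T ^ᶜ k = U ∧
      ((S : Subgroup G) ⊓ Subgroup.normalizer (T : Set G)) ^ᶜ k ≤
        (S : Subgroup G) ⊓ Subgroup.normalizer (U : Set G) := by
  have hN := normalizer_map_conj T g
  rw [hg] at hN
  have hle : ((S : Subgroup G) ⊓ Subgroup.normalizer (T : Set G)) ^ᶜ g ≤ Subgroup.normalizer (U : Set G) := by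
    rw [hN]; exact Subgroup.map_mono inf_le_right
  obtain ⟨P, hP, hQP⟩ := exists_isSylowIn (p := p) (Subgroup.normalizer (U : Set G)) hle
    ((isPGroup_sylow_inf S _).map _)
  obtain ⟨n, hn, hne⟩ := hP.conjugate h.isSylowIn
  refine ⟨n * g, ?_, ?_⟩
  · rw [← conjG_conjG, hg, conjG_eq_iff]; exact hn
  · rw [← conjG_conjG, hne]; exact Subgroup.map_mono hQP

/-- Proper subgroups of `S` grow in their normalizers. -/
theorem lt_inf_normalizer {T : Subgroup G} (hT : T ≤ (S : Subgroup G)) (hne : T ≠ (S : Subgroup G)) :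
    T < (S : Subgroup G) ⊓ Subgroup.normalizer (T : Set G) := by
  refine lt_of_le_of_ne (le_inf hT Subgroup.le_normalizer) fun heq => ?_
  haveI : Group.IsNilpotent ↥(S : Subgroup G) := S.2.isNilpotent
  have hlt : T.subgroupOf (S : Subgroup G) < ⊤ := by
    rw [lt_top_iff_ne_top, Ne, Subgroup.subgroupOf_eq_top]
    exact fun hle => hne (le_antisymm hT hle)
  obtain ⟨u, hu, hu'⟩ := SetLike.exists_of_lt (Group.normalizerCondition_of_isNilpotent _ hlt)
  refine hu' (Subgroup.mem_subgroupOf.mpr ?_)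
  rw [heq]
  refine ⟨u.2, Subgroup.mem_normalizer_iff.mpr fun a => ?_⟩
  rw [Subgroup.mem_normalizer_iff] at hu
  constructor
  · intro ha; exact (hu ⟨a, hT ha⟩).mp ha
  · intro ha
    have : a ∈ (S : Subgroup G) := by
      have := mul_mem (mul_mem (inv_mem u.2) (hT ha)) u.2
      simpa [mul_assoc] using this
    exact (hu ⟨a, this⟩).mpr ha

theorem card_lt_inf_normalizer {T : Subgroup G} (hT : T ≤ (S : Subgroup G)) (hne : T ≠ (S : Subgroup G)) :
    Nat.card T < Nat.card ↥((S : Subgroup G) ⊓ Subgroup.normalizer (T : Set G)) :=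
  lt_of_not_ge fun h => (lt_inf_normalizer S hT hne).ne
    (Subgroup.eq_of_le_of_card_ge (lt_inf_normalizer S hT hne).le h)

theorem eq_sylow_of_inf_normalizer {T : Subgroup G} (hT : T ≤ (S : Subgroup G))
    (h : (S : Subgroup G) ⊓ Subgroup.normalizer (T : Set G) ≤ T) : T = (S : Subgroup G) := by
  by_contra hne
  exact not_lt_of_ge h (lt_inf_normalizer S hT hne)

theorem card_le_sylow {T : Subgroup G} (hT : T ≤ (S : Subgroup G)) :
    Nat.card T ≤ Nat.card (S : Subgroup G) := Subgroup.card_le_of_le hT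

end CfsgLib.KGroups.Functor
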