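import Cfsg.Agent.Lib.KGroups.Functor.ChiefFactor
import Cfsg.Agent.Lib.KGroups.Functor.Basic

/-!
The action of a finite group on a `p`-chief factor.
-/

set_option autoImplicit false
set_option linter.unusedSectionVars false

namespace CfsgLib.KGroups.Functor.ChiefAction

open scoped commutatorElement

universe v

variable {p : ℕ} [Fact p.Prime] {X : Type v} [Group X] [Finite X] {U V : Subgroup X}

/-- An action by endomorphisms of an abelian group of exponent `p`, linearised. -/
def toLin {M X : Type*} [CommGroup M] [Module (ZMod p) (Additive M)] [Group X] (act : X → (M →* M))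
    (h1 : act 1 = MonoidHom.id M) (hm : ∀ x y, act (x * y) = (act x).comp (act y)) :
    X →* Module.End (ZMod p) (Additive M) where
  toFun x := AddMonoidHom.toZModLinearMap p (MonoidHom.toAdditive (act x))
  map_one' := by
    refine LinearMap.ext fun a => ?_
    rw [h1]; exact rfl
  map_mul' x y := by
    refine LinearMap.ext fun a => ?_
    show Additive.ofMul (act (x * y) (Additive.toMul a)) = Additive.ofMul (act x (act y (Additive.toMul a)))
    rw [hm]; rfl

theorem commutator_le_of_chief (hc : Cfsg.IsChiefFactor U V) (hU : IsPGroup p U) : ⁅U, U⁆ ≤ V := by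
  obtain ⟨hlt, hUn, hVn, hmax⟩ := hc
  rcases hmax (⁅U, U⁆ ⊔ V) inferInstance le_sup_right (sup_le U.commutator_le_self hlt.le) with h | h
  · exact h ▸ le_sup_left
  · exfalso
    have hnil : Group.IsNilpotent U := hU.isNilpotent
    set f := (QuotientGroup.mk' (V.subgroupOf U))
    have hnt : Nontrivial (U ⧸ V.subgroupOf U) := QuotientGroup.nontrivial_iff.mpr (fun e => by
      rw [Subgroup.subgroupOf_eq_top] at e; exact hlt.not_ge e)
    have : Group.IsSolvable (U ⧸ V.subgroupOf U) := Group.isSolvable_of_surjective (QuotientGroup.mk'_surjective _)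
    refine (Group.IsSolvable.commutator_lt_top_of_nontrivial (U ⧸ V.subgroupOf U)).ne ?_
    have h1 : (commutator U) ⊔ V.subgroupOf U = ⊤ := by
      apply Subgroup.map_injective U.subtype_injective
      rw [Subgroup.map_sup, Subgroup.map_subtype_commutator, Subgroup.map_subgroupOf_eq_of_le hlt.le, h,
        ← MonoidHom.range_eq_map, U.range_subtype]
    rw [commutator_def, ← Subgroup.map_top_of_surjective f (QuotientGroup.mk'_surjective _),
      ← Subgroup.map_commutator, ← commutator_def]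
    conv_rhs => rw [← h1, Subgroup.map_sup]
    rw [show (V.subgroupOf U).map f = ⊥ from (Subgroup.map_eq_bot_iff _).mpr (le_of_eq (QuotientGroup.ker_mk' _).symm),
      sup_bot_eq]

theorem pow_mem_of_chief (hc : Cfsg.IsChiefFactor U V) (hU : IsPGroup p U) {u : X} (hu : u ∈ U) : u ^ p ∈ V := by
  have hcomm := commutator_le_of_chief hc hU
  obtain ⟨hlt, hUn, hVn, hmax⟩ := hc
  let : CommGroup (U ⧸ V.subgroupOf U) :=
    { (inferInstance : Group (U ⧸ V.subgroupOf U)) with
      mul_comm := fun a b => by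
        obtain ⟨a, rfl⟩ := QuotientGroup.mk'_surjective _ a
        obtain ⟨b, rfl⟩ := QuotientGroup.mk'_surjective _ b
        apply commutatorElement_eq_one_iff_mul_comm.mp
        rw [← map_commutatorElement]
        exact (QuotientGroup.eq_one_iff _).mpr (hcomm (Subgroup.commutator_mem_commutator a.2 b.2)) }
  set f := QuotientGroup.mk' (V.subgroupOf U)
  set R := (powMonoidHom p : (U ⧸ V.subgroupOf U) →* (U ⧸ V.subgroupOf U)).range
  let N : Subgroup X := (R.comap f).map U.subtype
  have hN : N.Normal := ⟨by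
    rintro _ ⟨v, ⟨w, hw⟩, rfl⟩ x
    refine ⟨⟨x * v * x⁻¹, hUn.conj_mem _ v.2 x⟩, ?_, rfl⟩
    obtain ⟨w, rfl⟩ := QuotientGroup.mk'_surjective _ w
    refine ⟨f ⟨x * w * x⁻¹, hUn.conj_mem _ w.2 x⟩, ?_⟩
    rw [powMonoidHom_apply, ← map_pow] at hw ⊢
    rw [QuotientGroup.mk'_eq_mk'] at hw ⊢
    obtain ⟨z, hz, e⟩ := hw
    refine ⟨⟨x * z * x⁻¹, hUn.conj_mem _ z.2 x⟩, hVn.conj_mem _ hz x, Subtype.ext ?_⟩
    have e' : (w : X) ^ p * z = v := congrArg Subtype.val e
    show (x * (w : X) * x⁻¹) ^ p * (x * (z : X) * x⁻¹) = x * (v : X) * x⁻¹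
    rw [conj_pow, ← e']
    simp [mul_assoc]⟩
  have hVN : V ≤ N := fun v hv => ⟨⟨v, hlt.le hv⟩, ⟨1, by
    rw [map_one]; exact ((QuotientGroup.eq_one_iff (⟨v, hlt.le hv⟩ : U)).mpr hv).symm⟩, rfl⟩
  rcases hmax N hN hVN (Subgroup.map_subtype_le _) with h | h
  · rw [← h]
    exact ⟨⟨u, hu⟩ ^ p, ⟨f ⟨u, hu⟩, by rw [powMonoidHom_apply, map_pow]⟩, by simp⟩
  · exfalso
    have hRtop : R = ⊤ := by
      rw [← Subgroup.map_comap_eq_self_of_surjective (QuotientGroup.mk'_surjective _) R, ← Subgroup.map_top_of_surjective f (QuotientGroup.mk'_surjective _)]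
      congr 1
      apply Subgroup.map_injective U.subtype_injective
      show N = _
      rw [h, ← MonoidHom.range_eq_map, U.range_subtype]
    have hinj := Finite.injective_iff_surjective.mpr (MonoidHom.range_eq_top.mp hRtop)
    have hnt : Nontrivial (U ⧸ V.subgroupOf U) := QuotientGroup.nontrivial_iff.mpr (fun e => by
      rw [Subgroup.subgroupOf_eq_top] at e; exact hlt.not_ge e)
    obtain ⟨n, hn, hcard⟩ := (IsPGroup.nontrivial_iff_card (hU.to_quotient _)).mp hnt
    obtain ⟨a, ha⟩ := exists_prime_orderOf_dvd_card' p (hcard ▸ dvd_pow_self p hn.ne')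
    have : a = 1 := hinj (by simp only [powMonoidHom_apply, one_pow]; rw [← ha, pow_orderOf_eq_one])
    rw [this, orderOf_one] at ha
    exact (Fact.out : p.Prime).ne_one ha.symm

/-- `u · x u x⁻¹ · … · x^(n-1) u x^(1-n)`. -/
def conjProd {X : Type*} [Group X] (x u : X) : ℕ → X
  | 0 => 1
  | n + 1 => conjProd x u n * (x ^ n * u * (x ^ n)⁻¹)

theorem conjProd_mem {X : Type*} [Group X] {U : Subgroup X} [hU : U.Normal] {x u : X} (hu : u ∈ U) :
    ∀ n, conjProd x u n ∈ U
  | 0 => one_mem _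
  | n + 1 => U.mul_mem (conjProd_mem hu n) (hU.conj_mem u hu _)

/-- Linearisation of a `p`-chief factor: the action by units of the endomorphism algebra. -/
theorem exists_action (hc : Cfsg.IsChiefFactor U V) (hU : IsPGroup p U) :
    ∃ (R : Type v) (_ : Ring R) (_ : Algebra (ZMod p) R) (Φ : X →* Rˣ),
      Finite Φ.range ∧
      (∀ x : X, Φ x = 1 ↔ ∀ u ∈ U, x * u * x⁻¹ * u⁻¹ ∈ V) ∧
      (∀ (g : X) (k : ℕ), Cfsg.iterCommutator U (Subgroup.zpowers g) k ≤ V → ((Φ g : R) - 1) ^ k = 0) ∧
      (∀ K : Subgroup X, K.Normal → IsPGroup p (K.map Φ) → K ≤ Φ.ker) ∧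
      (∀ x : X, ((Φ x : R) - 1) ^ (p - 1) = 0 → ∀ u ∈ U, conjProd x u p ∈ V) := by
  have hcomm := commutator_le_of_chief hc hU
  have hpow : ∀ u ∈ U, u ^ p ∈ V := fun u hu => pow_mem_of_chief hc hU hu
  obtain ⟨hlt, hUn, hVn, hmax⟩ := hc
  let W := V.subgroupOf U
  let : CommGroup (U ⧸ W) :=
    { (inferInstance : Group (U ⧸ W)) with
      mul_comm := fun a b => by
        obtain ⟨a, rfl⟩ := QuotientGroup.mk'_surjective _ a
        obtain ⟨b, rfl⟩ := QuotientGroup.mk'_surjective _ b
        apply commutatorElement_eq_one_iff_mul_comm.mp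
        rw [← map_commutatorElement]
        exact (QuotientGroup.eq_one_iff _).mpr (hcomm (Subgroup.commutator_mem_commutator a.2 b.2)) }
  have hexp : ∀ a : Additive (U ⧸ W), p • a = 0 := fun a => by
    obtain ⟨b, hb⟩ := QuotientGroup.mk'_surjective W (Additive.toMul a)
    apply Additive.toMul.injective
    show (Additive.toMul a) ^ p = 1
    rw [← hb, ← map_pow]
    exact (QuotientGroup.eq_one_iff _).mpr (by simpa [W, Subgroup.mem_subgroupOf] using hpow b b.2)
  have : Module (ZMod p) (Additive (U ⧸ W)) := AddCommGroup.zmodModule hexp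
  let act : X → (U ⧸ W →* U ⧸ W) := fun x =>
    QuotientGroup.map W W (MulAut.conjNormal x : MulAut U).toMonoidHom (fun u hu => by
      show (MulAut.conjNormal x u : U) ∈ W
      rw [Subgroup.mem_subgroupOf, MulAut.conjNormal_apply]
      exact hVn.conj_mem _ hu x)
  have hact : ∀ (x : X) (u : U), act x (QuotientGroup.mk u) = QuotientGroup.mk (MulAut.conjNormal x u) :=
    fun x u => rfl
  have hact1 : act 1 = MonoidHom.id _ := by
    refine QuotientGroup.monoidHom_ext _ (MonoidHom.ext fun u => ?_)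
    show act 1 (QuotientGroup.mk u) = _
    rw [hact]; simp
  have hactm : ∀ x y, act (x * y) = (act x).comp (act y) := fun x y => by
    refine QuotientGroup.monoidHom_ext _ (MonoidHom.ext fun u => ?_)
    show act (x * y) (QuotientGroup.mk u) = act x (act y (QuotientGroup.mk u))
    rw [hact, hact, hact]; simp
  let lin := toLin (p := p) act hact1 hactm
  have hlin : ∀ (x : X) (u : U), lin x (Additive.ofMul (QuotientGroup.mk u : U ⧸ W)) =
      Additive.ofMul (QuotientGroup.mk (MulAut.conjNormal x u) : U ⧸ W) := fun x u => rfl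
  refine ⟨Module.End (ZMod p) (Additive (U ⧸ W)), inferInstance, inferInstance, lin.toHomUnits, ?_, ?_, ?_, ?_, ?_⟩
  · exact Finite.of_surjective lin.toHomUnits.rangeRestrict lin.toHomUnits.rangeRestrict_surjective
  · intro x
    rw [Units.ext_iff, MonoidHom.coe_toHomUnits, Units.val_one]
    constructor
    · intro h u hu
      have h1 := congrArg (fun f : Module.End (ZMod p) _ => f (Additive.ofMul (QuotientGroup.mk (⟨u, hu⟩ : U) : U ⧸ W))) h
      simp only [hlin, Module.End.one_apply] at h1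
      have h2 := QuotientGroup.eq.mp (Additive.ofMul.injective h1)
      rw [Subgroup.mem_subgroupOf] at h2
      simp only [Subgroup.coe_mul, Subgroup.coe_inv, MulAut.conjNormal_apply] at h2
      simpa [mul_assoc] using hVn.conj_mem _ (V.inv_mem h2) u
    · intro h
      refine LinearMap.ext fun a => ?_
      obtain ⟨⟨u, hu⟩, hb⟩ := QuotientGroup.mk'_surjective W (Additive.toMul a)
      have ha : a = Additive.ofMul (QuotientGroup.mk (⟨u, hu⟩ : U) : U ⧸ W) := Additive.toMul.injective hb.symm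
      rw [ha, hlin, Module.End.one_apply]
      congr 1
      rw [QuotientGroup.eq, Subgroup.mem_subgroupOf]
      simp only [Subgroup.coe_mul, Subgroup.coe_inv, MulAut.conjNormal_apply]
      simpa [mul_assoc] using hVn.conj_mem _ (V.inv_mem (h u hu)) u⁻¹
  · intro g k hk
    have hiter : ∀ (k : ℕ) (u : U), ∃ d : U, (d : X) ∈ Cfsg.iterCommutator U (Subgroup.zpowers g) k ∧
        (((lin g - 1) ^ k) (Additive.ofMul (QuotientGroup.mk u : U ⧸ W))) = Additive.ofMul (QuotientGroup.mk d : U ⧸ W) := by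
      intro k
      induction k with
      | zero => exact fun u => ⟨u, u.2, by simp⟩
      | succ k ih =>
        intro u
        obtain ⟨d, hd, he⟩ := ih u
        refine ⟨MulAut.conjNormal g d * d⁻¹, ?_, ?_⟩
        · show ((MulAut.conjNormal g d * d⁻¹ : U) : X) ∈ ⁅Cfsg.iterCommutator U (Subgroup.zpowers g) k, Subgroup.zpowers g⁆
          have := Subgroup.inv_mem _ (Subgroup.commutator_mem_commutator hd (Subgroup.mem_zpowers g))
          simpa [commutatorElement_def, mul_assoc] using this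
        · rw [pow_succ', Module.End.mul_apply, he, LinearMap.sub_apply, hlin, Module.End.one_apply]
          rw [QuotientGroup.mk_mul, QuotientGroup.mk_inv, ofMul_mul, ofMul_inv, sub_eq_add_neg]
    show (lin g - 1) ^ k = 0
    refine LinearMap.ext fun a => ?_
    obtain ⟨u, hu⟩ := QuotientGroup.mk'_surjective W (Additive.toMul a)
    have ha : a = Additive.ofMul (QuotientGroup.mk u : U ⧸ W) := Additive.toMul.injective hu.symm
    obtain ⟨d, hd, he⟩ := hiter k u
    rw [ha, he, LinearMap.zero_apply, (QuotientGroup.eq_one_iff d).mpr (hk hd)]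
    rfl
  · intro K hK hKp
    let : MulAction (K.map lin.toHomUnits) (U ⧸ W) :=
      { smul := fun (k : K.map lin.toHomUnits) (a : U ⧸ W) => Additive.toMul (((k : (Module.End (ZMod p) (Additive (U ⧸ W)))ˣ) : Module.End (ZMod p) (Additive (U ⧸ W))) (Additive.ofMul a))
        one_smul := fun a => rfl
        mul_smul := fun k l a => rfl }
    have hdvd : p ∣ Nat.card (U ⧸ W) := by
      have hnt : Nontrivial (U ⧸ W) := QuotientGroup.nontrivial_iff.mpr (fun e => by
        rw [Subgroup.subgroupOf_eq_top] at e; exact hlt.not_ge e)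
      obtain ⟨n, hn, hcard⟩ := (IsPGroup.nontrivial_iff_card (hU.to_quotient W)).mp hnt
      exact hcard ▸ dvd_pow_self p hn.ne'
    have h1 : (1 : U ⧸ W) ∈ MulAction.fixedPoints (K.map lin.toHomUnits) (U ⧸ W) := fun k => by
      show Additive.toMul (((k : (Module.End (ZMod p) (Additive (U ⧸ W)))ˣ) : Module.End (ZMod p) (Additive (U ⧸ W))) (Additive.ofMul (1 : U ⧸ W))) = 1
      rw [ofMul_one, map_zero, toMul_zero]
    obtain ⟨b, hb, hb1⟩ := hKp.exists_fixed_point_of_prime_dvd_card_of_fixed_point _ hdvd h1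
    let N : Subgroup X :=
      { carrier := {u | u ∈ U ∧ ∀ k ∈ K, k * u * k⁻¹ * u⁻¹ ∈ V}
        one_mem' := ⟨one_mem _, fun k _ => by simp [one_mem]⟩
        mul_mem' := by
          rintro a b ⟨ha, ha'⟩ ⟨hb, hb'⟩
          refine ⟨U.mul_mem ha hb, fun k hk => ?_⟩
          have h2 := V.mul_mem (ha' k hk) (hVn.conj_mem _ (hb' k hk) a)
          simpa [mul_assoc] using h2
        inv_mem' := by
          rintro a ⟨ha, ha'⟩
          refine ⟨U.inv_mem ha, fun k hk => ?_⟩
          have h2 := hVn.conj_mem _ (V.inv_mem (ha' k hk)) a⁻¹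
          simpa [mul_assoc] using h2 }
    have hN : N.Normal := ⟨by
      rintro u ⟨hu, hu'⟩ x
      refine ⟨hUn.conj_mem u hu x, fun k hk => ?_⟩
      have h2 := hVn.conj_mem _ (hu' _ (hK.conj_mem k hk x⁻¹)) x
      simpa [mul_assoc] using h2⟩
    have hVN : V ≤ N := fun v hv => ⟨hlt.le hv, fun k _ => V.mul_mem (hVn.conj_mem v hv k) (V.inv_mem hv)⟩
    rcases hmax N hN hVN (fun u hu => hu.1) with h | h
    · exfalso
      obtain ⟨⟨u, hu⟩, rfl⟩ := QuotientGroup.mk'_surjective W b
      apply hb1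
      refine ((QuotientGroup.eq_one_iff _).mpr ?_).symm
      rw [Subgroup.mem_subgroupOf]
      show u ∈ V
      rw [← h]
      refine ⟨hu, fun k hk => ?_⟩
      have h2 := hb ⟨lin.toHomUnits k, Subgroup.mem_map_of_mem _ hk⟩
      change Additive.toMul (lin k (Additive.ofMul (QuotientGroup.mk (⟨u, hu⟩ : U) : U ⧸ W))) = _ at h2
      rw [hlin, toMul_ofMul] at h2
      have h3 := QuotientGroup.eq.mp h2
      rw [Subgroup.mem_subgroupOf] at h3
      simp only [Subgroup.coe_mul, Subgroup.coe_inv, MulAut.conjNormal_apply] at h3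
      simpa [mul_assoc] using hVn.conj_mem _ (V.inv_mem h3) u
    · intro k hk
      rw [MonoidHom.mem_ker, Units.ext_iff, MonoidHom.coe_toHomUnits, Units.val_one]
      refine LinearMap.ext fun a => ?_
      obtain ⟨⟨u, hu⟩, hb'⟩ := QuotientGroup.mk'_surjective W (Additive.toMul a)
      have ha : a = Additive.ofMul (QuotientGroup.mk (⟨u, hu⟩ : U) : U ⧸ W) := Additive.toMul.injective hb'.symm
      rw [ha, hlin, Module.End.one_apply]
      congr 1
      rw [QuotientGroup.eq, Subgroup.mem_subgroupOf]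
      simp only [Subgroup.coe_mul, Subgroup.coe_inv, MulAut.conjNormal_apply]
      have huN : u ∈ N := h.symm ▸ hu
      simpa [mul_assoc] using hVn.conj_mem _ (V.inv_mem (huN.2 k hk)) u⁻¹
  · intro x hx u hu
    have hsum : ∀ (n : ℕ), (∑ i ∈ Finset.range n, (lin x) ^ i) (Additive.ofMul (QuotientGroup.mk (⟨u, hu⟩ : U) : U ⧸ W)) =
        Additive.ofMul (QuotientGroup.mk (⟨conjProd x u n, conjProd_mem hu n⟩ : U) : U ⧸ W) := by
      intro n
      induction n with
      | zero =>
        rw [Finset.sum_range_zero, LinearMap.zero_apply]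
        rfl
      | succ n ih =>
        rw [Finset.sum_range_succ, LinearMap.add_apply, ih, ← map_pow, hlin, ← ofMul_mul, ← QuotientGroup.mk_mul]
        congr 2
    have h0 : ∑ i ∈ Finset.range p, (lin x) ^ i = 0 := by
      rw [ChiefFactor.geom_sum_eq_sub_pow]; exact hx
    have h1 := hsum p
    rw [h0, LinearMap.zero_apply] at h1
    have h2 := (QuotientGroup.eq_one_iff _).mp (Additive.ofMul.injective h1).symm
    rwa [Subgroup.mem_subgroupOf] at h2

/-- In a group whose Sylow subgroup is maximal, an element acting nontrivially on a chief factor in `O_p`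
does not have degree below `p` there, if `X / O_p(X)` has a normal p-complement. -/
theorem false_of_small_degree (S : Sylow p X) (hco : IsCoatom (S : Subgroup X))
    (hnpc : Cfsg.HasNormalPComplement p (X ⧸ Cfsg.pCore p X)) {g : X} (hgS : g ∈ (S : Subgroup X))
    {U V : Subgroup X} (hc : Cfsg.IsChiefFactor U V) (hUT : U ≤ Cfsg.pCore p X)
    (hsmall : Cfsg.iterCommutator U (Subgroup.zpowers g) (p - 1) ≤ V)
    (hnon : ¬ ⁅U, Subgroup.zpowers g⁆ ≤ V) : False := by
  set T := Cfsg.pCore p X with hT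
  have hTn : T.Normal := LocalEven.SylowIn.pCore_normal X p
  obtain ⟨R, iR, iA, Φ, hfin, hker, hdeg, hirr, -⟩ := exists_action hc ((Solvable.Cores.isPGroup_pCore p).to_le hUT)
  have hTker : T ≤ Φ.ker := hirr T hTn ((Solvable.Cores.isPGroup_pCore p).map Φ)
  have hgker : g ∉ Φ.ker := by
    intro hg
    apply hnon
    rw [Subgroup.commutator_le]
    intro u hu z hz
    have hz' := (hker z).mp (Subgroup.zpowers_le.mpr hg hz) u hu
    have := V.inv_mem hz'
    simpa [commutatorElement_def, mul_assoc] using this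
  set π := QuotientGroup.mk' T
  set ψ : X ⧸ T →* Rˣ := QuotientGroup.lift T Φ hTker with hψ
  have hψπ : ∀ x, ψ (π x) = Φ x := fun x => rfl
  set Q := Cfsg.pResidual p (X ⧸ T) with hQ
  have hQc : (Nat.card Q).Coprime p := Fusion.Basic.npc_iff_coprime.mp hnpc
  set P := (S : Subgroup X).map π with hP
  have hPp : IsPGroup p P := S.2.map π
  have hPQ : P ⊓ Q = ⊥ := Fusion.Basic.inf_eq_bot_of_coprime hPp hQc
  have hPn : ∀ L : Subgroup (X ⧸ T), L ≤ Q → P ≤ Subgroup.normalizer (L : Set (X ⧸ T)) → L = ⊥ ∨ L = Q := by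
    intro L hL hn
    have hle : (S : Subgroup X) ≤ (P ⊔ L).comap π := Subgroup.map_le_iff_le_comap.mp le_sup_left
    rcases hle.eq_or_lt with he | hlt
    · refine Or.inl (le_bot_iff.mp (hPQ ▸ le_inf ?_ hL))
      rw [hP, he, Subgroup.map_comap_eq_self_of_surjective (QuotientGroup.mk'_surjective T)]
      exact le_sup_right
    · refine Or.inr (le_antisymm hL fun x hx => ?_)
      have htop := hco.2 _ hlt
      have hmem : x ∈ ((P ⊔ L : Subgroup (X ⧸ T)) : Set (X ⧸ T)) := by
        rw [← Subgroup.map_comap_eq_self_of_surjective (QuotientGroup.mk'_surjective T) (P ⊔ L), htop,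
          Subgroup.map_top_of_surjective _ (QuotientGroup.mk'_surjective T)]
        trivial
      rw [Subgroup.coe_mul_of_left_le_normalizer_right P L hn] at hmem
      obtain ⟨u, hu, l, hl, rfl⟩ := hmem
      have hu' : u ∈ P ⊓ Q := ⟨hu, by simpa using Q.mul_mem hx (Q.inv_mem (hL hl))⟩
      rw [hPQ, Subgroup.mem_bot] at hu'
      simpa [hu'] using hl
  have hQn : P ≤ Subgroup.normalizer (Q : Set (X ⧸ T)) := by
    rw [Subgroup.normalizer_eq_top]; exact le_top
  have hQcomm : ∀ a ∈ Q, ∀ b ∈ Q, a * b = b * a := by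
    rcases eq_or_ne Q ⊥ with hb | hb
    · intro a ha b _
      rw [hb, Subgroup.mem_bot] at ha
      simp [ha]
    obtain ⟨q, hq, hqd⟩ := Nat.exists_prime_and_dvd (show Nat.card Q ≠ 1 by
      exact fun h => hb (Subgroup.card_eq_one.mp h))
    have : Fact q.Prime := ⟨hq⟩
    have hcop : (Nat.card P).Coprime (Nat.card Q) := by
      obtain ⟨k, hk⟩ := hPp.exists_card_eq
      rw [hk]
      exact Nat.Coprime.pow_left k hQc.symm
    have hPs : Group.IsSolvable P := by
      have := hPp.isNilpotent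
      infer_instance
    obtain ⟨Qq, hQq⟩ := Coprime.exists_invariant_sylow hQn hcop (Or.inl hPs) q
    have hQqp : IsPGroup q Q := by
      rcases hPn ((Qq : Subgroup Q).map Q.subtype) (Subgroup.map_subtype_le _) hQq with h | h
      · rw [Subgroup.map_eq_bot_iff_of_injective _ Q.subtype_injective] at h
        exact absurd h (Qq.ne_bot_of_dvd_card hqd)
      · exact h ▸ Qq.2.map _
    have hnil : Group.IsNilpotent Q := hQqp.isNilpotent
    have hcn : P ≤ Subgroup.normalizer ((⁅Q, Q⁆ : Subgroup (X ⧸ T)) : Set (X ⧸ T)) := by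
      rw [Subgroup.normalizer_eq_top]; exact le_top
    rcases hPn ⁅Q, Q⁆ Q.commutator_le_self hcn with h | h
    · intro a ha b hb'
      apply commutatorElement_eq_one_iff_mul_comm.mp
      rw [← Subgroup.mem_bot, ← h]
      exact Subgroup.commutator_mem_commutator ha hb'
    · exfalso
      have hnt : Nontrivial Q := (Subgroup.nontrivial_iff_ne_bot _).mpr hb
      refine (Group.IsSolvable.commutator_lt_top_of_nontrivial Q).ne (Subgroup.map_injective Q.subtype_injective ?_)
      rw [Subgroup.map_subtype_commutator, h, ← MonoidHom.range_eq_map, Q.range_subtype]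
  set C := Q.map ψ with hC
  have hCn : ∀ x : X, ∀ c ∈ C, Φ x * c * (Φ x)⁻¹ ∈ C := by
    rintro x _ ⟨a, ha, rfl⟩
    exact ⟨π x * a * (π x)⁻¹, Fusion.Basic.pResidual_normal.conj_mem a ha _, by rw [map_mul, map_mul, map_inv, hψπ]⟩
  have : IsMulCommutative C := ⟨⟨by
    rintro ⟨_, a, ha, rfl⟩ ⟨_, b, hb, rfl⟩
    apply Subtype.ext
    show ψ a * ψ b = ψ b * ψ a
    rw [← map_mul, ← map_mul, hQcomm a ha b hb]⟩⟩
  have : Finite C := Finite.of_surjective _ (ψ.subgroupMap_surjective Q)
  have hcomm := ChiefFactor.commute_of_sub_pow (Φ g) (hdeg g (p - 1) hsmall) C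
    (Nat.Coprime.coprime_dvd_left (Subgroup.card_map_dvd _ ψ) hQc) (hCn g)
  set P0 := (S : Subgroup X).map Φ ⊓ Subgroup.centralizer (C : Set Rˣ) with hP0
  have hP0S : ∀ s ∈ (S : Subgroup X), ∀ y ∈ P0, Φ s * y * (Φ s)⁻¹ ∈ P0 := by
    rintro s hs y ⟨hy1, hy2⟩
    refine ⟨Subgroup.mul_mem _ (Subgroup.mul_mem _ (Subgroup.mem_map_of_mem _ hs) hy1)
      (Subgroup.inv_mem _ (Subgroup.mem_map_of_mem _ hs)), Subgroup.mem_centralizer_iff.mpr fun c hcC => ?_⟩
    have hc' : (Φ s)⁻¹ * c * Φ s ∈ C := by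
      simpa using hCn s⁻¹ c hcC
    calc c * (Φ s * y * (Φ s)⁻¹) = Φ s * ((Φ s)⁻¹ * c * Φ s * y) * (Φ s)⁻¹ := by simp [mul_assoc]
      _ = Φ s * (y * ((Φ s)⁻¹ * c * Φ s)) * (Φ s)⁻¹ := by rw [Subgroup.mem_centralizer_iff.mp hy2 _ hc']
      _ = _ := by simp [mul_assoc]
  have hK : (P0.comap Φ).Normal := ⟨by
    intro y hy x
    rw [Subgroup.mem_comap] at hy ⊢
    obtain ⟨w, hw, u, ⟨s, hs, rfl⟩, he⟩ := Fusion.Basic.exists_eq_pResidual_mul
      (S.mapSurjective (QuotientGroup.mk'_surjective T)) (π x)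
    have hx : Φ x = ψ w * Φ s := by rw [← hψπ x, he, map_mul, hψπ]
    have h1 := hP0S s hs _ hy
    have h2 : ψ w * (Φ s * Φ y * (Φ s)⁻¹) = Φ s * Φ y * (Φ s)⁻¹ * ψ w :=
      Subgroup.mem_centralizer_iff.mp h1.2 _ ⟨w, hw, rfl⟩
    rw [map_mul, map_mul, map_inv, hx]
    have h3 : ψ w * Φ s * Φ y * (ψ w * Φ s)⁻¹ = (ψ w * (Φ s * Φ y * (Φ s)⁻¹)) * (ψ w)⁻¹ := by simp [mul_assoc]
    rw [h3, h2, mul_inv_cancel_right]
    exact h1⟩
  refine hgker (hirr _ hK ((S.2.map Φ).to_le ((Subgroup.map_comap_le _ _).trans inf_le_left)) ?_)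
  exact ⟨Subgroup.mem_map_of_mem _ hgS, Subgroup.mem_centralizer_iff.mpr fun c hcC => (hcomm c hcC).symm⟩

end CfsgLib.KGroups.Functor.ChiefAction
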