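import Mathlib.GroupTheory.PGroup
import Mathlib.GroupTheory.Nilpotent
import Mathlib.GroupTheory.GroupAction.Basic

/-!
Products over the orbits of a p-group, when the products along the cycles of generators vanish.
-/

set_option autoImplicit false
set_option linter.unusedSectionVars false

namespace CfsgLib.KGroups.Functor.OrbitProd

variable {p : ℕ} [Fact p.Prime] {K : Type*} [Group K] [Finite K] {Ω : Type*} [MulAction K Ω] [Fintype Ω]
  {A : Type*} [CommGroup A]

theorem exists_index_eq (hK : IsPGroup p K) {H : Subgroup K} (hH : H ≠ ⊤) :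
    ∃ L : Subgroup K, H ≤ L ∧ L.Normal ∧ L.index = p := by
  obtain ⟨L, hL, hHL⟩ := (Finite.to_wellFoundedGT).wf.has_min {L : Subgroup K | H ≤ L ∧ L ≠ ⊤} ⟨H, le_rfl, hH⟩
  obtain ⟨hHL', hLtop⟩ := hL
  have := hK.isNilpotent
  have hco : IsCoatom L := ⟨hLtop, fun M hM => by
    by_contra hne
    exact hHL M ⟨hHL'.trans hM.le, hne⟩ hM⟩
  have hn : L.Normal := Subgroup.NormalizerCondition.normal_of_coatom L (Group.normalizerCondition_of_isNilpotent) hco
  refine ⟨L, hHL', hn, ?_⟩
  have hnt : Nontrivial (K ⧸ L) := QuotientGroup.nontrivial_iff.mpr hLtop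
  obtain ⟨n, hn0, hcard⟩ := (IsPGroup.nontrivial_iff_card (hK.to_quotient L)).mp hnt
  obtain ⟨a, ha⟩ := exists_prime_orderOf_dvd_card' p (hcard ▸ dvd_pow_self p hn0.ne')
  have hlt : L < (Subgroup.zpowers a).comap (QuotientGroup.mk' L) := by
    refine lt_of_le_of_ne (fun x hx => ?_) fun e => ?_
    · show QuotientGroup.mk' L x ∈ Subgroup.zpowers a
      rw [show QuotientGroup.mk' L x = 1 from (QuotientGroup.eq_one_iff x).mpr hx]
      exact one_mem _
    · obtain ⟨b, rfl⟩ := QuotientGroup.mk'_surjective L a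
      have hb : b ∈ (Subgroup.zpowers (QuotientGroup.mk' L b)).comap (QuotientGroup.mk' L) := Subgroup.mem_zpowers _
      rw [← e] at hb
      rw [show QuotientGroup.mk' L b = 1 from (QuotientGroup.eq_one_iff b).mpr hb, orderOf_one] at ha
      exact (Fact.out : p.Prime).ne_one ha.symm
  have htop := hco.2 _ hlt
  rw [Subgroup.index_eq_card, ← ha, ← Nat.card_zpowers]
  rw [show Subgroup.zpowers a = ⊤ by
    rw [← Subgroup.map_comap_eq_self_of_surjective (QuotientGroup.mk'_surjective L) (Subgroup.zpowers a), htop,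
      Subgroup.map_top_of_surjective _ (QuotientGroup.mk'_surjective L)]]
  exact Subgroup.card_top.symm

open MulAction in
/-- The product over an orbit with at least two points vanishes. -/
theorem prod_orbit_eq_one (hK : IsPGroup p K) {D : Set K} (hD : Subgroup.closure D = ⊤) (f : Ω → A)
    (h : ∀ x ∈ D, ∀ q : Ω, ∏ i ∈ Finset.range p, f (x ^ i • q) = 1) (q : Ω)
    (hq : stabilizer K q ≠ ⊤) [Fintype (orbit K q)] : ∏ r : orbit K q, f r = 1 := by
  classical
  have := Fintype.ofFinite K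
  obtain ⟨L, hHL, hLn, hLp⟩ := exists_index_eq hK hq
  obtain ⟨x, hxD, hxL⟩ : ∃ x ∈ D, x ∉ L := by
    by_contra hcon
    push Not at hcon
    have : L = ⊤ := top_le_iff.mp (hD ▸ (Subgroup.closure_le L).mpr hcon)
    rw [this, Subgroup.index_top] at hLp
    exact (Fact.out : p.Prime).ne_one hLp.symm
  have hmem : ∀ i : ℕ, x ^ i ∈ L → p ∣ i := by
    intro i hi
    have hord : orderOf (QuotientGroup.mk' L x) = p := by
      refine orderOf_eq_prime ?_ fun e => hxL ((QuotientGroup.eq_one_iff x).mp e)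
      rw [← hLp, Subgroup.index_eq_card]
      exact pow_card_eq_one'
    rw [← hord, orderOf_dvd_iff_pow_eq_one, ← map_pow]
    exact (QuotientGroup.eq_one_iff _).mpr hi
  let O0 : Finset Ω := Finset.univ.image (fun l : L => (l : K) • q)
  let e : Fin p × O0 → orbit K q := fun z => ⟨x ^ (z.1 : ℕ) • (z.2 : Ω), by
    obtain ⟨l, -, hl⟩ := Finset.mem_image.mp z.2.2
    exact ⟨x ^ (z.1 : ℕ) * l, by show (x ^ (z.1 : ℕ) * (l : K)) • q = _; rw [mul_smul, hl]⟩⟩
  have he : Function.Bijective e := by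
    constructor
    · rintro ⟨i, ⟨r, hr⟩⟩ ⟨j, ⟨s, hs⟩⟩ heq
      obtain ⟨l, -, rfl⟩ := Finset.mem_image.mp hr
      obtain ⟨m, -, rfl⟩ := Finset.mem_image.mp hs
      have h1 : x ^ (i : ℕ) • (l : K) • q = x ^ (j : ℕ) • (m : K) • q := congrArg Subtype.val heq
      have h2 : ((x ^ (j : ℕ) * m)⁻¹ * (x ^ (i : ℕ) * l)) ∈ stabilizer K q := by
        rw [mem_stabilizer_iff, mul_smul, inv_smul_eq_iff, mul_smul, h1, mul_smul]
      have h3 : (x ^ (j : ℕ))⁻¹ * x ^ (i : ℕ) ∈ L := by
        have := L.mul_mem (L.mul_mem m.2 (hHL h2)) (L.inv_mem l.2)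
        simpa [mul_assoc] using this
      have hij : i = j := by
        apply Fin.ext
        rcases le_total (j : ℕ) i with hle | hle
        · obtain ⟨d, hd⟩ := Nat.exists_eq_add_of_le hle
          rw [hd, pow_add, inv_mul_cancel_left] at h3
          have := Nat.eq_zero_of_dvd_of_lt (hmem d h3) (lt_of_le_of_lt (by omega) i.2)
          omega
        · obtain ⟨d, hd⟩ := Nat.exists_eq_add_of_le hle
          rw [hd, pow_add, mul_inv_rev, mul_assoc, inv_mul_cancel, mul_one] at h3
          have := Nat.eq_zero_of_dvd_of_lt (hmem d (inv_mem_iff.mp h3)) (lt_of_le_of_lt (by omega) j.2)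
          omega
      subst hij
      simpa using smul_left_cancel _ h1
    · rintro ⟨r, k, rfl⟩
      have hord : Subgroup.zpowers (QuotientGroup.mk' L x) = ⊤ := by
        have hp' : Nat.card (K ⧸ L) = p := by rw [← Subgroup.index_eq_card, hLp]
        exact zpowers_eq_top_of_prime_card hp' fun e => hxL ((QuotientGroup.eq_one_iff x).mp e)
      obtain ⟨i, hi⟩ : ∃ i : ℕ, (QuotientGroup.mk' L x) ^ i = QuotientGroup.mk' L k :=
        mem_powers_iff_mem_zpowers.mpr (hord ▸ Subgroup.mem_top _)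
      set i' := i % p
      have hl : (x ^ i')⁻¹ * k ∈ L := by
        rw [← QuotientGroup.eq_one_iff]
        show QuotientGroup.mk' L ((x ^ i')⁻¹ * k) = 1
        rw [map_mul, map_inv, ← hi, map_pow]
        have hp' : (QuotientGroup.mk' L x) ^ p = 1 := by
          rw [← hLp, Subgroup.index_eq_card]; exact pow_card_eq_one'
        rw [pow_eq_pow_mod i hp', inv_mul_cancel]
      exact ⟨(⟨i', Nat.mod_lt _ (Fact.out : p.Prime).pos⟩,
        ⟨((x ^ i')⁻¹ * k) • q, Finset.mem_image.mpr ⟨⟨_, hl⟩, Finset.mem_univ _, rfl⟩⟩),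
        Subtype.ext (by show x ^ i' • ((x ^ i')⁻¹ * k) • q = k • q; rw [← mul_smul, mul_inv_cancel_left])⟩
  rw [← he.prod_comp (fun r : orbit K q => f r), Fintype.prod_prod_type_right]
  refine Finset.prod_eq_one fun r _ => ?_
  rw [Fin.prod_univ_eq_prod_range (fun i => f (x ^ i • (r : Ω)))]
  exact h x hxD _

open MulAction in
/-- The product over all points is the product over the fixed points. -/
theorem prod_eq_prod_fixedPoints (hK : IsPGroup p K) {D : Set K} (hD : Subgroup.closure D = ⊤) (f : Ω → A)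
    (h : ∀ x ∈ D, ∀ q : Ω, ∏ i ∈ Finset.range p, f (x ^ i • q) = 1)
    [DecidablePred (· ∈ fixedPoints K Ω)] :
    ∏ q : Ω, f q = ∏ q ∈ Finset.univ.filter (· ∈ fixedPoints K Ω), f q := by
  classical
  rw [← Finset.prod_filter_mul_prod_filter_not Finset.univ (· ∈ fixedPoints K Ω) f]
  suffices hs : ∀ s : Finset Ω, (∀ q ∈ s, q ∉ fixedPoints K Ω) → (∀ (k : K), ∀ q ∈ s, k • q ∈ s) →
      ∏ q ∈ s, f q = 1 by
    rw [hs (Finset.univ.filter fun q => q ∉ fixedPoints K Ω) (fun q hq => (Finset.mem_filter.mp hq).2) (fun k q hq => ?_),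
      mul_one]
    refine Finset.mem_filter.mpr ⟨Finset.mem_univ _, fun hfix => (Finset.mem_filter.mp hq).2 ?_⟩
    intro l
    have h1 := hfix (k * l * k⁻¹)
    rw [← mul_smul, inv_mul_cancel_right, mul_smul] at h1
    exact smul_left_cancel k h1
  intro s
  induction s using Finset.strongInduction with
  | _ s ih =>
  intro hfix hinv
  rcases s.eq_empty_or_nonempty with rfl | ⟨q, hq⟩
  · simp
  have := Fintype.ofFinite (orbit K q)
  set O : Finset Ω := (orbit K q).toFinset with hO
  have hsub : O ⊆ s := by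
    intro r hr
    obtain ⟨k, rfl⟩ := Set.mem_toFinset.mp hr
    exact hinv k q hq
  have hne : stabilizer K q ≠ ⊤ := fun e => hfix q hq fun k => by
    rw [← mem_stabilizer_iff, e]; trivial
  rw [← Finset.prod_sdiff hsub, ih (s \ O) ?_ (fun r hr => hfix r (Finset.mem_sdiff.mp hr).1) (fun k r hr => ?_),
    one_mul]
  · rw [← Finset.prod_coe_sort]
    have h1 := prod_orbit_eq_one hK hD f h q hne
    rw [← h1]
    exact Fintype.prod_equiv (Equiv.subtypeEquivRight (by simp [hO])) _ _ fun r => rfl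
  · exact Finset.sdiff_ssubset hsub ⟨q, Set.mem_toFinset.mpr (mem_orbit_self q)⟩
  · obtain ⟨hr1, hr2⟩ := Finset.mem_sdiff.mp hr
    refine Finset.mem_sdiff.mpr ⟨hinv k r hr1, fun hkr => hr2 ?_⟩
    obtain ⟨l, hl⟩ := Set.mem_toFinset.mp hkr
    refine Set.mem_toFinset.mpr ⟨k⁻¹ * l, ?_⟩
    show (k⁻¹ * l) • q = r
    rw [mul_smul, show l • q = k • r from hl, inv_smul_smul]

end CfsgLib.KGroups.Functor.OrbitProd
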