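import Cfsg.Agent.Lib.KGroups.Functor.ReduceTransfer
import Cfsg.Agent.Lib.KGroups.Functor.ChiefAction
import Cfsg.Agent.Lib.KGroups.Functor.OrbitProd

/-!
A minimal failure of control of transfer has elements of large degree on the chief factors in `O_p`.
-/

set_option autoImplicit false
set_option linter.unusedSectionVars false

namespace CfsgLib.KGroups.Functor

open CfsgLib.LocalEven.SylowIn
open scoped commutatorElement

universe u

variable {G : Type u} [Group G] [Finite G] {p : ℕ} [Fact p.Prime]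

theorem minimalPeriod_one {H : Subgroup G} {t : G} (h : ∀ g : G, g⁻¹ * t * g ∈ H) (q : G ⧸ H) :
    Function.minimalPeriod (t • ·) q = 1 := by
  rw [Function.minimalPeriod_eq_one_iff_isFixedPt]
  induction q using QuotientGroup.induction_on with
  | _ g =>
    show t • (QuotientGroup.mk g : G ⧸ H) = QuotientGroup.mk g
    rw [MulAction.Quotient.smul_mk, QuotientGroup.eq]
    have := H.inv_mem (h g)
    simpa [mul_assoc] using this

/-- The transfer of an element whose conjugates all lie in the subgroup. -/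
theorem transfer_of_conj_mem {H : Subgroup G} {A : Type*} [CommGroup A] (ψ : H →* A) [Fintype (G ⧸ H)] {t : G}
    (h : ∀ g : G, g⁻¹ * t * g ∈ H) :
    MonoidHom.transfer ψ t = ∏ q : G ⧸ H, ψ ⟨q.out⁻¹ * t * q.out, h q.out⟩ := by
  classical
  have : Fintype (Quotient (MulAction.orbitRel (Subgroup.zpowers t) (G ⧸ H))) := Fintype.ofFinite _
  rw [MonoidHom.transfer_eq_prod_quotient_orbitRel_zpowers_quot]
  have hfix : ∀ (q : G ⧸ H), t • q = q := fun q => by
    have h1 := Function.minimalPeriod_eq_one_iff_isFixedPt.mp (minimalPeriod_one h q)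
    exact h1
  have hout : ∀ q : G ⧸ H,
      (Quotient.mk (MulAction.orbitRel (Subgroup.zpowers t) (G ⧸ H)) q).out = q := by
    intro q
    obtain ⟨⟨k, hk⟩, he⟩ := Quotient.mk_out (s := MulAction.orbitRel (Subgroup.zpowers t) (G ⧸ H)) q
    obtain ⟨n, rfl⟩ := Subgroup.mem_zpowers_iff.mp hk
    rw [← he]
    show (t ^ n : G) • q = q
    exact MulAction.mem_stabilizer_iff.mp (Subgroup.zpow_mem _ (MulAction.mem_stabilizer_iff.mpr (hfix q)) n)
  refine (Fintype.prod_bijective (fun q : G ⧸ H => Quotient.mk (MulAction.orbitRel (Subgroup.zpowers t) (G ⧸ H)) q)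
    ⟨fun a b e => by rw [← hout a, ← hout b]; exact congrArg Quotient.out e, Quotient.mk_surjective⟩ _ _ fun q => ?_).symm
  congr 1
  apply Subtype.ext
  show q.out⁻¹ * t * q.out = (Quotient.mk _ q).out.out⁻¹ * t ^ Function.minimalPeriod (t • ·) (Quotient.mk _ q).out * (Quotient.mk _ q).out.out
  rw [hout q, minimalPeriod_one h q, pow_one]

variable {𝓦 : Set (∀ (Q : Type u) [Group Q], Subgroup Q)}

theorem commutator_sylow_le_target (S : Sylow p G) (h𝓦 : ∀ W ∈ 𝓦, Cfsg.IsCharPFunctor.{u} p W) (hne : 𝓦.Nonempty) :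
    ⁅(S : Subgroup G), (S : Subgroup G)⁆ ≤ transferTarget (ind G 𝓦) (S : Subgroup G) ⊤ := by
  obtain ⟨W, hW⟩ := hne
  refine le_iSup₂_of_le (Cfsg.inducedFunctor W) ⟨W, hW, rfl⟩ (le_inf (S : Subgroup G).commutator_le_self ?_)
  have h : (S : Subgroup G) ≤ ⊤ ⊓ Subgroup.normalizer (Cfsg.inducedFunctor W (S : Subgroup G) : Set G) :=
    le_inf le_top (Subgroup.le_normalizer.trans (normalizer_le_normalizer_functor (isConjugacyFunctor_induced (h𝓦 W hW)) S.2))
  exact Subgroup.commutator_mono h h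

variable (S : Sylow p G)

/-- The homomorphism onto `S` modulo a subgroup containing `S'`. -/
def quotHom {M : Subgroup G} :
    (S : Subgroup G) →* Abelianization (S : Subgroup G) ⧸ (M.subgroupOf (S : Subgroup G)).map Abelianization.of :=
  (QuotientGroup.mk' _).comp Abelianization.of

theorem quotHom_eq_one {M : Subgroup G} (hM : ⁅(S : Subgroup G), (S : Subgroup G)⁆ ≤ M) (x : (S : Subgroup G)) :
    quotHom S (M := M) x = 1 ↔ (x : G) ∈ M := by
  refine (QuotientGroup.eq_one_iff _).trans ⟨?_, fun hx => ⟨x, hx, rfl⟩⟩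
  rintro ⟨z, hz, hzx⟩
  have hd : z⁻¹ * x ∈ commutator (S : Subgroup G) := by
    rw [← Abelianization.ker_of, MonoidHom.mem_ker, map_mul, map_inv, hzx, inv_mul_cancel]
  have hd' : ((z⁻¹ * x : (S : Subgroup G)) : G) ∈ M := hM (by
    rw [← Subgroup.map_subtype_commutator]; exact ⟨_, hd, rfl⟩)
  simpa using M.mul_mem hz hd'

/-- An element of `G'` in a normal `p`-subgroup, congruent to its conjugates modulo `M ⊇ S'`, lies in `M`. -/
theorem mem_of_conj_congr {M : Subgroup G} (hM : ⁅(S : Subgroup G), (S : Subgroup G)⁆ ≤ M)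
    {t : G} (ht : t ∈ ⁅(⊤ : Subgroup G), (⊤ : Subgroup G)⁆) (hS : ∀ g : G, g⁻¹ * t * g ∈ (S : Subgroup G))
    (hc : ∀ g : G, g⁻¹ * t * g * t⁻¹ ∈ M) : t ∈ M := by
  classical
  have : Fintype (G ⧸ (S : Subgroup G)) := Fintype.ofFinite _
  have htS : t ∈ (S : Subgroup G) := by simpa using hS 1
  have h1 : MonoidHom.transfer (quotHom S (M := M)) t = 1 := by
    rw [← _root_.commutator_def] at ht
    exact Abelianization.commutator_subset_ker _ ht
  rw [transfer_of_conj_mem _ hS] at h1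
  have h2 : ∀ q : G ⧸ (S : Subgroup G), quotHom S (M := M) ⟨q.out⁻¹ * t * q.out, hS q.out⟩ = quotHom S (M := M) ⟨t, htS⟩ :=
    fun q => by
      rw [← mul_inv_eq_one, ← map_inv, ← map_mul, quotHom_eq_one S hM]
      exact hc q.out
  rw [Finset.prod_congr rfl (fun q _ => h2 q), Finset.prod_const, Finset.card_univ, ← Nat.card_eq_fintype_card,
    ← Subgroup.index_eq_card] at h1
  obtain ⟨k, hk⟩ := S.2 ⟨t, htS⟩
  refine (quotHom_eq_one S hM ⟨t, htS⟩).mp (CharP.eq_one_of_pow_coprime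
    (((Fact.out : p.Prime).coprime_iff_not_dvd.mpr S.not_dvd_index).symm) h1 (k := k) ?_)
  rw [← map_pow, hk, map_one]

/-- The conclusions for a minimal failure of control of transfer. -/
theorem degree_of_minimal (h𝓦 : ∀ W ∈ 𝓦, Cfsg.IsCharPFunctor.{u} p W) (hne : 𝓦.Nonempty)
    (hsub : ∀ K : Subgroup G, K ≠ ⊤ → Cfsg.FamilyControlsTransferIn p (ind G 𝓦) K)
    (hquo : ∀ (N : Subgroup G) [N.Normal], N ≠ ⊥ → Cfsg.FamilyControlsTransferIn p (ind (G ⧸ N) 𝓦) ⊤)
    (hcon : Subgroup.centralizer (Cfsg.pCore p G : Set G) ≤ Cfsg.pCore p G)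
    (hG : ¬ Cfsg.FamilyControlsTransferIn p (ind G 𝓦) ⊤) :
    let T := transferTarget (ind G 𝓦) (S : Subgroup G) ⊤
    let M := Subgroup.normalizer ((T ⊓ Cfsg.pCore p G : Subgroup G) : Set G)
    (M ≠ ⊤ ∧ ∀ H : Subgroup G, (S : Subgroup G) ≤ H → H ≠ ⊤ → H ≤ M) ∧
    (⁅Cfsg.pCore p G, M⁆ ≤ Cfsg.pCore p G ⊓ ⁅M, M⁆ ∧ Cfsg.pCore p G ⊓ ⁅M, M⁆ ≤ Cfsg.pCore p G ⊓ T) ∧
    ∀ x : G, x ∈ (S : Subgroup G) → x ∉ Cfsg.pCore p G → ∃ U V : Subgroup G, Cfsg.IsChiefFactor U V ∧
      U ≤ Cfsg.pCore p G ∧ ¬ Cfsg.iterCommutator U (Subgroup.zpowers x) (p - 1) ≤ V := by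
  classical
  intro T M
  set Q := Cfsg.pCore p G with hQ
  have hQn : Q.Normal := LocalEven.SylowIn.pCore_normal G p
  have hQS : Q ≤ (S : Subgroup G) := Solvable.Cores.pCore_le_sylow S
  have hTS : T ≤ (S : Subgroup G) := (transferTarget_le _ _ _).trans inf_le_left
  have hST : ¬ (S : Subgroup G) ≤ Q := fun hle => hG (familyTransfer_of_le S (by
    have hSn : (S : Subgroup G).Normal := by rw [le_antisymm hle hQS]; exact hQn
    obtain ⟨W, hW⟩ := hne
    refine le_iSup₂_of_le (Cfsg.inducedFunctor W) ⟨W, hW, rfl⟩ (le_of_eq ?_)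
    have htop : Subgroup.normalizer (Cfsg.inducedFunctor W (S : Subgroup G) : Set G) = ⊤ := by
      rw [eq_top_iff, ← Subgroup.normalizer_eq_top (S : Subgroup G)]
      exact normalizer_le_normalizer_functor (isConjugacyFunctor_induced (h𝓦 W hW)) S.2
    rw [htop, top_inf_eq]))
  have hover : ∀ H : Subgroup G, (S : Subgroup G) ≤ H → H ≠ ⊤ → ∀ h ∈ H, ∀ y ∈ Q, h * y * h⁻¹ * y⁻¹ ∈ T ⊓ Q := by
    intro H hSH hH h hh y hy
    have hmem : h * y * h⁻¹ * y⁻¹ ∈ Q := Q.mul_mem (hQn.conj_mem y hy h) (Q.inv_mem hy)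
    exact ⟨inf_commutator_le_target S h𝓦 hSH (hsub H hH)
      ⟨hQS hmem, Subgroup.commutator_mem_commutator hh (hSH (hQS hy))⟩, hmem⟩
  have hSM' : ⁅(S : Subgroup G), (S : Subgroup G)⁆ ≤ T := commutator_sylow_le_target S h𝓦 hne
  have hQbot : Q ≠ ⊥ := by
    intro hbot
    refine hST ((le_top : (S : Subgroup G) ≤ ⊤).trans ?_)
    rw [hbot] at hcon ⊢
    exact le_trans (fun x _ => by simp [Subgroup.mem_centralizer_iff]) hcon
  have hR0 : ¬ Q ⊓ ⁅(⊤ : Subgroup G), ⊤⁆ ≤ T := fun hle => hG (familyTransfer_of_le S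
    ((inf_commutator_le_sup S h𝓦 hsub Q (Solvable.Cores.isPGroup_pCore p) (hquo Q hQbot)
      (fun V hV => normalizer_quotient_pCore_ne_top S hST (h𝓦 V hV))).trans (sup_le le_rfl hle)))
  have hNS : Subgroup.normalizer ((S : Subgroup G) : Set G) ≠ ⊤ := fun e => by
    have : (S : Subgroup G).Normal := Subgroup.normalizer_eq_top_iff.mp e
    exact hST (Solvable.Cores.le_pCore S.2)
  have hHM : ∀ H : Subgroup G, (S : Subgroup G) ≤ H → H ≠ ⊤ → H ≤ M := by
    intro H hSH hH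
    have hfwd : ∀ h ∈ H, ∀ y ∈ T ⊓ Q, h * y * h⁻¹ ∈ T ⊓ Q := fun h hh y hy => by
      simpa using Subgroup.mul_mem _ (hover H hSH hH h hh y hy.2) hy
    intro h hh
    show h ∈ Subgroup.normalizer ((T ⊓ Q : Subgroup G) : Set G)
    rw [Subgroup.mem_normalizer_iff]
    exact fun y => ⟨hfwd h hh y, fun hy => by simpa [mul_assoc] using hfwd h⁻¹ (H.inv_mem hh) _ hy⟩
  have hMne : M ≠ ⊤ := by
    intro htop
    have hEn : (T ⊓ Q).Normal := Subgroup.normalizer_eq_top_iff.mp htop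
    let C : Subgroup G :=
      { carrier := {g | ∀ y ∈ Q, g * y * g⁻¹ * y⁻¹ ∈ T ⊓ Q}
        one_mem' := fun y _ => by simp [one_mem]
        mul_mem' := by
          intro a b ha hb y hy
          have h2 := Subgroup.mul_mem _ (ha _ (hQn.conj_mem y hy b)) (hb y hy)
          simpa [mul_assoc] using h2
        inv_mem' := by
          intro a ha y hy
          have h2 := Subgroup.inv_mem _ (ha _ (hQn.conj_mem y hy a⁻¹))
          simpa [mul_assoc] using h2 }
    have hCn : C.Normal := ⟨fun g hg k y hy => by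
      have h2 := hEn.conj_mem _ (hg _ (hQn.conj_mem y hy k⁻¹)) k
      simpa [mul_assoc] using h2⟩
    have hNC : Subgroup.normalizer ((S : Subgroup G) : Set G) ≤ C := fun g hg => hover _ Subgroup.le_normalizer hNS g hg
    have hCtop : C = ⊤ := by
      rw [eq_top_iff, ← Sylow.normalizer_sup_eq_top (S.subtype (Subgroup.le_normalizer.trans hNC)),
        Sylow.coe_subtype, Subgroup.map_subgroupOf_eq_of_le (Subgroup.le_normalizer.trans hNC)]
      exact sup_le hNC le_rfl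
    apply hR0
    intro t ht
    refine mem_of_conj_congr S hSM' ht.2 (fun g => hQS ?_) (fun g => ?_)
    · simpa using hQn.conj_mem t ht.1 g⁻¹
    · have h1 : g⁻¹ ∈ C := by rw [hCtop]; trivial
      simpa using (h1 t ht.1).1
  have hSMle : (S : Subgroup G) ≤ M := hHM _ le_rfl (fun e => hNS (by rw [e, Subgroup.normalizer_eq_top]))
  refine ⟨⟨hMne, hHM⟩, ⟨le_inf (Subgroup.commutator_le_left Q M)
    (Subgroup.commutator_mono (hQS.trans hSMle) le_rfl), ?_⟩, ?_⟩
  · exact fun y hy => ⟨hy.1, inf_commutator_le_target S h𝓦 hSMle (hsub M hMne) ⟨hQS hy.1, hy.2⟩⟩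
  -- the degree
  intro x hxS hxQ
  by_contra hcon'
  push Not at hcon'
  obtain ⟨R, ⟨hRn, hRle, hRT⟩, hRmin⟩ := (Finite.to_wellFoundedLT).wf.has_min
    {R : Subgroup G | R.Normal ∧ R ≤ Q ⊓ ⁅(⊤ : Subgroup G), ⊤⁆ ∧ ¬ R ≤ T}
    ⟨Q ⊓ ⁅(⊤ : Subgroup G), ⊤⁆, inferInstance, le_rfl, hR0⟩
  obtain ⟨V, ⟨hVn, hVR⟩, hVmax⟩ := (Finite.to_wellFoundedGT).wf.has_min
    {V : Subgroup G | V.Normal ∧ V < R} ⟨⊥, inferInstance, bot_lt_iff_ne_bot.mpr (fun e => hRT (e ▸ bot_le))⟩
  have hchief : Cfsg.IsChiefFactor R V := ⟨hVR, hRn, hVn, fun N hN h1 h2 => by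
    by_contra hboth
    push Not at hboth
    exact hVmax N ⟨hN, lt_of_le_of_ne h2 hboth.2⟩ (lt_of_le_of_ne h1 (Ne.symm hboth.1))⟩
  have hVT : V ≤ T := by
    by_contra hVT
    exact hRmin V ⟨hVn, hVR.le.trans hRle, hVT⟩ hVR
  have hRQ : R ≤ Q := hRle.trans inf_le_left
  obtain ⟨A, iR, iA, Φ, -, -, hdeg, -, hprod⟩ :=
    ChiefAction.exists_action hchief ((Solvable.Cores.isPGroup_pCore p).to_le hRQ)
  let D : Set G := {z | z ∈ (S : Subgroup G) ∧ Cfsg.iterCommutator R (Subgroup.zpowers z) (p - 1) ≤ V}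
  set K := Subgroup.closure D with hK
  have hKS : K ≤ (S : Subgroup G) := (Subgroup.closure_le _).mpr fun z hz => hz.1
  have hxK : x ∈ K := Subgroup.subset_closure ⟨hxS, hcon' R V hchief hRQ⟩
  have hweak : ∀ g : G, K ^ᶜ g ≤ (S : Subgroup G) → g ∈ Subgroup.normalizer (K : Set G) := by
    intro g hg
    refine conjG_eq_iff.mp (Subgroup.eq_of_le_of_card_ge ?_ (card_conjG K g).ge)
    rw [Subgroup.map_le_iff_le_comap, hK, Subgroup.closure_le]
    intro z hz
    refine Subgroup.subset_closure ⟨hg (conjG_mem (Subgroup.subset_closure hz)), ?_⟩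
    have hmap : ∀ n, Cfsg.iterCommutator R (Subgroup.zpowers (g * z * g⁻¹)) n =
        (Cfsg.iterCommutator R (Subgroup.zpowers z) n) ^ᶜ g := by
      intro n
      induction n with
      | zero =>
        show R = R ^ᶜ g
        exact (conjG_eq_iff.mpr (by rw [Subgroup.normalizer_eq_top]; trivial)).symm
      | succ n ih =>
        show ⁅_, _⁆ = (⁅_, _⁆ : Subgroup G) ^ᶜ g
        rw [Subgroup.map_commutator, ih, MonoidHom.map_zpowers]
        rfl
    show Cfsg.iterCommutator R (Subgroup.zpowers (g * z * g⁻¹)) (p - 1) ≤ V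
    rw [hmap]
    exact (Subgroup.map_mono hz.2).trans (conjG_eq_iff.mpr (by rw [Subgroup.normalizer_eq_top]; trivial)).le
  have hSN : (S : Subgroup G) ≤ Subgroup.normalizer (K : Set G) := fun s hs => hweak s
    ((Subgroup.map_mono hKS).trans (conjG_eq_iff.mpr (Subgroup.le_normalizer hs)).le)
  have hNK : Subgroup.normalizer (K : Set G) ≠ ⊤ := by
    intro e
    have : K.Normal := Subgroup.normalizer_eq_top_iff.mp e
    exact hxQ (Solvable.Cores.le_pCore (S.2.to_le hKS) hxK)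
  -- transfer
  apply hRT
  intro t ht
  have htS : t ∈ (S : Subgroup G) := hQS (hRQ ht)
  have hconjR : ∀ g : G, g⁻¹ * t * g ∈ R := fun g => by simpa using hRn.conj_mem t ht g⁻¹
  have hconj : ∀ g : G, g⁻¹ * t * g ∈ (S : Subgroup G) := fun g => hQS (hRQ (hconjR g))
  have : Fintype (G ⧸ (S : Subgroup G)) := Fintype.ofFinite _
  set ψ := quotHom S (M := T)
  set f : G ⧸ (S : Subgroup G) → _ := fun q => ψ ⟨q.out⁻¹ * t * q.out, hconj q.out⟩ with hf
  have h1 : ∏ q, f q = 1 := by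
    rw [hf, ← transfer_of_conj_mem ψ hconj]
    have htG := (hRle ht).2
    rw [← _root_.commutator_def] at htG
    exact Abelianization.commutator_subset_ker _ htG
  have hcyc : ∀ z ∈ {z : K | (z : G) ∈ D}, ∀ q : G ⧸ (S : Subgroup G),
      ∏ i ∈ Finset.range p, f (z ^ i • q) = 1 := by
    intro z hz q
    set a := (z : G)⁻¹
    have ha : ((Φ a : A) - 1) ^ (p - 1) = 0 := hdeg a (p - 1) (by
      rw [Subgroup.zpowers_inv]; exact hz.2)
    set g := q.out
    have hmem : ∀ y ∈ R, g⁻¹ * y * g ∈ (S : Subgroup G) := fun y hy =>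
      hQS (hRQ (by simpa using hRn.conj_mem y hy g⁻¹))
    let θ : R →* _ := ψ.comp
      { toFun := fun y : R => (⟨g⁻¹ * y * g, hmem y y.2⟩ : (S : Subgroup G))
        map_one' := by ext; simp
        map_mul' := fun y y' => by ext; simp [mul_assoc] }
    have hfi : ∀ i : ℕ, f (z ^ i • q) = θ ⟨a ^ i * t * (a ^ i)⁻¹, hRn.conj_mem t ht _⟩ := by
      intro i
      have hq' : (z ^ i • q) = QuotientGroup.mk ((z : G) ^ i * g) := by
        conv_lhs => rw [← QuotientGroup.out_eq' q]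
        rfl
      obtain ⟨⟨s, hs⟩, he⟩ := QuotientGroup.mk_out_eq_mul (S : Subgroup G) ((z : G) ^ i * g)
      show ψ ⟨_, _⟩ = ψ ⟨_, _⟩
      have e : (⟨(z ^ i • q).out⁻¹ * t * (z ^ i • q).out, hconj _⟩ : (S : Subgroup G)) =
          ⟨s, hs⟩⁻¹ * ⟨g⁻¹ * (a ^ i * t * (a ^ i)⁻¹) * g, hmem _ (hRn.conj_mem t ht _)⟩ * ⟨s, hs⟩ := by
        apply Subtype.ext
        show (z ^ i • q).out⁻¹ * t * (z ^ i • q).out = s⁻¹ * (g⁻¹ * (a ^ i * t * (a ^ i)⁻¹) * g) * s
        rw [hq', he]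
        simp [a, mul_assoc, inv_pow]
      show ψ (⟨(z ^ i • q).out⁻¹ * t * (z ^ i • q).out, hconj _⟩ : (S : Subgroup G)) = _
      rw [e, map_mul, map_mul, map_inv, mul_comm ((ψ _)⁻¹), mul_assoc, inv_mul_cancel, mul_one]
    have hprodn : ∀ n, ∏ i ∈ Finset.range n, f (z ^ i • q) =
        θ ⟨ChiefAction.conjProd a t n, ChiefAction.conjProd_mem ht n⟩ := by
      intro n
      induction n with
      | zero =>
        rw [Finset.prod_range_zero]
        exact (map_one θ).symm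
      | succ n ih =>
        rw [Finset.prod_range_succ, ih, hfi, ← map_mul]
        rfl
    rw [hprodn]
    refine (quotHom_eq_one S hSM' _).mpr (hVT ?_)
    simpa using hVn.conj_mem _ (hprod a ha t ht) g⁻¹
  have hDtop : Subgroup.closure {z : K | (z : G) ∈ D} = ⊤ := by
    apply Subgroup.map_injective K.subtype_injective
    rw [MonoidHom.map_closure, ← MonoidHom.range_eq_map, K.range_subtype, hK]
    congr 1
    ext y
    exact ⟨fun ⟨z, hz, e⟩ => e ▸ hz, fun hy => ⟨⟨y, Subgroup.subset_closure hy⟩, hy, rfl⟩⟩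
  have hKp : IsPGroup p K := S.2.to_le hKS
  rw [OrbitProd.prod_eq_prod_fixedPoints hKp hDtop f hcyc] at h1
  set Fx := Finset.univ.filter (· ∈ MulAction.fixedPoints K (G ⧸ (S : Subgroup G))) with hFx
  have hfix : ∀ q ∈ Fx, f q = ψ ⟨t, htS⟩ := by
    intro q hq
    rw [hf, ← mul_inv_eq_one, ← map_inv, ← map_mul]
    refine (quotHom_eq_one S hSM' _).mpr ?_
    have hqN : q.out ∈ Subgroup.normalizer (K : Set G) := by
      refine inv_mem_iff.mp (hweak _ ?_)
      rintro _ ⟨k, hk, rfl⟩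
      have h2 := (Finset.mem_filter.mp hq).2 ⟨k, hk⟩
      rw [← QuotientGroup.out_eq' q] at h2
      change (QuotientGroup.mk (k * q.out) : G ⧸ (S : Subgroup G)) = _ at h2
      have h3 := (S : Subgroup G).inv_mem (QuotientGroup.eq.mp h2)
      simpa [mul_assoc] using h3
    have h4 := hover _ hSN hNK q.out⁻¹ (inv_mem hqN) t (hRQ ht)
    simpa using h4.1
  rw [Finset.prod_congr rfl hfix, Finset.prod_const] at h1
  have hcard : ¬ p ∣ Fx.card := by
    intro hd
    have hmod := hKp.card_modEq_card_fixedPoints (G ⧸ (S : Subgroup G))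
    have hFc : Nat.card (MulAction.fixedPoints K (G ⧸ (S : Subgroup G))) = Fx.card := by
      rw [Nat.card_eq_fintype_card, Fintype.card_subtype]
    rw [hFc, ← Subgroup.index_eq_card] at hmod
    exact S.not_dvd_index ((Nat.ModEq.dvd_iff hmod (dvd_refl p)).mpr hd)
  obtain ⟨k, hk⟩ := S.2 ⟨t, htS⟩
  exact (quotHom_eq_one S hSM' ⟨t, htS⟩).mp (CharP.eq_one_of_pow_coprime
    (((Fact.out : p.Prime).coprime_iff_not_dvd.mpr hcard).symm) h1 (k := k) (by rw [← map_pow, hk, map_one]))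

theorem iterCommutator_map {H : Type*} [Group H] (f : G →* H) (U : Subgroup G) (g : G) :
    ∀ n, (Cfsg.iterCommutator U (Subgroup.zpowers g) n).map f =
      Cfsg.iterCommutator (U.map f) (Subgroup.zpowers (f g)) n
  | 0 => rfl
  | n + 1 => by
    show (⁅_, _⁆ : Subgroup G).map f = ⁅_, _⁆
    rw [Subgroup.map_commutator, iterCommutator_map f U g n, MonoidHom.map_zpowers]

theorem isChiefFactor_map {H : Type*} [Group H] (e : G ≃* H) {U V : Subgroup G} (h : Cfsg.IsChiefFactor U V) :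
    Cfsg.IsChiefFactor (U.map e.toMonoidHom) (V.map e.toMonoidHom) := by
  obtain ⟨h1, h2, h3, h4⟩ := h
  refine ⟨(Subgroup.map_lt_map_iff_of_injective e.injective).mpr h1, h2.map _ e.surjective, h3.map _ e.surjective,
    fun N hN hVN hNU => ?_⟩
  have hcm := Subgroup.map_comap_eq_self_of_surjective (f := e.toMonoidHom) e.surjective N
  rcases h4 (N.comap e.toMonoidHom) (hN.comap _) (Subgroup.map_le_iff_le_comap.mp hVN) (by
    rw [← hcm] at hNU; exact (Subgroup.map_le_map_iff_of_injective e.injective).mp hNU) with h | h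
  · exact Or.inl (by rw [← hcm, h])
  · exact Or.inr (by rw [← hcm, h])

end CfsgLib.KGroups.Functor
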