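import Cfsg.Agent.Lib.KGroups.Functor.Quartic
import Cfsg.Agent.Lib.KGroups.Functor.Sections
import Cfsg.Agent.S1972

/-!
Control of transfer and of strong fusion by the K-infinity functors.
-/

set_option autoImplicit false
set_option linter.unusedSectionVars false

namespace CfsgLib.KGroups.Functor

open Cfsg CfsgLib.LocalEven.SylowIn

universe u

variable {G : Type u} [Group G] [Finite G] {p : ℕ} [Fact p.Prime]

/-- A functor that is one of the two K-infinity functors. -/
def IsKInf (W : ∀ (Q : Type u) [Group Q], Subgroup Q) : Prop :=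
  ∀ (X : Type u) [Group X] [Finite X] (P : Subgroup X), ¬ (Cfsg.inducedFunctor W P).Normal →
    ¬ (Cfsg.inducedFunctor Cfsg.kInfLower P).Normal ∨ ¬ (Cfsg.inducedFunctor Cfsg.kInfUpper P).Normal

theorem isKInf_lower : IsKInf.{u} (fun Q _ => Cfsg.kInfLower Q) := fun _ _ _ _ h => Or.inl h

theorem isKInf_upper : IsKInf.{u} (fun Q _ => Cfsg.kInfUpper Q) := fun _ _ _ _ h => Or.inr h

theorem controlsTransfer_kInf (hp : 5 ≤ p) {W : ∀ (Q : Type u) [Group Q], Subgroup Q}
    (hW : Cfsg.IsCharPFunctor.{u} p W) (hk : IsKInf W) (K R : Subgroup G) [(R.subgroupOf K).Normal] :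
    Cfsg.ControlsTransferIn p (Cfsg.inducedFunctor (G := (↥K ⧸ R.subgroupOf K)) W) ⊤ := by
  refine Cfsg.Agent.S1972.result W hW ?_ K R
  intro K' R' hR' _ T hn
  obtain ⟨g, hgT, hgQ, hdeg, -, -⟩ := Quartic.exists_quartic T (hk _ _ hn)
  refine ⟨g, hgT, hgQ, fun U V hUV hU => ?_⟩
  have := hUV.2.1
  exact (PairDegree.iterCommutator_antitone U _ (by omega : 4 ≤ p - 1)).trans (hdeg U V hUV hU)

theorem controlsTransfer_kInf_top (hp : 5 ≤ p) {W : ∀ (Q : Type u) [Group Q], Subgroup Q}
    (hW : Cfsg.IsCharPFunctor.{u} p W) (hk : IsKInf W) :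
    Cfsg.ControlsTransferIn p (Cfsg.inducedFunctor (G := G) W) ⊤ := by
  obtain ⟨K, R, hR, ⟨e⟩⟩ := (sec_self G).exists_equiv
  have := hR
  obtain ⟨T, h1, h2, h3, h4⟩ := controlsTransfer_kInf hp hW hk K R
  obtain ⟨T', g1, g2, g3, g4⟩ := familyTransfer_of_equiv (𝓦 := {W})
    (fun V hV => Set.mem_singleton_iff.mp hV ▸ hW) e ⟨T, h1, h2, h3, by simpa [ind] using h4⟩
  exact ⟨T', g1, g2, g3, by simpa [ind] using g4⟩

/-- Control of transfer at a given Sylow subgroup. -/
theorem transfer_at (S : Sylow p G) {W : ∀ (Q : Type u) [Group Q], Subgroup Q} (hW : Cfsg.IsCharPFunctor.{u} p W)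
    (h : Cfsg.ControlsTransferIn p (Cfsg.inducedFunctor (G := G) W) ⊤) :
    (S : Subgroup G) ⊓ commutator G = (S : Subgroup G) ⊓
      ⁅Subgroup.normalizer (Cfsg.inducedFunctor W (S : Subgroup G) : Set G),
        Subgroup.normalizer (Cfsg.inducedFunctor W (S : Subgroup G) : Set G)⁆ := by
  obtain ⟨T, h1, h2, h3, h4⟩ := h
  have := familyTransfer_change (𝓦 := {Cfsg.inducedFunctor (G := G) W}) (P := (S : Subgroup G)) (H := ⊤)
    (fun V hV => Set.mem_singleton_iff.mp hV ▸ isConjugacyFunctor_induced hW)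
    ⟨T, h1, h2, h3, by simpa using h4⟩ (isSylowIn_top S)
  rw [commutator_def, this]
  simp [transferTarget]

theorem stable_of_equiv {X Y : Type*} [Group X] [Group Y] (e : X ≃* Y)
    (h : Cfsg.IsNormalizerPStable p X) : Cfsg.IsNormalizerPStable p Y := by
  intro P hP g hg hq
  set P' := P.map e.symm.toMonoidHom with hP'
  have hPP : P'.map e.toMonoidHom = P := by
    rw [hP', Subgroup.map_map]
    convert Subgroup.map_id _ using 2
    ext x; simp
  have hN : (Subgroup.normalizer (P' : Set X)).map e.toMonoidHom = Subgroup.normalizer (P : Set Y) := by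
    rw [Subgroup.map_equiv_normalizer_eq, hPP]
  have hC : (Subgroup.centralizer (P' : Set X)).map e.toMonoidHom = Subgroup.centralizer (P : Set Y) := by
    refine le_antisymm ?_ fun y hy => ⟨e.symm y, Subgroup.mem_centralizer_iff.mpr ?_, by simp⟩
    · rintro _ ⟨x, hx, rfl⟩
      rw [Subgroup.mem_centralizer_iff, ← hPP]
      rintro _ ⟨a, ha, rfl⟩
      show e a * e x = e x * e a
      rw [← map_mul, ← map_mul, Subgroup.mem_centralizer_iff.mp hx a ha]
    · rintro _ ⟨a, ha, rfl⟩
      show e.symm a * e.symm y = e.symm y * e.symm a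
      rw [← map_mul, ← map_mul, Subgroup.mem_centralizer_iff.mp hy a ha]
  have hg' : e.symm g ∈ Subgroup.normalizer (P' : Set X) := by
    rw [← hN] at hg
    obtain ⟨x, hx, rfl⟩ := hg
    simpa using hx
  have hcore := h P' (hP.map _) (e.symm g) hg' (by
    rw [hP', show Subgroup.zpowers (e.symm g) = (Subgroup.zpowers g).map e.symm.toMonoidHom from
      (MonoidHom.map_zpowers e.symm.toMonoidHom g).symm, ← Subgroup.map_commutator, ← Subgroup.map_commutator, hq, Subgroup.map_bot])
  set N' := Subgroup.normalizer (P' : Set X)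
  set N := Subgroup.normalizer (P : Set Y)
  let eN : N' ≃* N := (N'.equivMapOfInjective e.toMonoidHom e.injective).trans (MulEquiv.subgroupCongr hN)
  have heC : ((Subgroup.centralizer (P' : Set X)).subgroupOf N').map eN.toMonoidHom =
      (Subgroup.centralizer (P : Set Y)).subgroupOf N := by
    ext y
    rw [Subgroup.mem_subgroupOf, ← hC]
    constructor
    · rintro ⟨x, hx, rfl⟩
      exact ⟨(x : X), hx, rfl⟩
    · rintro ⟨x, hx, hxy⟩
      obtain ⟨z, rfl⟩ := eN.surjective y
      exact ⟨z, by have hz := e.injective hxy; rw [hz] at hx; exact hx, rfl⟩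
  let eQ := QuotientGroup.congr ((Subgroup.centralizer (P' : Set X)).subgroupOf N')
    ((Subgroup.centralizer (P : Set Y)).subgroupOf N) eN heC
  rw [← CfsgLib.Solvable.Cores.map_pCore eQ p]
  refine ⟨_, hcore, ?_⟩
  show QuotientGroup.mk (eN ⟨e.symm g, hg'⟩) = _
  congr 1
  exact Subtype.ext (e.apply_symm_apply g)

/-- All sections p-stable: a K-infinity subgroup controls strong fusion. -/
theorem controlsFusion_kInf {W : ∀ (Q : Type u) [Group Q], Subgroup Q}
    (hW : Cfsg.IsCharPFunctor.{u} p W) (hk : IsKInf W)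
    (hst : ∀ (K R : Subgroup G) [_hR : (R.subgroupOf K).Normal], Cfsg.IsNormalizerPStable p (↥K ⧸ R.subgroupOf K))
    (S : Sylow p G) : Cfsg.ControlsStrongFusion p (Cfsg.inducedFunctor W (S : Subgroup G)) := by
  refine controlsStrongFusion_of_family hW S (familyControls_of_sections
    (fun V hV => Set.mem_singleton_iff.mp hV ▸ hW) (fun K R _ hc => ?_) G (sec_self G))
  obtain ⟨T⟩ : Nonempty (Sylow p (↥K ⧸ R.subgroupOf K)) := inferInstance
  refine family_of_normal T ?_
  by_contra hn
  obtain ⟨g, -, -, -, -, hex⟩ := Quartic.exists_quartic T (hk _ _ hn)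
  obtain ⟨N, hN, hbad⟩ := hex hc
  obtain ⟨K', R', hR', ⟨e⟩⟩ := ((sec_mk K R).of_surjective _ (QuotientGroup.mk'_surjective N)).exists_equiv
  exact hbad (stable_of_equiv e (@hst K' R' hR'))

end CfsgLib.KGroups.Functor
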