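import Cfsg.Agent.Lib.KGroups.Functor.Section
import Cfsg.Agent.Lib.KGroups.CharP
import Cfsg.Agent.Lib.Fusion.Basic
import Cfsg.Agent.Lib.Coprime.Sylow

/-!
Normal subgroups of index `p` from control of transfer in all sections.
-/

set_option autoImplicit false
set_option linter.unusedSectionVars false

namespace CfsgLib.KGroups.Functor

open CfsgLib.LocalEven.SylowIn
open scoped commutatorElement

universe u

variable {G : Type u} [Group G] [Finite G] {p : ℕ} [Fact p.Prime]

theorem exists_normal_index_of_not_le (S : Sylow p G) (h : ¬ (S : Subgroup G) ≤ ⁅(⊤ : Subgroup G), ⊤⁆) :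
    ∃ N : Subgroup G, N.Normal ∧ N.index = p := by
  rw [← commutator_def] at h
  obtain ⟨s, hs, hsD⟩ := SetLike.not_le_iff_exists.mp h
  set f := (Abelianization.of : G →* Abelianization G)
  have hfin : Finite (Abelianization G) := Finite.of_surjective f (QuotientGroup.mk_surjective : Function.Surjective (Abelianization.of : G → Abelianization G))
  have hne : f s ≠ 1 := fun e => hsD (by rw [← Abelianization.ker_of]; exact e)
  -- an element of order p in the abelianization
  have hdvd : p ∣ Nat.card (Abelianization G) := by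
    obtain ⟨k, hk⟩ := S.2 ⟨s, hs⟩
    have hk' : orderOf (f s) ∣ p ^ k := orderOf_dvd_of_pow_eq_one (by
      rw [← map_pow, show s ^ p ^ k = 1 from congrArg Subtype.val hk, map_one])
    obtain ⟨j, hj, hj'⟩ := (Nat.dvd_prime_pow Fact.out).mp hk'
    rcases Nat.eq_zero_or_pos j with rfl | hpos
    · exact absurd (orderOf_eq_one_iff.mp (by simpa using hj')) hne
    · exact dvd_trans (hj' ▸ dvd_pow_self p hpos.ne') (orderOf_dvd_natCard _)
  obtain ⟨a, ha⟩ := exists_prime_orderOf_dvd_card' p hdvd
  set R := (powMonoidHom p : Abelianization G →* Abelianization G).range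
  have hRne : R ≠ ⊤ := by
    intro e
    have hinj := Finite.injective_iff_surjective.mpr (MonoidHom.range_eq_top.mp e)
    have : a = 1 := hinj (by simp only [powMonoidHom_apply, one_pow]; rw [← ha, pow_orderOf_eq_one])
    rw [this, orderOf_one] at ha
    exact (Fact.out : p.Prime).ne_one ha.symm
  have hQp : IsPGroup p (Abelianization G ⧸ R) := by
    intro x
    obtain ⟨y, rfl⟩ := QuotientGroup.mk'_surjective R x
    exact ⟨1, by rw [pow_one, ← map_pow]; exact (QuotientGroup.eq_one_iff _).mpr ⟨y, rfl⟩⟩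
  obtain ⟨j, hj⟩ := hQp.exists_card_eq
  have hj0 : j ≠ 0 := by
    rintro rfl
    exact hRne (Subgroup.index_eq_one.mp (by rw [pow_zero] at hj; exact hj))
  obtain ⟨U, hU⟩ := Sylow.exists_subgroup_card_pow_prime p (G := Abelianization G ⧸ R) (n := j - 1)
    (by rw [hj]; exact pow_dvd_pow p (Nat.sub_le j 1))
  refine ⟨U.comap ((QuotientGroup.mk' R).comp f), ⟨fun x hx g => ?_⟩, ?_⟩
  · rw [Subgroup.mem_comap] at hx ⊢
    rw [map_mul, map_mul, map_inv, mul_comm (((QuotientGroup.mk' R).comp f) g), mul_inv_cancel_right]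
    exact hx
  · rw [Subgroup.index_comap_of_surjective U (show Function.Surjective ((QuotientGroup.mk' R).comp f) from
      fun y => let ⟨a, ha⟩ := QuotientGroup.mk'_surjective R y; let ⟨b, hb⟩ := QuotientGroup.mk_surjective a; ⟨b, by rw [MonoidHom.comp_apply, ← ha, ← hb]; rfl⟩)]
    have h2 := U.index_mul_card
    rw [hU, hj] at h2
    obtain ⟨i, rfl⟩ := Nat.exists_eq_succ_of_ne_zero hj0
    rw [Nat.succ_sub_one, pow_succ, mul_comm] at h2
    exact mul_left_cancel₀ (pow_ne_zero _ (Fact.out : p.Prime).pos.ne') h2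

theorem not_sylow_le_commutator (S : Sylow p G) {N : Subgroup G} [N.Normal] (h : N.index = p) :
    ¬ (S : Subgroup G) ≤ ⁅(⊤ : Subgroup G), ⊤⁆ := by
  intro hle
  have hle2 : (S : Subgroup G) ≤ N := by
    refine hle.trans ?_
    have : IsCyclic (G ⧸ N) := isCyclic_of_prime_card (p := p) h
    rw [← commutator_def, ← (QuotientGroup.ker_mk' N)]
    let : CommGroup (G ⧸ N) := IsCyclic.commGroup
    exact Abelianization.commutator_subset_ker _
  have h2 := Subgroup.index_dvd_of_le hle2
  rw [h] at h2
  exact S.not_dvd_index h2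

/-- The `p'`-elements of the normalizer of the image of `S`. -/
theorem centralizes_image {H : Type u} [Group H] [Finite H] (φ : G →* H) (hφ : Function.Surjective φ)
    (S : Sylow p G) (hker : φ.ker ≤ (S : Subgroup G))
    (hN : ∀ g ∈ Subgroup.normalizer ((S : Subgroup G) : Set G), (orderOf g).Coprime p →
      g ∈ Subgroup.centralizer ((S : Subgroup G) : Set G))
    (x : H) (hx : x ∈ Subgroup.normalizer ((S : Subgroup G).map φ : Set H)) (hxp : (orderOf x).Coprime p) :
    x ∈ Subgroup.centralizer ((S : Subgroup G).map φ : Set H) := by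
  obtain ⟨g, rfl⟩ := hφ x
  have hgN : g ∈ Subgroup.normalizer ((S : Subgroup G) : Set G) := by
    have hcomap : ((S : Subgroup G).map φ).comap φ = (S : Subgroup G) := by
      rw [Subgroup.comap_map_eq, sup_eq_left.mpr hker]
    rw [Subgroup.mem_normalizer_iff] at hx ⊢
    intro a
    rw [← hcomap, Subgroup.mem_comap, Subgroup.mem_comap, map_mul, map_mul, map_inv]
    exact hx (φ a)
  obtain ⟨k, hk⟩ := Fusion.Basic.exists_pow_coprime (p := p) g
  have h1 := hN _ (Subgroup.pow_mem _ hgN (p ^ k)) hk
  have h2 : φ g ^ p ^ k ∈ Subgroup.centralizer ((S : Subgroup G).map φ : Set H) := by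
    rw [← map_pow, Subgroup.mem_centralizer_iff]
    rintro _ ⟨s, hs, rfl⟩
    rw [← map_mul, ← map_mul, Subgroup.mem_centralizer_iff.mp h1 s hs]
  obtain ⟨m, hm⟩ := exists_pow_eq_self_of_coprime (x := φ g) (n := p ^ k) (Nat.Coprime.pow_left k hxp.symm)
  rw [← hm]
  exact Subgroup.pow_mem _ h2 m

theorem exists_index_p_sec {W : ∀ (Q : Type u) [Group Q], Subgroup Q} (hW : Cfsg.IsCharPFunctor.{u} p W)
    (hctl : ∀ (X : Type u) [Group X] [Finite X], Sec G X → Cfsg.ControlsTransferIn p (Cfsg.inducedFunctor (G := X) W) ⊤) :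
    ∀ (n : ℕ) (X : Type u) [Group X] [Finite X], Nat.card X = n → Sec G X → ∀ S : Sylow p X, (S : Subgroup X) ≠ ⊥ →
      (∀ g ∈ Subgroup.normalizer ((S : Subgroup X) : Set X), (orderOf g).Coprime p → g ∈ Subgroup.centralizer ((S : Subgroup X) : Set X)) →
      ¬ (S : Subgroup X) ≤ ⁅(⊤ : Subgroup X), ⊤⁆ := by
  intro n
  induction n using Nat.strong_induction_on with
  | _ n ih =>
  intro X _ _ hn hX S hS hN
  subst hn
  set V := Cfsg.inducedFunctor W (S : Subgroup X) with hV
  have hVle : V ≤ (S : Subgroup X) := inducedFunctor_le W _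
  have hcf := isConjugacyFunctor_induced (X := X) hW
  have hVne : V ≠ ⊥ := (hcf _ S.2).2.1 hS
  obtain ⟨T, hT1, hT2, hT3, hT4⟩ := hctl X hX
  have hfam := familyTransfer_change (𝓦 := {Cfsg.inducedFunctor (G := X) W})
    (fun U hU => Set.mem_singleton_iff.mp hU ▸ hcf) ⟨T, hT1, hT2, hT3, by simpa using hT4⟩ (isSylowIn_top S)
  simp only [transferTarget, Set.mem_singleton_iff, iSup_iSup_eq_left, top_inf_eq] at hfam
  set L := Subgroup.normalizer (V : Set X) with hL
  have hSL : (S : Subgroup X) ≤ L := Subgroup.le_normalizer.trans (normalizer_le_normalizer_functor hcf S.2)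
  intro hle
  rcases ne_or_eq L ⊤ with hLne | hLtop
  · have hlt : Nat.card L < Nat.card X := lt_of_le_of_ne (Subgroup.card_le_card_group L) fun e =>
      hLne (Subgroup.eq_top_of_card_eq L e)
    refine ih _ hlt L rfl (hX.of_subgroup L) (S.subtype hSL) ?_ (fun g hg hgp => ?_) ?_
    · intro e
      have h0 := congrArg (Subgroup.map L.subtype) e
      rw [Sylow.coe_subtype, Subgroup.map_subgroupOf_eq_of_le hSL, Subgroup.map_bot] at h0
      exact hS h0
    · rw [Sylow.coe_subtype] at hg ⊢
      have hgN : (g : X) ∈ Subgroup.normalizer ((S : Subgroup X) : Set X) := by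
        rw [Subgroup.mem_normalizer_iff] at hg ⊢
        intro a
        constructor
        · intro ha; exact (hg ⟨a, hSL ha⟩).mp ha
        · intro ha
          have haL : a ∈ L := by simpa [mul_assoc] using L.mul_mem (L.mul_mem (L.inv_mem g.2) (hSL ha)) g.2
          exact (hg ⟨a, haL⟩).mpr ha
      have h1 := hN _ hgN (by rwa [Subgroup.orderOf_coe])
      rw [Subgroup.mem_centralizer_iff]
      exact fun s hs => Subtype.ext (Subgroup.mem_centralizer_iff.mp h1 (s : X) hs)
    · intro x hx
      have h1 : (x : X) ∈ ((S : Subgroup X) ⊓ ⁅(⊤ : Subgroup X), ⊤⁆ : Subgroup X) := ⟨hx, hle hx⟩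
      rw [hfam] at h1
      have h2 := h1.2
      rw [← Subgroup.map_subtype_commutator] at h2
      obtain ⟨z, hz, hzx⟩ := h2
      rw [← commutator_def, ← Subtype.ext hzx]
      exact hz
  · have hVn : V.Normal := Subgroup.normalizer_eq_top_iff.mp hLtop
    have hlt : Nat.card (X ⧸ V) < Nat.card X := by
      rw [← Subgroup.card_mul_index V]
      exact lt_mul_of_one_lt_left (Nat.pos_of_ne_zero Subgroup.index_ne_zero_of_finite)
        ((Subgroup.one_lt_card_iff_ne_bot V).mpr hVne)
    rcases ne_or_eq V (S : Subgroup X) with hVS | hVS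
    · refine ih _ hlt (X ⧸ V) rfl (hX.of_surjective _ (QuotientGroup.mk'_surjective V))
        (S.mapSurjective (QuotientGroup.mk'_surjective V)) ?_ ?_ ?_
      · intro e
        rw [Sylow.coe_mapSurjective, Subgroup.map_eq_bot_iff, QuotientGroup.ker_mk'] at e
        exact hVS (le_antisymm hVle e)
      · intro x hx hxp
        rw [Sylow.coe_mapSurjective] at hx ⊢
        exact centralizes_image _ (QuotientGroup.mk'_surjective V) S (by rwa [QuotientGroup.ker_mk']) hN x hx hxp
      · rw [Sylow.coe_mapSurjective, ← Subgroup.map_top_of_surjective _ (QuotientGroup.mk'_surjective V),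
          ← Subgroup.map_commutator]
        exact Subgroup.map_mono hle
    · have hSn : (S : Subgroup X).Normal := hVS ▸ hVn
      have hfoc : (S : Subgroup X) ⊓ ⁅(⊤ : Subgroup X), ⊤⁆ ≤ ⁅(S : Subgroup X), (S : Subgroup X)⁆ := by
        refine inf_commutator_le_of_focal (isSylowIn_top S) fun x hx g _ _ => ?_
        obtain ⟨w, hw, u, hu, rfl⟩ := Fusion.Basic.exists_eq_pResidual_mul S g
        have hwc : w ∈ Subgroup.centralizer ((S : Subgroup X) : Set X) := by
          refine (Subgroup.closure_le _).mpr (fun q hq => hN q ?_ hq) hw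
          rw [Subgroup.normalizer_eq_top]; trivial
        have h1 : u * x * u⁻¹ ∈ (S : Subgroup X) := Subgroup.mul_mem _ (Subgroup.mul_mem _ hu hx) (Subgroup.inv_mem _ hu)
        have h2 : w * (u * x * u⁻¹) * w⁻¹ = u * x * u⁻¹ := by
          rw [← Subgroup.mem_centralizer_iff.mp hwc _ h1, mul_inv_cancel_right]
        have h3 : w * u * x * (w * u)⁻¹ * x⁻¹ = w * (u * x * u⁻¹) * w⁻¹ * x⁻¹ := by simp [mul_assoc]
        rw [h3, h2]
        simpa [commutatorElement_def] using Subgroup.commutator_mem_commutator hu hx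
      have hnil : Group.IsNilpotent ↥(S : Subgroup X) := S.2.isNilpotent
      have hnt : Nontrivial ↥(S : Subgroup X) := (Subgroup.nontrivial_iff_ne_bot _).mpr hS
      refine (Group.IsSolvable.commutator_lt_top_of_nontrivial ↥(S : Subgroup X)).ne ?_
      refine eq_top_iff.mpr fun x _ => ?_
      have h1 := hfoc ⟨x.2, hle x.2⟩
      rw [← Subgroup.map_subtype_commutator] at h1
      obtain ⟨z, hz, hzx⟩ := h1
      exact Subtype.ext hzx ▸ hz

end CfsgLib.KGroups.Functor
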