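import Cfsg.Prelude.Def_Transfer
import Cfsg.Agent.Lib.Solvable.FrattiniFitting
import Mathlib.GroupTheory.Sylow
import Mathlib.GroupTheory.SpecificGroups.KleinFour
import Mathlib.Logic.Relation

/-!
Connectivity of the commuting graph on small elementary abelian subgroups of a 2-group
with a large normal elementary abelian subgroup.
-/

set_option autoImplicit false
set_option linter.unusedSectionVars false

namespace CfsgLib.KGroups.Functor.ElemChain

open scoped commutatorElement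

variable {P : Type*} [Group P] [Finite P]

/-- Consecutive members commute elementwise. -/
def Step (k : ℕ) (A B : Subgroup P) : Prop :=
  Cfsg.IsElementaryAbelian 2 A ∧ Nat.card A = 2 ^ k ∧ Cfsg.IsElementaryAbelian 2 B ∧ Nat.card B = 2 ^ k ∧
    ∀ a ∈ A, ∀ b ∈ B, a * b = b * a

theorem step_symm {k : ℕ} {A B : Subgroup P} (h : Step k A B) : Step k B A :=
  ⟨h.2.2.1, h.2.2.2.1, h.1, h.2.1, fun b hb a ha => (h.2.2.2.2 a ha b hb).symm⟩

theorem comm {A : Subgroup P} (h : Cfsg.IsElementaryAbelian 2 A) {a b : P} (ha : a ∈ A) (hb : b ∈ A) :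
    a * b = b * a :=
  congrArg Subtype.val (h.1.is_comm.comm (⟨a, ha⟩ : A) ⟨b, hb⟩)

theorem isElementaryAbelian_of_le {A B : Subgroup P} (h : Cfsg.IsElementaryAbelian 2 B) (hAB : A ≤ B) :
    Cfsg.IsElementaryAbelian 2 A :=
  ⟨⟨⟨fun a b => Subtype.ext (comm h (hAB a.2) (hAB b.2))⟩⟩, fun a ha => h.2 a (hAB ha)⟩

theorem isPGroup_of_elementary {A : Subgroup P} (h : Cfsg.IsElementaryAbelian 2 A) : IsPGroup 2 A :=
  fun a => ⟨1, Subtype.ext (by simpa using h.2 a a.2)⟩

theorem exists_between {A K : Subgroup P} (hKA : K ≤ A) {n m : ℕ} (hK : Nat.card K = 2 ^ n) (hnm : n ≤ m)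
    (hA : 2 ^ m ∣ Nat.card A) : ∃ B : Subgroup P, K ≤ B ∧ B ≤ A ∧ Nat.card B = 2 ^ m := by
  have := Fact.mk Nat.prime_two
  obtain ⟨B, hB, hKB⟩ := Sylow.exists_subgroup_card_pow_prime_le 2 hA (K.subgroupOf A)
    ((Nat.card_congr (Subgroup.subgroupOfEquivOfLe hKA).toEquiv).trans hK) hnm
  refine ⟨B.map A.subtype, fun x hx => ⟨⟨x, hKA hx⟩, hKB hx, rfl⟩, Subgroup.map_subtype_le B, ?_⟩
  rw [Subgroup.card_map_of_injective A.subtype_injective, hB]

theorem exists_adjoin {K : Subgroup P} (hK : Cfsg.IsElementaryAbelian 2 K) {n : ℕ} (hc : Nat.card K = 2 ^ n) {e : P}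
    (he : e ^ 2 = 1) (hKe : ∀ a ∈ K, a * e = e * a) (heK : e ∉ K) :
    ∃ L : Subgroup P, K ≤ L ∧ e ∈ L ∧ (∀ x ∈ L, x ∈ K ∨ x * e ∈ K) ∧ Cfsg.IsElementaryAbelian 2 L ∧
      Nat.card L = 2 ^ (n + 1) := by
  have hee : e * e = 1 := by rw [← sq, he]
  let L : Subgroup P :=
    { carrier := {x | x ∈ K ∨ x * e ∈ K}
      one_mem' := Or.inl K.one_mem
      mul_mem' := by
        rintro x y (hx | hx) (hy | hy)
        · exact Or.inl (K.mul_mem hx hy)
        · exact Or.inr (by rw [mul_assoc]; exact K.mul_mem hx hy)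
        · refine Or.inr ?_
          have h1 := K.mul_mem hx hy
          rw [mul_assoc, ← hKe y hy, ← mul_assoc] at h1
          exact h1
        · refine Or.inl ?_
          have h1 := K.mul_mem hx hy
          rwa [mul_assoc x e, ← hKe (y * e) hy, mul_assoc y e e, hee, mul_one] at h1
      inv_mem' := by
        rintro x (hx | hx)
        · exact Or.inl (K.inv_mem hx)
        · refine Or.inr ?_
          have h1 := K.inv_mem hx
          rw [mul_inv_rev, inv_eq_of_mul_eq_one_right hee] at h1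
          have h2 : x⁻¹ * e = e * x⁻¹ := by
            have h3 : Commute (x * e) e := hKe _ hx
            have h4 : Commute x e := by
              have := h3.mul_left (Commute.refl e)
              rwa [mul_assoc, hee, mul_one] at this
            exact h4.inv_left.eq
          rwa [h2] }
  have hdec : ∀ x ∈ L, x ∈ K ∨ x * e ∈ K := fun x hx => hx
  have hrep : ∀ x ∈ L, ∃ a ∈ K, x = a ∨ x = a * e := by
    rintro x (hx | hx)
    · exact ⟨x, hx, Or.inl rfl⟩
    · exact ⟨x * e, hx, Or.inr (by rw [mul_assoc, hee, mul_one])⟩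
  have hel : Cfsg.IsElementaryAbelian 2 L := by
    refine ⟨⟨⟨fun ⟨x, hx⟩ ⟨y, hy⟩ => Subtype.ext ?_⟩⟩, fun x hx => ?_⟩
    · show Commute x y
      obtain ⟨a, ha, ha'⟩ := hrep x hx
      obtain ⟨b, hb, hb'⟩ := hrep y hy
      have hab : Commute a b := comm hK ha hb
      have hae : Commute a e := hKe a ha
      have hbe : Commute b e := hKe b hb
      rcases ha' with rfl | rfl <;> rcases hb' with rfl | rfl
      · exact hab
      · exact hab.mul_right hae
      · exact hab.mul_left hbe.symm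
      · exact (hab.mul_right hae).mul_left (hbe.symm.mul_right (Commute.refl e))
    · obtain ⟨a, ha, rfl | rfl⟩ := hrep x hx
      · exact hK.2 x ha
      · rw [Commute.mul_pow (hKe a ha), hK.2 a ha, he, mul_one]
  refine ⟨L, fun x hx => Or.inl hx, Or.inr (by rw [hee]; exact K.one_mem), hdec, hel, ?_⟩
  obtain ⟨m, hm⟩ := (isPGroup_of_elementary hel).exists_card_eq
  have hlt : Nat.card K < Nat.card L := lt_of_not_ge fun hge => heK ((Subgroup.eq_of_le_of_card_ge
    (fun x hx => Or.inl hx : K ≤ L) hge) ▸ (Or.inr (by rw [hee]; exact K.one_mem) : e ∈ L))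
  have hle : Nat.card L ≤ 2 * Nat.card K := by
    have hsub : (L : Set P) ⊆ (K : Set P) ∪ (fun a => a * e) '' (K : Set P) := by
      intro x hx
      obtain ⟨a, ha, rfl | rfl⟩ := hrep x hx
      · exact Or.inl ha
      · exact Or.inr ⟨a, ha, rfl⟩
    have h1 := (Set.ncard_le_ncard hsub (Set.toFinite _)).trans (Set.ncard_union_le _ _)
    have h2 := Set.ncard_image_le (f := fun a : P => a * e) (s := (K : Set P)) (Set.toFinite _)
    rw [← Nat.card_coe_set_eq, ← Nat.card_coe_set_eq] at h1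
    rw [← Nat.card_coe_set_eq, ← Nat.card_coe_set_eq] at h2
    rw [← Nat.card_coe_set_eq] at h1
    show Nat.card (L : Set P) ≤ 2 * Nat.card (K : Set P)
    omega
  rw [hm] at hlt hle ⊢
  rw [hc] at hlt hle
  have h3 : n < m := (Nat.pow_lt_pow_iff_right one_lt_two).mp hlt
  have h4 : m ≤ n + 1 := (Nat.pow_le_pow_iff_right one_lt_two).mp (by rw [pow_succ']; exact hle)
  rw [show m = n + 1 by omega]

/-- An involution fixes at least the square root of an invariant elementary abelian subgroup. -/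
theorem card_le_sq {D : Subgroup P} (hD : Cfsg.IsElementaryAbelian 2 D) {u : P} (hu : u ^ 2 = 1)
    (hn : ∀ d ∈ D, u * d * u⁻¹ ∈ D) :
    Nat.card D ≤ Nat.card (D ⊓ Subgroup.centralizer ({u} : Set P) : Subgroup P) ^ 2 := by
  have huu : u * u = 1 := by rw [← sq, hu]
  set C := D ⊓ Subgroup.centralizer ({u} : Set P)
  let f : D →* D :=
    { toFun := fun d => ⟨u * d * u⁻¹ * d, D.mul_mem (hn d d.2) d.2⟩
      map_one' := by ext; simp
      map_mul' := fun a b => by
        apply Subtype.ext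
        show u * ((a : P) * b) * u⁻¹ * ((a : P) * b) = (u * a * u⁻¹ * a) * (u * b * u⁻¹ * b)
        have h1 : (a : P) * (u * b * u⁻¹) = (u * b * u⁻¹) * a := comm hD a.2 (hn b b.2)
        calc u * ((a : P) * b) * u⁻¹ * ((a : P) * b) = u * a * u⁻¹ * ((u * b * u⁻¹) * a) * b := by simp [mul_assoc]
          _ = _ := by rw [← h1]; simp [mul_assoc] }
  have hker : Nat.card f.ker ≤ Nat.card C := by
    rw [← Subgroup.card_map_of_injective (f := D.subtype) D.subtype_injective]
    refine Subgroup.card_le_of_le ?_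
    rintro _ ⟨d, hd, rfl⟩
    refine ⟨d.2, Subgroup.mem_centralizer_iff.mpr fun y hy => ?_⟩
    rw [Set.mem_singleton_iff.mp hy]
    have h1 : u * (d : P) * u⁻¹ * d = 1 := congrArg Subtype.val hd
    have h2 : u * (d : P) * u⁻¹ = (d : P) := by
      rw [mul_eq_one_iff_eq_inv.mp h1, inv_eq_of_mul_eq_one_right (by rw [← sq]; exact hD.2 d d.2)]
    exact mul_inv_eq_iff_eq_mul.mp h2
  have hran : Nat.card f.range ≤ Nat.card C := by
    rw [← Subgroup.card_map_of_injective (f := D.subtype) D.subtype_injective]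
    refine Subgroup.card_le_of_le ?_
    rintro _ ⟨_, ⟨d, rfl⟩, rfl⟩
    refine ⟨(f d).2, Subgroup.mem_centralizer_iff.mpr fun y hy => ?_⟩
    rw [Set.mem_singleton_iff.mp hy]
    show u * (u * d * u⁻¹ * d) = (u * d * u⁻¹ * d) * u
    have h1 : (u * (d : P) * u⁻¹) * d = d * (u * d * u⁻¹) := comm hD (hn d d.2) d.2
    conv_rhs => rw [h1]
    rw [← mul_assoc u, ← mul_assoc u, ← mul_assoc u u, huu, one_mul]
    rw [inv_eq_of_mul_eq_one_right huu]
    simp [mul_assoc, huu]
  have h := Subgroup.card_mul_index f.ker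
  rw [Subgroup.index_ker] at h
  rw [← h, sq]
  exact Nat.mul_le_mul hker hran

variable {E : Subgroup P} [E.Normal]

theorem card_le_pow (hE : Cfsg.IsElementaryAbelian 2 E) {A : Subgroup P} (hA : Cfsg.IsElementaryAbelian 2 A) {f : ℕ}
    (hF : Nat.card (A ⊓ E : Subgroup P) = 2 ^ f) :
    ∀ (j : ℕ) (B : Subgroup P), A ⊓ E ≤ B → B ≤ A → Nat.card B = 2 ^ (f + j) →
      Nat.card E ≤ Nat.card (E ⊓ Subgroup.centralizer (B : Set P) : Subgroup P) ^ 2 ^ j := by
  intro j
  induction j with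
  | zero =>
    intro B hFB _ hB
    obtain rfl : A ⊓ E = B := Subgroup.eq_of_le_of_card_ge hFB (by rw [hB, hF, Nat.add_zero])
    rw [pow_zero, pow_one]
    exact Subgroup.card_le_of_le (le_inf le_rfl fun x hx => Subgroup.mem_centralizer_iff.mpr fun y hy =>
      comm hE hy.2 hx)
  | succ j ih =>
    intro B hFB hBA hB
    obtain ⟨K, hFK, hKB, hK⟩ := exists_between hFB hF (Nat.le_add_right f j)
      (by rw [hB]; exact pow_dvd_pow 2 (by omega))
    obtain ⟨u, huB, huK⟩ : ∃ u ∈ B, u ∉ K := SetLike.not_le_iff_exists.mp fun hle => by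
      have := Subgroup.card_le_of_le hle
      rw [hB, hK, Nat.pow_le_pow_iff_right one_lt_two] at this
      omega
    have h1 := ih K hFK (hKB.trans hBA) hK
    set D := E ⊓ Subgroup.centralizer (K : Set P) with hD
    have hun : ∀ d ∈ D, u * d * u⁻¹ ∈ D := by
      rintro d ⟨hdE, hdK⟩
      refine ⟨(inferInstance : E.Normal).conj_mem d hdE u, Subgroup.mem_centralizer_iff.mpr fun y hy => ?_⟩
      have hyu : Commute y u := comm hA (hBA (hKB hy)) (hBA huB)
      have hyd : Commute y d := Subgroup.mem_centralizer_iff.mp hdK y hy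
      exact ((hyu.mul_right hyd).mul_right hyu.inv_right).eq
    have h2 := card_le_sq (isElementaryAbelian_of_le hE (inf_le_left : D ≤ E)) (hA.2 u (hBA huB)) hun
    have h3 : Nat.card (D ⊓ Subgroup.centralizer ({u} : Set P) : Subgroup P) ≤
        Nat.card (E ⊓ Subgroup.centralizer (B : Set P) : Subgroup P) := by
      refine Subgroup.card_le_of_le ?_
      rintro d ⟨⟨hdE, hdK⟩, hdu⟩
      refine ⟨hdE, ?_⟩
      obtain ⟨L, hKL, huL, hLdec, -, hLc⟩ := exists_adjoin (isElementaryAbelian_of_le hA (hKB.trans hBA)) hK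
        (hA.2 u (hBA huB)) (fun a ha => comm hA (hBA (hKB ha)) (hBA huB)) huK
      have hLB : L ≤ B := fun x hx => by
        rcases hLdec x hx with h | h
        · exact hKB h
        · have := B.mul_mem (hKB h) (B.inv_mem huB)
          rwa [mul_inv_cancel_right] at this
      have hLe : L = B := Subgroup.eq_of_le_of_card_ge hLB (by rw [hB, hLc]; rfl)
      rw [← hLe]
      refine Subgroup.mem_centralizer_iff.mpr ?_
      intro x hx
      have hdu' : u * d = d * u := Subgroup.mem_centralizer_iff.mp hdu u rfl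
      rcases hLdec x hx with h | h
      · exact Subgroup.mem_centralizer_iff.mp hdK x h
      · have hh : Commute (x * u) d := Subgroup.mem_centralizer_iff.mp hdK _ h
        have := hh.mul_left (Commute.inv_left (hdu' : Commute u d))
        rw [mul_inv_cancel_right] at this
        exact this.eq
    calc Nat.card E ≤ Nat.card D ^ 2 ^ j := h1
      _ ≤ (Nat.card (E ⊓ Subgroup.centralizer (B : Set P) : Subgroup P) ^ 2) ^ 2 ^ j :=
          Nat.pow_le_pow_left (h2.trans (Nat.pow_le_pow_left h3 2)) _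
      _ = _ := by rw [← pow_mul, pow_succ']

/-- Every small elementary abelian subgroup is linked to one inside `E`. -/
theorem linked (hP : IsPGroup 2 P) (hE : Cfsg.IsElementaryAbelian 2 E) {k : ℕ} (hk : 1 ≤ k) (hkE : 2 ^ k ≤ Nat.card E)
    (hbig : ∀ f, 1 ≤ f → f < k → (2 ^ f) ^ 2 ^ (k - f) < Nat.card E) {A : Subgroup P}
    (hA : Cfsg.IsElementaryAbelian 2 A) (hAc : Nat.card A = 2 ^ k) :
    ∃ B : Subgroup P, B ≤ E ∧ Relation.ReflTransGen (Step k) A B := by
  have := Fact.mk Nat.prime_two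
  have := hP.isNilpotent
  have hEne : E ≠ ⊥ := fun e => by
    rw [e, Subgroup.card_bot] at hkE
    have := Nat.one_lt_two_pow (show k ≠ 0 by omega)
    omega
  obtain ⟨z, hz, hz1⟩ : ∃ z ∈ E ⊓ Subgroup.center P, z ≠ 1 := (Subgroup.bot_or_exists_ne_one _).resolve_left
    (CfsgLib.Solvable.FrattiniFitting.inf_center_ne_bot E hEne)
  suffices key : ∀ (d : ℕ) (A : Subgroup P), Cfsg.IsElementaryAbelian 2 A → Nat.card A = 2 ^ k → z ∈ A →
      Nat.card A - Nat.card (A ⊓ E : Subgroup P) = d → ∃ B : Subgroup P, B ≤ E ∧ Relation.ReflTransGen (Step k) A B by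
    by_cases hzA : z ∈ A
    · exact key _ A hA hAc hzA rfl
    obtain ⟨K, -, hKA, hK⟩ := exists_between (bot_le : ⊥ ≤ A) (n := 0) (by rw [Subgroup.card_bot, pow_zero])
      (Nat.zero_le (k - 1)) (by rw [hAc]; exact pow_dvd_pow 2 (Nat.sub_le k 1))
    obtain ⟨L, -, hzL, hLdec, hL, hLc⟩ := exists_adjoin (isElementaryAbelian_of_le hA hKA) hK (hE.2 z hz.1)
      (fun a _ => Subgroup.mem_center_iff.mp hz.2 a) (fun h => hzA (hKA h))
    rw [Nat.sub_add_cancel hk] at hLc
    obtain ⟨B, hB, hch⟩ := key _ L hL hLc hzL rfl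
    refine ⟨B, hB, Relation.ReflTransGen.head ⟨hA, hAc, hL, hLc, fun a ha b hb => ?_⟩ hch⟩
    have hze : Commute a z := Subgroup.mem_center_iff.mp hz.2 a
    rcases hLdec b hb with h | h
    · exact comm hA ha (hKA h)
    · have : Commute a (b * z * z⁻¹) := Commute.mul_right (comm hA ha (hKA h)) hze.inv_right
      rwa [mul_inv_cancel_right] at this
  intro d
  induction d using Nat.strong_induction_on with
  | _ d ih =>
  intro A hA hAc hzA hd
  by_cases hAE : A ≤ E
  · exact ⟨A, hAE, Relation.ReflTransGen.refl⟩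
  obtain ⟨f, hf⟩ := ((isPGroup_of_elementary hA).to_le (inf_le_left : A ⊓ E ≤ A)).exists_card_eq
  have hf1 : 1 ≤ f := by
    by_contra h0
    have hcard : Nat.card (A ⊓ E : Subgroup P) = 1 := by rw [hf, show f = 0 by omega, pow_zero]
    have : z ∈ (⊥ : Subgroup P) := Subgroup.card_eq_one.mp hcard ▸ ⟨hzA, hz.1⟩
    exact hz1 (Subgroup.mem_bot.mp this)
  have hfk : f < k := by
    rw [← Nat.pow_lt_pow_iff_right (a := 2) one_lt_two, ← hf, ← hAc]
    exact lt_of_not_ge fun hge => hAE ((Subgroup.eq_of_le_of_card_ge inf_le_left hge).ge.trans inf_le_right)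
  have hb := card_le_pow hE hA hf (k - f) A inf_le_left le_rfl (by rw [hAc, Nat.add_sub_cancel' hfk.le])
  obtain ⟨e, heC, heA⟩ : ∃ e ∈ E ⊓ Subgroup.centralizer (A : Set P), e ∉ A ⊓ E := SetLike.not_le_iff_exists.mp fun hle => by
    have h1 := Nat.pow_le_pow_left (hf ▸ Subgroup.card_le_of_le hle) (2 ^ (k - f))
    have := hbig f hf1 hfk
    omega
  have heA' : e ∉ A := fun h => heA ⟨h, heC.1⟩
  obtain ⟨K, hFK, hKA, hK⟩ := exists_between (inf_le_left : A ⊓ E ≤ A) hf (show f ≤ k - 1 by omega)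
    (by rw [hAc]; exact pow_dvd_pow 2 (Nat.sub_le k 1))
  obtain ⟨L, hKL, heL, hLdec, hL, hLc⟩ := exists_adjoin (isElementaryAbelian_of_le hA hKA) hK (hE.2 e heC.1)
    (fun a ha => Subgroup.mem_centralizer_iff.mp heC.2 a (hKA ha)) (fun h => heA' (hKA h))
  rw [Nat.sub_add_cancel hk] at hLc
  have hlt : Nat.card (A ⊓ E : Subgroup P) < Nat.card (L ⊓ E : Subgroup P) := lt_of_not_ge fun hge =>
    heA ((Subgroup.eq_of_le_of_card_ge (le_inf (hFK.trans hKL) inf_le_right) hge) ▸ ⟨heL, heC.1⟩)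
  have hle : Nat.card (L ⊓ E : Subgroup P) ≤ Nat.card L := Subgroup.card_le_of_le inf_le_left
  obtain ⟨B, hB, hch⟩ := ih (Nat.card L - Nat.card (L ⊓ E : Subgroup P))
    (by rw [hLc] at hle ⊢; omega) L hL hLc (hKL (hFK ⟨hzA, hz.1⟩)) rfl
  refine ⟨B, hB, Relation.ReflTransGen.head ⟨hA, hAc, hL, hLc, fun a ha b hb' => ?_⟩ hch⟩
  have hae : Commute a e := Subgroup.mem_centralizer_iff.mp heC.2 a ha
  rcases hLdec b hb' with h | h
  · exact comm hA ha (hKA h)
  · have : Commute a (b * e * e⁻¹) := Commute.mul_right (comm hA ha (hKA h)) hae.inv_right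
    rwa [mul_inv_cancel_right] at this

theorem connected (hP : IsPGroup 2 P) (hE : Cfsg.IsElementaryAbelian 2 E) {k : ℕ} (hk : 1 ≤ k) (hkE : 2 ^ k ≤ Nat.card E)
    (hbig : ∀ f, 1 ≤ f → f < k → (2 ^ f) ^ 2 ^ (k - f) < Nat.card E) {A A' : Subgroup P}
    (hA : Cfsg.IsElementaryAbelian 2 A) (hAc : Nat.card A = 2 ^ k)
    (hA' : Cfsg.IsElementaryAbelian 2 A') (hAc' : Nat.card A' = 2 ^ k) :
    Relation.ReflTransGen (Step k) A A' := by
  obtain ⟨B, hB, hch⟩ := linked hP hE hk hkE hbig hA hAc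
  obtain ⟨B', hB', hch'⟩ := linked hP hE hk hkE hbig hA' hAc'
  have hin : ∀ C : Subgroup P, Relation.ReflTransGen (Step k) A C → Cfsg.IsElementaryAbelian 2 C ∧ Nat.card C = 2 ^ k := by
    intro C h
    induction h with
    | refl => exact ⟨hA, hAc⟩
    | tail _ h2 _ => exact ⟨h2.2.2.1, h2.2.2.2.1⟩
  have hin' : Cfsg.IsElementaryAbelian 2 B' ∧ Nat.card B' = 2 ^ k := by
    clear hB'
    induction hch' with
    | refl => exact ⟨hA', hAc'⟩
    | tail _ h2 _ => exact ⟨h2.2.2.1, h2.2.2.2.1⟩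
  refine hch.trans (Relation.ReflTransGen.head ⟨(hin B hch).1, (hin B hch).2, hin'.1, hin'.2, fun a ha b hb =>
    comm hE (hB ha) (hB' hb)⟩ ?_)
  clear hB' hin'
  induction hch' with
  | refl => exact Relation.ReflTransGen.refl
  | tail _ h2 ih => exact Relation.ReflTransGen.head (step_symm h2) ih

end CfsgLib.KGroups.Functor.ElemChain
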