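import Cfsg.Agent.Lib.KGroups.Functor.Family

/-!
Local to global control of strong fusion by conjugacy functors.
-/

set_option autoImplicit false

namespace CfsgLib.KGroups.Functor

open CfsgLib.LocalEven.SylowIn

variable {G : Type*} [Group G]

/-- A step inside `N_H(W P)` for some `W ∈ 𝓦`. -/
def CtrlStep (𝓦 : Set (Subgroup G → Subgroup G)) (P H A : Subgroup G) (x : G) : Prop :=
  ∃ W ∈ 𝓦, x ∈ H ⊓ Subgroup.normalizer ((W P : Subgroup G) : Set G) ∧ A ≤ P ∧ A ^ᶜ x ≤ P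

variable {𝓦 : Set (Subgroup G → Subgroup G)} {P H : Subgroup G}

theorem ctrlStep_mono (A B : Subgroup G) (x : G) (h : B ≤ A) (hx : CtrlStep 𝓦 P H A x) :
    CtrlStep 𝓦 P H B x := by
  obtain ⟨W, h1, h2, h3, h4⟩ := hx
  exact ⟨W, h1, h2, h.trans h3, (Subgroup.map_mono h).trans h4⟩

theorem ctrlStep_symm (A : Subgroup G) (x : G) (hx : CtrlStep 𝓦 P H A x) :
    CtrlStep 𝓦 P H (A ^ᶜ x) x⁻¹ := by
  obtain ⟨W, h1, h2, h3, h4⟩ := hx
  exact ⟨W, h1, inv_mem h2, h4, by rwa [conjG_inv_conjG]⟩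

/-- Each step being an agreement of the second relation, so is the chain. -/
theorem Chain.bind [Finite G] {R R' : Subgroup G → G → Prop} {A : Subgroup G} {g : G} (h : Chain R A g)
    (hR : ∀ (B : Subgroup G) (x : G), Nat.card B = Nat.card A → R B x → Agrees R' B x) :
    Agrees R' A g := by
  induction h with
  | refl A => exact (Chain.refl _).agrees
  | @step A x g hx _ ih =>
    exact (hR A x rfl hx).trans (ih fun B y hB hy => hR B y (hB.trans (card_conjG A x)) hy)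

theorem Chain.mem_of_singleton {W : Subgroup G → Subgroup G} {A : Subgroup G} {g : G}
    (h : Chain (CtrlStep {W} P H) A g) : g ∈ H ⊓ Subgroup.normalizer ((W P : Subgroup G) : Set G) := by
  induction h with
  | refl A => exact one_mem _
  | step hx _ ih =>
    obtain ⟨W', hW', hx', -⟩ := hx
    rw [Set.mem_singleton_iff] at hW'
    subst hW'
    exact mul_mem ih hx'

theorem exists_fin_of_ctrlChain {A : Subgroup G} {g : G} (h : Chain (CtrlStep 𝓦 P H) A g) :
    ∀ X : Set G, X ⊆ A → A ≤ P →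
    ∃ (n : ℕ) (c : Fin (n + 1) → G), c 0 = 1 ∧
        (∀ i : Fin n, ∃ W ∈ 𝓦,
          c i.succ * (c i.castSucc)⁻¹ ∈ H ⊓ Subgroup.normalizer ((W P : Subgroup G) : Set G)) ∧
        (∀ i : Fin (n + 1), (fun a => c i * a * (c i)⁻¹) '' X ⊆ P) ∧
        c (Fin.last n) = g := by
  induction h with
  | refl A =>
    intro X hX hA
    refine ⟨0, fun _ => 1, rfl, fun i => i.elim0, fun i => ?_, rfl⟩
    rintro _ ⟨a, ha, rfl⟩
    simpa using hA (hX ha)
  | @step A x g hx _ ih =>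
    intro X hX hA
    obtain ⟨W, hW, hxN, -, hxA⟩ := hx
    obtain ⟨n, c, h0, hstep, himg, hlast⟩ := ih ((fun a => x * a * x⁻¹) '' X)
      (by rintro _ ⟨a, ha, rfl⟩; exact conjG_mem (hX ha)) hxA
    refine ⟨n + 1, Fin.cons 1 (fun i => c i * x), rfl, fun i => ?_, fun i => ?_, ?_⟩
    · refine Fin.cases ?_ (fun j => ?_) i
      · exact ⟨W, hW, by simpa [h0] using hxN⟩
      · obtain ⟨W', hW', hj⟩ := hstep j
        refine ⟨W', hW', ?_⟩
        simpa [← Fin.succ_castSucc, mul_inv_rev, mul_assoc] using hj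
    · refine Fin.cases ?_ (fun j => ?_) i
      · rintro _ ⟨a, ha, rfl⟩
        simpa using hA (hX ha)
      · rintro _ ⟨a, ha, rfl⟩
        have := himg j ⟨_, ⟨a, ha, rfl⟩, rfl⟩
        simpa [mul_assoc] using this
    · simp [← Fin.succ_last, hlast]

theorem chain_of_fin (n : ℕ) (c : Fin (n + 1) → G) (h0 : c 0 = 1) (A : Subgroup G)
    (hstep : ∀ i : Fin n, ∃ W ∈ 𝓦,
          c i.succ * (c i.castSucc)⁻¹ ∈ H ⊓ Subgroup.normalizer ((W P : Subgroup G) : Set G))
    (himg : ∀ i : Fin (n + 1), A ^ᶜ (c i) ≤ P) :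
    ∀ i : Fin (n + 1), Chain (CtrlStep 𝓦 P H) A (c i) := by
  intro i
  induction i using Fin.induction with
  | zero => rw [h0]; exact Chain.refl _
  | succ i ih =>
    obtain ⟨W, hW, hi⟩ := hstep i
    have h1 : CtrlStep 𝓦 P H (A ^ᶜ (c i.castSucc)) (c i.succ * (c i.castSucc)⁻¹) :=
      ⟨W, hW, hi, himg _, by rw [conjG_conjG, inv_mul_cancel_right]; exact himg _⟩
    simpa using ih.trans (Chain.single h1)

variable [Finite G] {p : ℕ} [Fact p.Prime]

/-- The chain form of `FamilyControlsStrongFusionIn`, valid at every Sylow subgroup of `H`. -/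
theorem agrees_of_familyControls (h𝓦 : ∀ W ∈ 𝓦, Cfsg.IsConjugacyFunctor p W)
    (h : Cfsg.FamilyControlsStrongFusionIn p 𝓦 H) (hP : IsSylowIn p P H) {A : Subgroup G} {x : G}
    (hxH : x ∈ H) (hA : A ≤ P) (hxA : A ^ᶜ x ≤ P) : Agrees (CtrlStep 𝓦 P H) A x := by
  obtain ⟨T, hTH, hTp, hTd, hT⟩ := h
  obtain ⟨k, hk, rfl⟩ := (isSylowIn_of_not_dvd hTH hTp hTd).conjugate hP
  have hA' : A ^ᶜ k⁻¹ ≤ T := by
    have := Subgroup.map_mono (f := (MulAut.conj k⁻¹).toMonoidHom) hA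
    rwa [conjG_inv_conjG] at this
  have hxA' : A ^ᶜ (k⁻¹ * x) ≤ T := by
    have := Subgroup.map_mono (f := (MulAut.conj k⁻¹).toMonoidHom) hxA
    rwa [conjG_inv_conjG, conjG_conjG] at this
  obtain ⟨n, c, h0, hstep, himg, hagree⟩ := hT (A ^ᶜ k⁻¹ : Subgroup G) (k⁻¹ * x * k)
    (mul_mem (mul_mem (inv_mem hk) hxH) hk) hA' (by
      rintro _ ⟨_, ⟨a, ha, rfl⟩, rfl⟩
      have := hxA' (conjG_mem ha)
      simpa [mul_assoc] using this)
  refine ⟨k * c (Fin.last n) * k⁻¹, ?_, fun a ha => ?_⟩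
  · refine chain_of_fin n (fun i => k * c i * k⁻¹) (by simp [h0]) A (fun i => ?_) (fun i => ?_) _
    · obtain ⟨W, hW, hi⟩ := hstep i
      refine ⟨W, hW, ?_⟩
      have e : k * c i.succ * k⁻¹ * (k * c i.castSucc * k⁻¹)⁻¹ = k * (c i.succ * (c i.castSucc)⁻¹) * k⁻¹ := by
        group
      rw [e, (h𝓦 W hW T hTp).2.2 k, normalizer_map_conj]
      exact ⟨H.mul_mem (H.mul_mem hk hi.1) (H.inv_mem hk), conjG_mem hi.2⟩
    · rintro _ ⟨a, ha, rfl⟩
      have := himg i ⟨_, conjG_mem (g := k⁻¹) ha, rfl⟩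
      exact ⟨_, this, by simp [mul_assoc]⟩
  · have := congrArg (fun u => k * u * k⁻¹) (hagree _ (conjG_mem (g := k⁻¹) ha))
    simpa [mul_assoc] using this.symm

theorem familyControls_of_agrees (hP : IsSylowIn p P H)
    (h : ∀ (A : Subgroup G) (x : G), x ∈ H → A ≤ P → A ^ᶜ x ≤ P → Agrees (CtrlStep 𝓦 P H) A x) :
    Cfsg.FamilyControlsStrongFusionIn p 𝓦 H := by
  refine ⟨P, hP.1, hP.2.1, not_dvd_relIndex hP, fun X x hx hX hxX => ?_⟩
  have hA : Subgroup.closure X ≤ P := (Subgroup.closure_le _).mpr hX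
  obtain ⟨g, hg, hag⟩ := h _ x hx hA (conjG_closure_le hxX)
  obtain ⟨n, c, h0, h1, h2, h3⟩ := exists_fin_of_ctrlChain hg X Subgroup.subset_closure hA
  exact ⟨n, c, h0, h1, h2, fun a ha => by rw [h3]; exact (hag a (Subgroup.subset_closure ha)).symm⟩

theorem familyControls_singleton {W : Subgroup G → Subgroup G} (h : Cfsg.ControlsStrongFusionIn p W H) :
    Cfsg.FamilyControlsStrongFusionIn p {W} H := by
  obtain ⟨T, h1, h2, h3, h4⟩ := h
  refine ⟨T, h1, h2, h3, fun X x hx hX hxX => ?_⟩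
  obtain ⟨y, hy, hag⟩ := h4 X x hx hX hxX
  refine ⟨1, ![1, y], rfl, fun i => ⟨W, rfl, ?_⟩, fun i => ?_, fun a ha => hag a ha⟩
  · fin_cases i
    simpa using hy
  · rintro _ ⟨a, ha, rfl⟩
    fin_cases i
    · simpa using hX ha
    · have e : y * a * y⁻¹ = x * a * x⁻¹ := hag a ha
      simp only [Fin.mk_one, Matrix.cons_val_one, Matrix.cons_val_fin_one]
      rw [e]
      exact hxX ⟨a, ha, rfl⟩

theorem exists_mem_of_controls {W : Subgroup G → Subgroup G} (hW : Cfsg.IsConjugacyFunctor p W)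
    (h : Cfsg.ControlsStrongFusionIn p W H) (hP : IsSylowIn p P H) {A : Subgroup G} {x : G}
    (hxH : x ∈ H) (hA : A ≤ P) (hxA : A ^ᶜ x ≤ P) :
    ∃ y ∈ H ⊓ Subgroup.normalizer ((W P : Subgroup G) : Set G), ∀ a ∈ A, y * a * y⁻¹ = x * a * x⁻¹ := by
  obtain ⟨g, hg, hag⟩ := agrees_of_familyControls (fun V hV => Set.mem_singleton_iff.mp hV ▸ hW)
    (familyControls_singleton h) hP hxH hA hxA
  exact ⟨g, hg.mem_of_singleton, fun a ha => (hag a ha).symm⟩

theorem controls_of_exists_mem {W : Subgroup G → Subgroup G} (hP : IsSylowIn p P H)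
    (h : ∀ (A : Subgroup G) (x : G), x ∈ H → A ≤ P → A ^ᶜ x ≤ P →
      ∃ y ∈ H ⊓ Subgroup.normalizer ((W P : Subgroup G) : Set G), ∀ a ∈ A, y * a * y⁻¹ = x * a * x⁻¹) :
    Cfsg.ControlsStrongFusionIn p W H := by
  refine ⟨P, hP.1, hP.2.1, not_dvd_relIndex hP, fun X x hx hX hxX => ?_⟩
  obtain ⟨y, hy, hag⟩ := h _ x hx ((Subgroup.closure_le _).mpr hX) (conjG_closure_le hxX)
  exact ⟨y, hy, fun a ha => hag a (Subgroup.subset_closure ha)⟩

variable (S : Sylow p G)

theorem isSylowIn_top : IsSylowIn p (S : Subgroup G) ⊤ :=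
  ⟨le_top, S.2, fun U _ hU hSU => S.3 hU hSU⟩

/-- Local control of strong fusion by a set of conjugacy functors gives global control. -/
theorem familyControls_top (h𝓦 : ∀ W ∈ 𝓦, Cfsg.IsConjugacyFunctor p W)
    (hloc : ∀ T : Subgroup G, T ≤ (S : Subgroup G) → T ≠ ⊥ → Extremal S T →
      Cfsg.FamilyControlsStrongFusionIn p 𝓦 (Subgroup.normalizer (T : Set G))) :
    Cfsg.FamilyControlsStrongFusionIn p 𝓦 ⊤ := by
  refine familyControls_of_agrees (isSylowIn_top S) ?_
  suffices key : ∀ (T : Subgroup G) (g : G), T ≤ (S : Subgroup G) → T ^ᶜ g ≤ (S : Subgroup G) →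
      Agrees (CtrlStep 𝓦 (S : Subgroup G) ⊤) T g from fun A x _ => key A x
  intro T
  induction hk : Nat.card (S : Subgroup G) - Nat.card T using Nat.strong_induction_on generalizing T with
  | _ k ih =>
  subst hk
  intro g hT hg
  rcases eq_or_ne T ⊥ with rfl | hbot
  · exact ⟨1, Chain.refl _, fun a ha => by simp [Subgroup.mem_bot.mp ha]⟩
  -- larger subgroups are dealt with
  have hbig : ∀ (B : Subgroup G) (z : G), Nat.card T < Nat.card B → B ≤ (S : Subgroup G) →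
      B ^ᶜ z ≤ (S : Subgroup G) → Agrees (CtrlStep 𝓦 (S : Subgroup G) ⊤) B z := by
    intro B z h1 h2 h3
    have := card_le_sylow S h2
    exact ih _ (by omega) B rfl z h2 h3
  have hlocal : ∀ U : Subgroup G, U ≤ (S : Subgroup G) → U ≠ ⊥ → Extremal S U →
      ∀ (B : Subgroup G) (z : G), z ∈ Subgroup.normalizer (U : Set G) →
        B ≤ (S : Subgroup G) ⊓ Subgroup.normalizer (U : Set G) →
        B ^ᶜ z ≤ (S : Subgroup G) ⊓ Subgroup.normalizer (U : Set G) →
        Agrees (CtrlStep 𝓦 ((S : Subgroup G) ⊓ Subgroup.normalizer (U : Set G)) (Subgroup.normalizer (U : Set G))) B z :=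
    fun U h1 h2 h3 B z hz hB hzB => agrees_of_familyControls h𝓦 (hloc U h1 h2 h3) h3.isSylowIn hz hB hzB
  rcases eq_or_ne T (S : Subgroup G) with rfl | hne
  · have heq : (S : Subgroup G) ⊓ Subgroup.normalizer ((S : Subgroup G) : Set G) = (S : Subgroup G) :=
      inf_eq_left.mpr Subgroup.le_normalizer
    have hgN : g ∈ Subgroup.normalizer ((S : Subgroup G) : Set G) :=
      conjG_eq_iff.mp (Subgroup.eq_of_le_of_card_ge hg (card_conjG _ g).ge)
    have hext : Extremal S (S : Subgroup G) := by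
      rw [Extremal, heq]
      exact fun hd => S.not_dvd_index (hd.trans (Subgroup.relIndex_dvd_index_of_le Subgroup.le_normalizer))
    obtain ⟨g', hg', hag⟩ := hlocal _ le_rfl hbot hext (S : Subgroup G) g hgN heq.ge (heq.symm ▸ hg)
    refine ⟨g', hg'.imp fun A x hx => ?_, hag⟩
    obtain ⟨W, hW, hx1, hx2, hx3⟩ := hx
    rw [heq] at hx1 hx2 hx3
    exact ⟨W, hW, ⟨trivial, hx1.2⟩, hx2, hx3⟩
  -- a step inside the normalizer of `W P`, `P` larger than `T`
  have hstep : ∀ (P B : Subgroup G) (W : Subgroup G → Subgroup G) (z : G), W ∈ 𝓦 → B ≤ P →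
      P ≤ (S : Subgroup G) → Nat.card B = Nat.card T → Nat.card T < Nat.card P →
      z ∈ Subgroup.normalizer ((W P : Subgroup G) : Set G) → B ^ᶜ z ≤ P →
      Agrees (CtrlStep 𝓦 (S : Subgroup G) ⊤) B z := by
    intro P
    induction hk : Nat.card (S : Subgroup G) - Nat.card P using Nat.strong_induction_on generalizing P with
    | _ k ihP =>
    subst hk
    intro B W z hW hBP hPS hBT hTP hz hzB
    rcases eq_or_ne P (S : Subgroup G) with rfl | hPne
    · exact (Chain.single ⟨W, hW, ⟨trivial, hz⟩, hBP, hzB⟩).agrees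
    have hPp := isPGroup_of_le S hPS
    have hWP := h𝓦 W hW P hPp
    have hPbot : P ≠ ⊥ := by
      rintro rfl
      rw [Subgroup.card_bot] at hTP
      have := Nat.card_pos (α := T)
      omega
    have hVS : W P ≤ (S : Subgroup G) := hWP.1.trans hPS
    obtain ⟨a, haS, haE⟩ := exists_extremal S hVS
    obtain ⟨k, hk1, hk2⟩ := haE.exists_conjG S rfl
    have hPN : (S : Subgroup G) ⊓ Subgroup.normalizer (P : Set G) ≤
        (S : Subgroup G) ⊓ Subgroup.normalizer ((W P : Subgroup G) : Set G) :=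
      le_inf inf_le_left (inf_le_right.trans (normalizer_le_normalizer_functor (h𝓦 W hW) hPp))
    have hlt := card_lt_inf_normalizer S hPS hPne
    have hPQ : P ≤ (S : Subgroup G) ⊓ Subgroup.normalizer ((W P : Subgroup G) : Set G) :=
      (le_inf hPS Subgroup.le_normalizer).trans hPN
    set Q := (S : Subgroup G) ⊓ Subgroup.normalizer ((W P : Subgroup G) : Set G) with hQ
    have hQc : Nat.card ↥((S : Subgroup G) ⊓ Subgroup.normalizer (P : Set G)) ≤ Nat.card Q :=
      Subgroup.card_le_of_le hPN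
    have hkQ : Agrees (CtrlStep 𝓦 (S : Subgroup G) ⊤) Q k :=
      hbig Q k (by omega) inf_le_left (hk2.trans inf_le_left)
    have hk_B : Agrees (CtrlStep 𝓦 (S : Subgroup G) ⊤) B k := hkQ.mono ctrlStep_mono (hBP.trans hPQ)
    have hk_Bz : Agrees (CtrlStep 𝓦 (S : Subgroup G) ⊤) ((B ^ᶜ z) ^ᶜ k) k⁻¹ :=
      (hkQ.mono ctrlStep_mono (hzB.trans hPQ)).symm ctrlStep_symm
    have hVne : (W P) ^ᶜ a ≠ ⊥ := by
      rw [Ne, Subgroup.map_eq_bot_iff_of_injective _ (MulAut.conj a).injective]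
      exact hWP.2.1 hPbot
    have hz' : k * z * k⁻¹ ∈ Subgroup.normalizer (((W P) ^ᶜ a : Subgroup G) : Set G) := by
      rw [← hk1, normalizer_map_conj]; exact conjG_mem hz
    have hB' : B ^ᶜ k ≤ (S : Subgroup G) ⊓ Subgroup.normalizer (((W P) ^ᶜ a : Subgroup G) : Set G) :=
      (Subgroup.map_mono (hBP.trans hPQ)).trans hk2
    have hB'' : (B ^ᶜ k) ^ᶜ (k * z * k⁻¹) ≤
        (S : Subgroup G) ⊓ Subgroup.normalizer (((W P) ^ᶜ a : Subgroup G) : Set G) := by
      rw [conjG_conjG, inv_mul_cancel_right, ← conjG_conjG]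
      exact (Subgroup.map_mono (hzB.trans hPQ)).trans hk2
    obtain ⟨z', hz'c, hz'a⟩ := hlocal _ haS hVne haE (B ^ᶜ k) (k * z * k⁻¹) hz' hB' hB''
    have hmid : Agrees (CtrlStep 𝓦 (S : Subgroup G) ⊤) (B ^ᶜ k) (k * z * k⁻¹) := by
      refine (hz'c.bind fun C y hC hy => ?_).congr hz'a
      obtain ⟨W', hW', hy1, hy2, hy3⟩ := hy
      have hQ' : Nat.card Q ≤ Nat.card ↥((S : Subgroup G) ⊓ Subgroup.normalizer (((W P) ^ᶜ a : Subgroup G) : Set G)) := by
        rw [← card_conjG Q k]; exact Subgroup.card_le_of_le hk2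
      have hle := card_le_sylow S (inf_le_left :
        (S : Subgroup G) ⊓ Subgroup.normalizer (((W P) ^ᶜ a : Subgroup G) : Set G) ≤ _)
      rw [card_conjG] at hC
      exact ihP _ (by omega) _ rfl C W' y hW' hy2 inf_le_left (hC.trans hBT) (by omega) hy1.2 hy3
    have h23 : Agrees (CtrlStep 𝓦 (S : Subgroup G) ⊤) (B ^ᶜ k) (k⁻¹ * (k * z * k⁻¹)) :=
      hmid.trans (by rwa [conjG_conjG B (k * z * k⁻¹) k, inv_mul_cancel_right, ← conjG_conjG])
    have := hk_B.trans h23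
    simpa [mul_assoc] using this
  obtain ⟨a, haS, haE⟩ := exists_extremal S hT
  have hV : (T ^ᶜ g) ^ᶜ (a * g⁻¹) = T ^ᶜ a := by rw [conjG_conjG, inv_mul_cancel_right]
  obtain ⟨k, hk1, hk2⟩ := haE.exists_conjG S (rfl : T ^ᶜ a = _)
  obtain ⟨m, hm1, hm2⟩ := haE.exists_conjG S hV
  have hVne : T ^ᶜ g ≠ (S : Subgroup G) := fun e => hne <|
    Subgroup.eq_of_le_of_card_ge hT (by rw [← card_conjG T g, e])
  have hUne : T ^ᶜ a ≠ (S : Subgroup G) := fun e => hne <|
    Subgroup.eq_of_le_of_card_ge hT (by rw [← card_conjG T a, e])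
  have hlt := card_lt_inf_normalizer S hT hne
  have hlt' := card_lt_inf_normalizer S hg hVne
  have hlt'' := card_lt_inf_normalizer S haS hUne
  rw [card_conjG T g] at hlt'
  rw [card_conjG T a] at hlt''
  have c1 : Agrees (CtrlStep 𝓦 (S : Subgroup G) ⊤) T k :=
    (hbig _ k hlt inf_le_left (hk2.trans inf_le_left)).mono ctrlStep_mono (le_inf hT Subgroup.le_normalizer)
  have c3 : Agrees (CtrlStep 𝓦 (S : Subgroup G) ⊤) (T ^ᶜ a) m⁻¹ := by
    refine (hbig _ m⁻¹ ?_ (hm2.trans inf_le_left) (by rw [conjG_inv_conjG]; exact inf_le_left)).mono ctrlStep_mono ?_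
    · rw [card_conjG]; exact hlt'
    · rw [← hm1]; exact Subgroup.map_mono (le_inf hg Subgroup.le_normalizer)
  have hx : m * g * k⁻¹ ∈ Subgroup.normalizer ((T ^ᶜ a : Subgroup G) : Set G) := by
    rw [← conjG_eq_iff]
    conv_lhs => rw [← hk1]
    rw [conjG_conjG, inv_mul_cancel_right, ← conjG_conjG, hm1]
  have hUle : T ^ᶜ a ≤ (S : Subgroup G) ⊓ Subgroup.normalizer ((T ^ᶜ a : Subgroup G) : Set G) :=
    le_inf haS Subgroup.le_normalizer
  have hUbot : T ^ᶜ a ≠ ⊥ := by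
    rw [Ne, Subgroup.map_eq_bot_iff_of_injective _ (MulAut.conj a).injective]; exact hbot
  obtain ⟨x', hx'c, hx'a⟩ := hlocal _ haS hUbot haE (T ^ᶜ a) _ hx hUle (by rwa [conjG_eq_iff.mpr hx])
  have c2 : Agrees (CtrlStep 𝓦 (S : Subgroup G) ⊤) (T ^ᶜ a) (m * g * k⁻¹) := by
    refine (hx'c.bind fun C y hC hy => ?_).congr hx'a
    obtain ⟨W', hW', hy1, hy2, hy3⟩ := hy
    rw [card_conjG] at hC
    exact hstep _ C W' y hW' hy2 inf_le_left hC hlt'' hy1.2 hy3
  have c23 : Agrees (CtrlStep 𝓦 (S : Subgroup G) ⊤) (T ^ᶜ a) (m⁻¹ * (m * g * k⁻¹)) :=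
    c2.trans (by rwa [conjG_eq_iff.mpr hx])
  have := c1.trans (hk1.symm ▸ c23)
  simpa [mul_assoc] using this

/-- Control in the normalizers of the well-placed subgroups gives global control. -/
theorem controls_top {W : Subgroup G → Subgroup G} (hW : Cfsg.IsConjugacyFunctor p W)
    (hloc : ∀ T : Subgroup G, T ≠ ⊥ → Cfsg.IsWellPlaced p W (S : Subgroup G) T →
      Cfsg.ControlsStrongFusionIn p W (Subgroup.normalizer (T : Set G))) :
    Cfsg.ControlsStrongFusionIn p W ⊤ := by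
  refine controls_of_exists_mem (isSylowIn_top S) fun A g hgT hA hgA => ?_
  set M := Subgroup.normalizer ((W (S : Subgroup G) : Subgroup G) : Set G)
  -- each step of a conjugation inside the family agrees with an element of `M`
  have hstep : ∀ (T : Subgroup G) (x : G), Cfsg.IsWellPlaced p W (S : Subgroup G) T →
      x ∈ Subgroup.normalizer (T : Set G) → ∃ y ∈ M, ∀ a ∈ T, y * a * y⁻¹ = x * a * x⁻¹ := by
    intro T x hT hx
    rcases eq_or_ne T ⊥ with rfl | hbot
    · exact ⟨1, one_mem _, fun a ha => by simp [Subgroup.mem_bot.mp ha]⟩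
    have hTx : T ^ᶜ x = T := conjG_eq_iff.mpr hx
    have key : ∀ i, ∃ y ∈ Subgroup.normalizer ((Cfsg.functorTower W (S : Subgroup G) T i : Subgroup G) : Set G) ⊓
        Subgroup.normalizer ((Cfsg.functorTower W (S : Subgroup G) T (i + 1) : Subgroup G) : Set G),
        ∀ a ∈ T, y * a * y⁻¹ = x * a * x⁻¹ := by
      intro i
      have hwp := isWellPlaced_functorTower S hW hT i
      have hci := hloc _ (functorTower_ne_bot S hW hT.1 hbot i) hwp
      have hext : Extremal S (Cfsg.functorTower W (S : Subgroup G) T i) := hT.2 i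
      have hTP := le_towerNorm S hW hT.1 i
      induction i with
      | zero =>
        exact exists_mem_of_controls hW hci hext.isSylowIn hx hTP (hTx.symm ▸ hTP)
      | succ i ih =>
        have hwp' := isWellPlaced_functorTower S hW hT i
        obtain ⟨y, hy, hag⟩ := ih hwp' (hloc _ (functorTower_ne_bot S hW hT.1 hbot i) hwp') (hT.2 i)
          (le_towerNorm S hW hT.1 i)
        obtain ⟨y', hy', hag'⟩ := exists_mem_of_controls (A := T) hW hci hext.isSylowIn hy.2 hTP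
          (by rw [conjG_congr hag, hTx]; exact hTP)
        exact ⟨y', hy', fun a ha => (hag' a ha).trans (hag a ha)⟩
    obtain ⟨i, -, heq⟩ := exists_towerNorm_eq S hW (T := T)
    obtain ⟨y, hy, hag⟩ := key i
    refine ⟨y, ?_, hag⟩
    have e : Cfsg.functorTower W (S : Subgroup G) T (i + 1) = W (towerNorm S W T i) := rfl
    rw [e, heq] at hy
    exact hy.2
  have hchain := alperin S {T : Subgroup G | Cfsg.IsWellPlaced p W (S : Subgroup G) T} (fun T hT => by
    obtain ⟨a, ha⟩ := exists_wellPlaced S hW hT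
    exact ⟨a, ha, ha.1, ha.2 0⟩) A g hA hgA
  suffices ∃ y ∈ M, ∀ a ∈ A, y * a * y⁻¹ = g * a * g⁻¹ by
    obtain ⟨y, hy, hag⟩ := this
    exact ⟨y, ⟨trivial, hy⟩, hag⟩
  clear hA hgA hgT
  induction hchain with
  | refl A => exact ⟨1, one_mem _, fun a _ => by simp⟩
  | @step A x g hx _ ih =>
    obtain ⟨T, hT, hAT, hxT⟩ := hx
    obtain ⟨y, hy, hag⟩ := hstep T x hT hxT
    obtain ⟨y', hy', hag'⟩ := ih
    refine ⟨y' * y, mul_mem hy' hy, fun a ha => ?_⟩
    calc y' * y * a * (y' * y)⁻¹ = y' * (y * a * y⁻¹) * y'⁻¹ := by group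
      _ = y' * (x * a * x⁻¹) * y'⁻¹ := by rw [hag a (hAT ha)]
      _ = g * (x * a * x⁻¹) * g⁻¹ := hag' _ (conjG_mem ha)
      _ = g * x * a * (g * x)⁻¹ := by group

end CfsgLib.KGroups.Functor
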