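import Mathlib.GroupTheory.Focal
import Cfsg.Agent.Lib.KGroups.Functor.Control

/-!
Local to global control of transfer by conjugacy functors.
-/

set_option autoImplicit false
set_option linter.unusedSectionVars false

namespace CfsgLib.KGroups.Functor

open CfsgLib.LocalEven.SylowIn

variable {G : Type*} [Group G] [Finite G] {p : ℕ} [Fact p.Prime]

/-- The focal subgroup theorem at a Sylow subgroup `P` of `H ≤ G`. -/
theorem inf_commutator_le_of_focal {P H M : Subgroup G} (hP : IsSylowIn p P H)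
    (h : ∀ x ∈ P, ∀ u ∈ H, u * x * u⁻¹ ∈ P → u * x * u⁻¹ * x⁻¹ ∈ M) : P ⊓ ⁅H, H⁆ ≤ M := by
  rintro y ⟨hyP, hy⟩
  rw [← Subgroup.map_subtype_commutator H] at hy
  obtain ⟨z, hz, rfl⟩ := hy
  have h1 : z ∈ commutator H ⊓ (hP.toSylow : Subgroup H) := ⟨hz, hyP⟩
  rw [Subgroup.commutator_inf_eq_focalSubgroup hP.toSylow] at h1
  suffices h2 : (hP.toSylow : Subgroup H).focalSubgroup ≤ M.comap H.subtype from h2 h1
  rw [Subgroup.focalSubgroup_def, Subgroup.closure_le]
  rintro _ ⟨hgP, a, ha, u, rfl⟩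
  have ha' : (a : G) ∈ P := ha
  have hz : (a : G) * (u * (a : G)⁻¹ * (u : G)⁻¹) ∈ P := by
    have e : (a : G) * (u * (a : G)⁻¹ * (u : G)⁻¹) = ((a * u * a⁻¹ * u⁻¹ : H) : G) := by
      simp [mul_assoc]
    rw [e]; exact hgP
  have hz' : (u : G) * a * (u : G)⁻¹ ∈ P := by
    have := P.inv_mem (P.mul_mem (P.inv_mem ha') hz)
    simpa [mul_assoc] using this
  have := h _ hz' (u : G)⁻¹ (H.inv_mem u.2) (by simpa [mul_assoc] using ha')
  show _ ∈ M
  simpa [commutatorElement_def, mul_assoc] using this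

variable (S : Sylow p G)

/-- `⨆_{W ∈ 𝓦} P ⊓ N_H(W P)'`. -/
def transferTarget (𝓦 : Set (Subgroup G → Subgroup G)) (P H : Subgroup G) : Subgroup G :=
  ⨆ W ∈ 𝓦, P ⊓ ⁅H ⊓ Subgroup.normalizer ((W P : Subgroup G) : Set G), H ⊓ Subgroup.normalizer ((W P : Subgroup G) : Set G)⁆

theorem transferTarget_le (𝓦 : Set (Subgroup G → Subgroup G)) (P H : Subgroup G) :
    transferTarget 𝓦 P H ≤ P ⊓ ⁅H, H⁆ :=
  iSup₂_le fun _ _ => inf_le_inf_left _ (Subgroup.commutator_mono inf_le_left inf_le_left)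

theorem familyTransfer_change {𝓦 : Set (Subgroup G → Subgroup G)} {P H : Subgroup G}
    (h𝓦 : ∀ W ∈ 𝓦, Cfsg.IsConjugacyFunctor p W)
    (h : Cfsg.FamilyControlsTransferIn p 𝓦 H) (hP : IsSylowIn p P H) :
    P ⊓ ⁅H, H⁆ = transferTarget 𝓦 P H := by
  obtain ⟨T, hTH, hTp, hTd, hT⟩ := h
  obtain ⟨k, hk, rfl⟩ := (isSylowIn_of_not_dvd hTH hTp hTd).conjugate hP
  have hHk : H ^ᶜ k = H := conjG_eq_iff.mpr (Subgroup.le_normalizer hk)
  have inj := (MulAut.conj k).injective
  have h1 : (T ⊓ ⁅H, H⁆) ^ᶜ k = (T ^ᶜ k) ⊓ ⁅H, H⁆ := by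
    rw [Subgroup.map_inf _ _ _ inj, Subgroup.map_commutator, hHk]
  rw [← h1, hT]
  simp only [Subgroup.map_iSup, transferTarget]
  refine iSup_congr fun W => iSup_congr fun hW => ?_
  rw [Subgroup.map_inf _ _ _ inj, Subgroup.map_commutator, Subgroup.map_inf _ _ _ inj, hHk,
    (h𝓦 W hW T hTp).2.2 k, normalizer_map_conj]

theorem familyTransfer_of_le {𝓦 : Set (Subgroup G → Subgroup G)}
    (h : (S : Subgroup G) ⊓ ⁅(⊤ : Subgroup G), ⊤⁆ ≤ transferTarget 𝓦 (S : Subgroup G) ⊤) :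
    Cfsg.FamilyControlsTransferIn p 𝓦 ⊤ :=
  ⟨(S : Subgroup G), le_top, S.2, not_dvd_relIndex (isSylowIn_top S), le_antisymm h (transferTarget_le 𝓦 _ _)⟩

/-- Local control of transfer by a set of conjugacy functors gives global control. -/
theorem familyTransfer_top {𝓦 : Set (Subgroup G → Subgroup G)} (h𝓦 : ∀ W ∈ 𝓦, Cfsg.IsConjugacyFunctor p W)
    (hloc : ∀ T : Subgroup G, T ≤ (S : Subgroup G) → T ≠ ⊥ → Extremal S T →
      Cfsg.FamilyControlsTransferIn p 𝓦 (Subgroup.normalizer (T : Set G))) :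
    Cfsg.FamilyControlsTransferIn p 𝓦 ⊤ := by
  refine familyTransfer_of_le S ?_
  set M := transferTarget 𝓦 (S : Subgroup G) ⊤ with hMdef
  suffices key : ∀ T : Subgroup G, T ≤ (S : Subgroup G) →
      (∀ g : G, T ^ᶜ g ≤ (S : Subgroup G) → ∀ x ∈ T, g * x * g⁻¹ * x⁻¹ ∈ M) ∧
      (∀ W ∈ 𝓦, T ⊓ ⁅Subgroup.normalizer ((W T : Subgroup G) : Set G), Subgroup.normalizer ((W T : Subgroup G) : Set G)⁆ ≤ M) by
    refine inf_commutator_le_of_focal (isSylowIn_top S) fun x hx u _ hux => ?_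
    refine (key (Subgroup.zpowers x) (Subgroup.zpowers_le.mpr hx)).1 u ?_ x (Subgroup.mem_zpowers x)
    rw [MonoidHom.map_zpowers, Subgroup.zpowers_le]
    exact hux
  intro T
  induction hk : Nat.card (S : Subgroup G) - Nat.card T using Nat.strong_induction_on generalizing T with
  | _ k ih =>
  subst hk
  intro hT
  rcases eq_or_ne T ⊥ with rfl | hbot
  · exact ⟨fun g _ x hx => by simp [Subgroup.mem_bot.mp hx, one_mem],
      fun W _ => by rw [bot_inf_eq]; exact bot_le⟩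
  have hbig : ∀ B : Subgroup G, Nat.card T < Nat.card B → B ≤ (S : Subgroup G) →
      (∀ g : G, B ^ᶜ g ≤ (S : Subgroup G) → ∀ x ∈ B, g * x * g⁻¹ * x⁻¹ ∈ M) ∧
      (∀ W ∈ 𝓦, B ⊓ ⁅Subgroup.normalizer ((W B : Subgroup G) : Set G), Subgroup.normalizer ((W B : Subgroup G) : Set G)⁆ ≤ M) := by
    intro B h1 h2
    have := card_le_sylow S h2
    exact ih _ (by omega) B rfl h2
  -- the local hypothesis, pushed into `M`
  have hlocal : ∀ U : Subgroup G, U ≤ (S : Subgroup G) → U ≠ ⊥ → Extremal S U →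
      Nat.card T < Nat.card ↥((S : Subgroup G) ⊓ Subgroup.normalizer (U : Set G)) →
      ((S : Subgroup G) ⊓ Subgroup.normalizer (U : Set G)) ⊓
        ⁅Subgroup.normalizer (U : Set G), Subgroup.normalizer (U : Set G)⁆ ≤ M := by
    intro U h1 h2 h3 h4
    rw [familyTransfer_change h𝓦 (hloc U h1 h2 h3) h3.isSylowIn]
    exact iSup₂_le fun W hW => (inf_le_inf_left _ (Subgroup.commutator_mono inf_le_right inf_le_right)).trans
      ((hbig _ h4 inf_le_left).2 W hW)
  have hC : ∀ W ∈ 𝓦, T ⊓ ⁅Subgroup.normalizer ((W T : Subgroup G) : Set G),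
      Subgroup.normalizer ((W T : Subgroup G) : Set G)⁆ ≤ M := by
    intro W hW
    rcases eq_or_ne T (S : Subgroup G) with rfl | hne
    · refine le_trans ?_ (le_iSup₂ W hW)
      simp only [top_inf_eq, le_refl]
    have hTp := isPGroup_of_le S hT
    have hWT := h𝓦 W hW T hTp
    obtain ⟨a, haS, haE⟩ := exists_extremal S (hWT.1.trans hT)
    obtain ⟨k, hk1, hk2⟩ := haE.exists_conjG S rfl
    have hlt := card_lt_inf_normalizer S hT hne
    have hTN : (S : Subgroup G) ⊓ Subgroup.normalizer (T : Set G) ≤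
        (S : Subgroup G) ⊓ Subgroup.normalizer ((W T : Subgroup G) : Set G) :=
      le_inf inf_le_left (inf_le_right.trans (normalizer_le_normalizer_functor (h𝓦 W hW) hTp))
    set Q := (S : Subgroup G) ⊓ Subgroup.normalizer ((W T : Subgroup G) : Set G) with hQ
    have hQc : Nat.card ↥((S : Subgroup G) ⊓ Subgroup.normalizer (T : Set G)) ≤ Nat.card Q :=
      Subgroup.card_le_of_le hTN
    have hVne : (W T) ^ᶜ a ≠ ⊥ := by
      rw [Ne, Subgroup.map_eq_bot_iff_of_injective _ (MulAut.conj a).injective]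
      exact hWT.2.1 hbot
    rintro y ⟨hy1, hy2⟩
    have hyQ : y ∈ Q := hTN ⟨hT hy1, Subgroup.le_normalizer hy1⟩
    have h1 : k * y * k⁻¹ * y⁻¹ ∈ M :=
      (hbig Q (by omega) inf_le_left).1 k (hk2.trans inf_le_left) y hyQ
    have hQk : Nat.card Q ≤ Nat.card ↥((S : Subgroup G) ⊓ Subgroup.normalizer (((W T) ^ᶜ a : Subgroup G) : Set G)) := by
      rw [← card_conjG Q k]; exact Subgroup.card_le_of_le hk2
    have h2 : k * y * k⁻¹ ∈ M := by
      refine hlocal _ haS hVne haE (by omega) ⟨hk2 (conjG_mem hyQ), ?_⟩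
      rw [← hk1, normalizer_map_conj, ← Subgroup.map_commutator]
      exact conjG_mem hy2
    have := M.mul_mem (M.inv_mem h1) h2
    simpa [mul_assoc] using this
  refine ⟨fun g hg x hx => ?_, hC⟩
  rcases eq_or_ne T (S : Subgroup G) with rfl | hne
  · have hgN : g ∈ Subgroup.normalizer ((S : Subgroup G) : Set G) :=
      conjG_eq_iff.mp (Subgroup.eq_of_le_of_card_ge hg (card_conjG _ g).ge)
    have heq : (S : Subgroup G) ⊓ Subgroup.normalizer ((S : Subgroup G) : Set G) = (S : Subgroup G) :=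
      inf_eq_left.mpr Subgroup.le_normalizer
    have hext : Extremal S (S : Subgroup G) := by
      rw [Extremal, heq]
      exact fun hd => S.not_dvd_index (hd.trans (Subgroup.relIndex_dvd_index_of_le Subgroup.le_normalizer))
    have h1 := familyTransfer_change h𝓦 (hloc _ le_rfl hbot hext) hext.isSylowIn
    rw [heq] at h1
    have h2 : g * x * g⁻¹ * x⁻¹ ∈ transferTarget 𝓦 (S : Subgroup G) (Subgroup.normalizer ((S : Subgroup G) : Set G)) := by
      rw [← h1]
      exact ⟨(S : Subgroup G).mul_mem (hg (conjG_mem hx)) ((S : Subgroup G).inv_mem hx),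
        Subgroup.commutator_mem_commutator hgN (Subgroup.le_normalizer hx)⟩
    have hle : transferTarget 𝓦 (S : Subgroup G) (Subgroup.normalizer ((S : Subgroup G) : Set G)) ≤ M :=
      iSup₂_le fun W hW => le_trans (inf_le_inf_left _
        (Subgroup.commutator_mono (inf_le_inf_right _ le_top) (inf_le_inf_right _ le_top)))
        (le_iSup₂_of_le W hW le_rfl)
    exact hle h2
  obtain ⟨a, haS, haE⟩ := exists_extremal S hT
  have hV : (T ^ᶜ g) ^ᶜ (a * g⁻¹) = T ^ᶜ a := by rw [conjG_conjG, inv_mul_cancel_right]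
  obtain ⟨k, hk1, hk2⟩ := haE.exists_conjG S (rfl : T ^ᶜ a = _)
  obtain ⟨m, hm1, hm2⟩ := haE.exists_conjG S hV
  have hVne : T ^ᶜ g ≠ (S : Subgroup G) := fun e => hne <|
    Subgroup.eq_of_le_of_card_ge hT (by rw [← card_conjG T g, e])
  have hUne : T ^ᶜ a ≠ (S : Subgroup G) := fun e => hne <|
    Subgroup.eq_of_le_of_card_ge hT (by rw [← card_conjG T a, e])
  have hlt := card_lt_inf_normalizer S hT hne
  have hlt' := card_lt_inf_normalizer S hg hVne
  have hlt'' := card_lt_inf_normalizer S haS hUne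
  rw [card_conjG T g] at hlt'
  rw [card_conjG T a] at hlt''
  have hn : m * g * k⁻¹ ∈ Subgroup.normalizer ((T ^ᶜ a : Subgroup G) : Set G) := by
    rw [← conjG_eq_iff]
    conv_lhs => rw [← hk1]
    rw [conjG_conjG, inv_mul_cancel_right, ← conjG_conjG, hm1]
  have hUbot : T ^ᶜ a ≠ ⊥ := by
    rw [Ne, Subgroup.map_eq_bot_iff_of_injective _ (MulAut.conj a).injective]; exact hbot
  have hx' : k * x * k⁻¹ ∈ T ^ᶜ a := hk1 ▸ conjG_mem hx
  have hy : g * x * g⁻¹ ∈ T ^ᶜ g := conjG_mem hx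
  have hy' : m * (g * x * g⁻¹) * m⁻¹ ∈ T ^ᶜ a := hm1 ▸ conjG_mem hy
  have a1 : k * x * k⁻¹ * x⁻¹ ∈ M :=
    (hbig _ hlt inf_le_left).1 k (hk2.trans inf_le_left) x ⟨hT hx, Subgroup.le_normalizer hx⟩
  have a3 : m * (g * x * g⁻¹) * m⁻¹ * (g * x * g⁻¹)⁻¹ ∈ M :=
    (hbig _ hlt' inf_le_left).1 m (hm2.trans inf_le_left) _ ⟨hg hy, Subgroup.le_normalizer hy⟩
  have a2 : m * (g * x * g⁻¹) * m⁻¹ * (k * x * k⁻¹)⁻¹ ∈ M := by
    refine hlocal _ haS hUbot haE hlt'' ⟨?_, ?_⟩
    · exact Subgroup.mul_mem _ ⟨haS hy', Subgroup.le_normalizer hy'⟩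
        (Subgroup.inv_mem _ ⟨haS hx', Subgroup.le_normalizer hx'⟩)
    · have := Subgroup.commutator_mem_commutator hn (Subgroup.le_normalizer hx')
      simpa [commutatorElement_def, mul_assoc] using this
  have := M.mul_mem (M.mul_mem (M.inv_mem a3) a2) a1
  simpa [mul_assoc] using this

/-- Control of transfer in the normalizers of the well-placed subgroups gives global control. -/
theorem transfer_top {W : Subgroup G → Subgroup G} (hW : Cfsg.IsConjugacyFunctor p W)
    (hloc : ∀ T : Subgroup G, T ≠ ⊥ → Cfsg.IsWellPlaced p W (S : Subgroup G) T →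
      Cfsg.ControlsTransferIn p W (Subgroup.normalizer (T : Set G))) :
    Cfsg.ControlsTransferIn p W ⊤ := by
  refine ⟨(S : Subgroup G), le_top, S.2, not_dvd_relIndex (isSylowIn_top S),
    le_antisymm ?_ (inf_le_inf_left _ (Subgroup.commutator_mono inf_le_left inf_le_left))⟩
  set M := (S : Subgroup G) ⊓ ⁅(⊤ : Subgroup G) ⊓ Subgroup.normalizer ((W (S : Subgroup G) : Subgroup G) : Set G),
    ⊤ ⊓ Subgroup.normalizer ((W (S : Subgroup G) : Subgroup G) : Set G)⁆
  have hstep : ∀ (T : Subgroup G) (x : G), Cfsg.IsWellPlaced p W (S : Subgroup G) T →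
      x ∈ Subgroup.normalizer (T : Set G) → ∀ a ∈ T, x * a * x⁻¹ * a⁻¹ ∈ M := by
    intro T x hT hx a ha
    rcases eq_or_ne T ⊥ with rfl | hbot
    · simp [Subgroup.mem_bot.mp ha, one_mem]
    have hnext : ∀ i, towerNorm S W T i ⊓
        ⁅Subgroup.normalizer ((Cfsg.functorTower W (S : Subgroup G) T i : Subgroup G) : Set G),
          Subgroup.normalizer ((Cfsg.functorTower W (S : Subgroup G) T i : Subgroup G) : Set G)⁆ ≤
        (towerNorm S W T i ⊓ ⁅Subgroup.normalizer ((W (towerNorm S W T i) : Subgroup G) : Set G),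
          Subgroup.normalizer ((W (towerNorm S W T i) : Subgroup G) : Set G)⁆) := by
      intro i
      have hwp := isWellPlaced_functorTower S hW hT i
      obtain ⟨T0, h1, h2, h3, h4⟩ := hloc _ (functorTower_ne_bot S hW hT.1 hbot i) hwp
      have h := familyTransfer_change (𝓦 := {W}) (fun V hV => Set.mem_singleton_iff.mp hV ▸ hW)
        ⟨T0, h1, h2, h3, by simpa using h4⟩ (Extremal.isSylowIn S (hT.2 i))
      rw [h]
      simp only [transferTarget, Set.mem_singleton_iff, iSup_iSup_eq_left]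
      exact inf_le_inf_left _ (Subgroup.commutator_mono inf_le_right inf_le_right)
    have hall : ∀ i, x * a * x⁻¹ * a⁻¹ ∈ towerNorm S W T i ⊓
        ⁅Subgroup.normalizer ((Cfsg.functorTower W (S : Subgroup G) T i : Subgroup G) : Set G),
          Subgroup.normalizer ((Cfsg.functorTower W (S : Subgroup G) T i : Subgroup G) : Set G)⁆ := by
      intro i
      induction i with
      | zero =>
        have hxa : x * a * x⁻¹ ∈ T := (Subgroup.mem_normalizer_iff.mp hx a).mp ha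
        exact ⟨le_towerNorm S hW hT.1 0 (T.mul_mem hxa (T.inv_mem ha)),
          Subgroup.commutator_mem_commutator hx (Subgroup.le_normalizer ha)⟩
      | succ i ih =>
        obtain ⟨h1, h2⟩ := hnext i ih
        exact ⟨towerNorm_mono S hW T (Nat.le_succ i) h1, h2⟩
    obtain ⟨i, -, heq⟩ := exists_towerNorm_eq S hW (T := T)
    have := hnext i (hall i)
    rw [heq] at this
    simp only [M, top_inf_eq]
    exact this
  refine inf_commutator_le_of_focal (isSylowIn_top S) fun x hx u _ hux => ?_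
  have hchain := alperin S {T : Subgroup G | Cfsg.IsWellPlaced p W (S : Subgroup G) T} (fun T hT => by
    obtain ⟨a, ha⟩ := exists_wellPlaced S hW hT
    exact ⟨a, ha, ha.1, ha.2 0⟩) (Subgroup.zpowers x) u (Subgroup.zpowers_le.mpr hx)
      (by rw [MonoidHom.map_zpowers, Subgroup.zpowers_le]; exact hux)
  suffices ∀ (A : Subgroup G) (g : G), Chain (FamStep {T : Subgroup G | Cfsg.IsWellPlaced p W (S : Subgroup G) T}) A g →
      ∀ a ∈ A, g * a * g⁻¹ * a⁻¹ ∈ M from this _ _ hchain x (Subgroup.mem_zpowers x)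
  intro A g h
  induction h with
  | refl A => intro a _; simp [one_mem]
  | @step A y g hy _ ih =>
    intro a ha
    obtain ⟨T, hT, hAT, hyT⟩ := hy
    have := M.mul_mem (ih _ (conjG_mem ha)) (hstep T y hT hyT a (hAT ha))
    simpa [mul_assoc] using this

end CfsgLib.KGroups.Functor
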