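import Cfsg.Prelude.Def_Solvable
import Cfsg.Agent.Lib.KGroups.Functor.Transfer
import Cfsg.Agent.Lib.Solvable.Cores

/-!
Sections of a finite group, and transport of the notions of control along homomorphisms.
-/

set_option autoImplicit false
set_option linter.unusedSectionVars false

namespace CfsgLib.KGroups.Functor

open CfsgLib.LocalEven.SylowIn

universe u

/-- `X` is a homomorphic image of a subgroup of `G`. -/
def Sec (G : Type u) [Group G] (X : Type u) [Group X] : Prop :=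
  ∃ (K : Subgroup G) (f : K →* X), Function.Surjective f

variable {G X Y : Type u} [Group G] [Group X] [Group Y]

theorem sec_self (G : Type u) [Group G] : Sec G G :=
  ⟨⊤, (⊤ : Subgroup G).subtype, fun x => ⟨⟨x, trivial⟩, rfl⟩⟩

theorem sec_mk (K R : Subgroup G) [(R.subgroupOf K).Normal] : Sec G (K ⧸ R.subgroupOf K) :=
  ⟨K, QuotientGroup.mk' _, QuotientGroup.mk'_surjective _⟩

theorem Sec.of_surjective (h : Sec G X) (f : X →* Y) (hf : Function.Surjective f) : Sec G Y := by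
  obtain ⟨K, g, hg⟩ := h
  exact ⟨K, f.comp g, hf.comp hg⟩

theorem Sec.of_subgroup (h : Sec G X) (L : Subgroup X) : Sec G L := by
  obtain ⟨K, f, hf⟩ := h
  let e := (L.comap f).equivMapOfInjective K.subtype K.subtype_injective
  refine ⟨(L.comap f).map K.subtype, (f.subgroupComap L).comp e.symm.toMonoidHom, ?_⟩
  exact (MonoidHom.subgroupComap_surjective_of_surjective f L hf).comp e.symm.surjective

theorem Sec.finite [Finite G] (h : Sec G X) : Finite X := by
  obtain ⟨K, f, hf⟩ := h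
  exact Finite.of_surjective f hf

theorem Sec.exists_equiv (h : Sec G X) :
    ∃ (K R : Subgroup G) (_ : (R.subgroupOf K).Normal), Nonempty (K ⧸ R.subgroupOf K ≃* X) := by
  obtain ⟨K, f, hf⟩ := h
  have e : (f.ker.map K.subtype).subgroupOf K = f.ker :=
    Subgroup.comap_map_eq_self_of_injective K.subtype_injective _
  haveI : ((f.ker.map K.subtype).subgroupOf K).Normal := by rw [e]; exact f.normal_ker
  refine ⟨K, f.ker.map K.subtype, this, ⟨?_⟩⟩
  exact (QuotientGroup.quotientMulEquivOfEq e).trans (QuotientGroup.quotientKerEquivOfSurjective f hf)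

theorem centralizer_pCore_of_equiv {H K : Type*} [Group H] [Group K] (e : H ≃* K) (p : ℕ)
    (h : Subgroup.centralizer (Cfsg.pCore p K : Set K) ≤ Cfsg.pCore p K) :
    Subgroup.centralizer (Cfsg.pCore p H : Set H) ≤ Cfsg.pCore p H := by
  intro x hx
  have h1 : e x ∈ Subgroup.centralizer (Cfsg.pCore p K : Set K) := by
    rw [Subgroup.mem_centralizer_iff, ← CfsgLib.Solvable.Cores.map_pCore e p]
    rintro _ ⟨y, hy, rfl⟩
    show e y * e x = e x * e y
    rw [← map_mul, ← map_mul, Subgroup.mem_centralizer_iff.mp hx y hy]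
  have h2 := h h1
  rw [← CfsgLib.Solvable.Cores.map_pCore e p] at h2
  obtain ⟨y, hy, hxy⟩ := h2
  exact e.injective hxy ▸ hy

/-! ### Functors on groups and homomorphisms -/

variable {p : ℕ} {W : ∀ (Q : Type u) [Group Q], Subgroup Q}

theorem inducedFunctor_map (hW : Cfsg.IsCharPFunctor.{u} p W) (f : X →* Y) {P : Subgroup X}
    [Finite P] (hP : IsPGroup p P) (hf : Set.InjOn f P) :
    Cfsg.inducedFunctor W (P.map f) = (Cfsg.inducedFunctor W P).map f := by
  let e : P ≃* P.map f := MulEquiv.ofBijective (f.subgroupMap P)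
    ⟨fun a b hab => Subtype.ext (hf a.2 b.2 (Subtype.ext_iff.mp hab)), f.subgroupMap_surjective P⟩
  have h := hW.2 P (P.map f) hP e
  show (W ↥(P.map f)).map (P.map f).subtype = ((W P).map P.subtype).map f
  rw [← h, Subgroup.map_map, Subgroup.map_map]
  rfl

theorem inducedFunctor_le (W : ∀ (Q : Type u) [Group Q], Subgroup Q) (P : Subgroup X) :
    Cfsg.inducedFunctor W P ≤ P := Subgroup.map_subtype_le _

theorem isConjugacyFunctor_induced [Finite X] (hW : Cfsg.IsCharPFunctor.{u} p W) :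
    Cfsg.IsConjugacyFunctor p (Cfsg.inducedFunctor (G := X) W) := by
  intro P hP
  refine ⟨inducedFunctor_le W P, fun hne h => ?_, fun g => ?_⟩
  · have hnt : Nontrivial P := (Subgroup.nontrivial_iff_ne_bot P).mpr hne
    exact hW.1 P hP hnt ((Subgroup.map_eq_bot_iff_of_injective _ P.subtype_injective).mp h)
  · exact inducedFunctor_map hW _ hP (MulAut.conj g).injective.injOn

/-- The conjugacy functors induced on `X`. -/
abbrev ind (X : Type u) [Group X] (𝓦 : Set (∀ (Q : Type u) [Group Q], Subgroup Q)) :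
    Set (Subgroup X → Subgroup X) :=
  (fun W => Cfsg.inducedFunctor (G := X) W) '' 𝓦

variable {𝓦 : Set (∀ (Q : Type u) [Group Q], Subgroup Q)}

theorem isConjugacyFunctor_ind [Finite X] (h𝓦 : ∀ W ∈ 𝓦, Cfsg.IsCharPFunctor.{u} p W) :
    ∀ V ∈ ind X 𝓦, Cfsg.IsConjugacyFunctor p V := by
  rintro _ ⟨W, hW, rfl⟩
  exact isConjugacyFunctor_induced (h𝓦 W hW)

theorem map_inf_normalizer (f : X →* Y) (hf : Function.Injective f) (H A : Subgroup X) :
    (H ⊓ Subgroup.normalizer (A : Set X)).map f = H.map f ⊓ Subgroup.normalizer (A.map f : Set Y) := by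
  refine le_antisymm (le_inf (Subgroup.map_mono inf_le_left)
    ((Subgroup.map_mono inf_le_right).trans (Subgroup.le_normalizer_map f))) ?_
  rintro _ ⟨⟨x, hx, rfl⟩, hN⟩
  refine ⟨x, ⟨hx, Subgroup.mem_normalizer_iff.mpr fun a => ?_⟩, rfl⟩
  have h := Subgroup.mem_normalizer_iff.mp hN (f a)
  rw [← map_inv, ← map_mul, ← map_mul, Subgroup.mem_map_iff_mem hf, Subgroup.mem_map_iff_mem hf] at h
  exact h

theorem not_dvd_relIndex_map (f : X →* Y) (hf : Function.Injective f) {T H : Subgroup X}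
    (h : ¬ p ∣ T.relIndex H) : ¬ p ∣ (T.map f).relIndex (H.map f) := by
  rwa [← Subgroup.relIndex_comap, Subgroup.comap_map_eq_self_of_injective hf]

theorem familyControls_map [Finite X] (h𝓦 : ∀ W ∈ 𝓦, Cfsg.IsCharPFunctor.{u} p W) (f : X →* Y)
    (hf : Function.Injective f) {H : Subgroup X}
    (h : Cfsg.FamilyControlsStrongFusionIn p (ind X 𝓦) H) :
    Cfsg.FamilyControlsStrongFusionIn p (ind Y 𝓦) (H.map f) := by
  obtain ⟨T, hTH, hTp, hTd, hT⟩ := h
  refine ⟨T.map f, Subgroup.map_mono hTH, hTp.map f, not_dvd_relIndex_map f hf hTd, ?_⟩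
  rintro A _ ⟨h, hh, rfl⟩ hA hhA
  have hA' : f ⁻¹' A ⊆ T := fun a ha => (Subgroup.mem_map_iff_mem hf).mp (hA ha)
  have hhA' : (fun a => h * a * h⁻¹) '' (f ⁻¹' A) ⊆ T := by
    rintro _ ⟨a, ha, rfl⟩
    refine (Subgroup.mem_map_iff_mem hf).mp ?_
    simpa using hhA ⟨f a, ha, rfl⟩
  obtain ⟨n, c, h0, h1, h2, h3⟩ := hT _ h hh hA' hhA'
  refine ⟨n, fun i => f (c i), by simp [h0], fun i => ?_, fun i => ?_, fun a ha => ?_⟩
  · obtain ⟨_, ⟨W, hW, rfl⟩, hi⟩ := h1 i
    refine ⟨_, ⟨W, hW, rfl⟩, ?_⟩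
    rw [← map_inv, ← map_mul]
    show f _ ∈ H.map f ⊓ Subgroup.normalizer (Cfsg.inducedFunctor W (T.map f) : Set Y)
    rw [inducedFunctor_map (h𝓦 W hW) f hTp hf.injOn, ← map_inf_normalizer f hf]
    exact ⟨_, hi, rfl⟩
  · rintro _ ⟨a, ha, rfl⟩
    obtain ⟨a, haT, rfl⟩ := hA ha
    exact ⟨_, h2 i ⟨a, ha, rfl⟩, by simp⟩
  · obtain ⟨a, haT, rfl⟩ := hA ha
    simpa using congrArg f (h3 a ha)

theorem familyTransfer_map [Finite X] (h𝓦 : ∀ W ∈ 𝓦, Cfsg.IsCharPFunctor.{u} p W) (f : X →* Y)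
    (hf : Function.Injective f) {H : Subgroup X}
    (h : Cfsg.FamilyControlsTransferIn p (ind X 𝓦) H) :
    Cfsg.FamilyControlsTransferIn p (ind Y 𝓦) (H.map f) := by
  obtain ⟨T, hTH, hTp, hTd, hT⟩ := h
  refine ⟨T.map f, Subgroup.map_mono hTH, hTp.map f, not_dvd_relIndex_map f hf hTd, ?_⟩
  rw [← Subgroup.map_commutator, ← Subgroup.map_inf _ _ f hf, hT]
  simp only [Subgroup.map_iSup, iSup_image]
  refine iSup_congr fun W => iSup_congr fun hW => ?_
  rw [Subgroup.map_inf _ _ f hf, Subgroup.map_commutator, map_inf_normalizer f hf,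
    inducedFunctor_map (h𝓦 W hW) f hTp hf.injOn]

/-- Control of strong fusion in a subgroup, from control in the group formed by it. -/
theorem familyControls_of_subgroup [Finite G] (h𝓦 : ∀ W ∈ 𝓦, Cfsg.IsCharPFunctor.{u} p W) (H : Subgroup G)
    (h : Cfsg.FamilyControlsStrongFusionIn p (ind H 𝓦) ⊤) :
    Cfsg.FamilyControlsStrongFusionIn p (ind G 𝓦) H := by
  have h1 := familyControls_map h𝓦 H.subtype H.subtype_injective h
  rwa [← MonoidHom.range_eq_map, H.range_subtype] at h1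

theorem familyControls_of_equiv [Finite X] (h𝓦 : ∀ W ∈ 𝓦, Cfsg.IsCharPFunctor.{u} p W) (e : X ≃* Y)
    (h : Cfsg.FamilyControlsStrongFusionIn p (ind X 𝓦) ⊤) :
    Cfsg.FamilyControlsStrongFusionIn p (ind Y 𝓦) ⊤ := by
  have h1 := familyControls_map h𝓦 e.toMonoidHom e.injective h
  rwa [Subgroup.map_top_of_surjective _ e.surjective] at h1

theorem familyTransfer_of_subgroup [Finite G] (h𝓦 : ∀ W ∈ 𝓦, Cfsg.IsCharPFunctor.{u} p W) (H : Subgroup G)
    (h : Cfsg.FamilyControlsTransferIn p (ind H 𝓦) ⊤) :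
    Cfsg.FamilyControlsTransferIn p (ind G 𝓦) H := by
  have h1 := familyTransfer_map h𝓦 H.subtype H.subtype_injective h
  rwa [← MonoidHom.range_eq_map, H.range_subtype] at h1

theorem familyTransfer_of_equiv [Finite X] (h𝓦 : ∀ W ∈ 𝓦, Cfsg.IsCharPFunctor.{u} p W) (e : X ≃* Y)
    (h : Cfsg.FamilyControlsTransferIn p (ind X 𝓦) ⊤) :
    Cfsg.FamilyControlsTransferIn p (ind Y 𝓦) ⊤ := by
  have h1 := familyTransfer_map h𝓦 e.toMonoidHom e.injective h
  rwa [Subgroup.map_top_of_surjective _ e.surjective] at h1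

end CfsgLib.KGroups.Functor
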