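import Cfsg.Agent.Lib.KGroups.Functor.Basic
import Cfsg.Agent.Lib.Coprime.Sylow
import Cfsg.Prelude.Def_LocalEven

/-!
Clifford's theorem on a chief factor, for subnormal subgroups.
-/

set_option autoImplicit false
set_option linter.unusedSectionVars false

namespace CfsgLib.KGroups.Functor.Semisimple

open scoped commutatorElement

variable {G : Type*} [Group G] [Finite G] {U V : Subgroup G}

/-- `N` is an `H`-invariant subgroup between `V` and `U`. -/
def Inv (U V H N : Subgroup G) : Prop := V ≤ N ∧ N ≤ U ∧ H ≤ Subgroup.normalizer (N : Set G)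

/-- Every invariant subgroup between `V` and `U` has an invariant complement modulo `V`. -/
def Complemented (U V H : Subgroup G) : Prop :=
  ∀ N, Inv U V H N → ∃ N', Inv U V H N' ∧ N ⊓ N' = V ∧ N ⊔ N' = U

theorem normalizer_of_between (hUU : ⁅U, U⁆ ≤ V) {N : Subgroup G} (h1 : V ≤ N) (h2 : N ≤ U) :
    U ≤ Subgroup.normalizer (N : Set G) :=
  Subgroup.le_normalizer_iff_commutator_le_left.mpr ((Subgroup.commutator_mono h2 le_rfl).trans (hUU.trans h1))

theorem exists_mul_of_mem_sup (hUU : ⁅U, U⁆ ≤ V) {N N' : Subgroup G} (h1 : V ≤ N') (h2 : N' ≤ U) (h3 : N ≤ U)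
    {x : G} (hx : x ∈ N ⊔ N') : ∃ a ∈ N, ∃ b ∈ N', x = a * b := by
  have hx' : x ∈ ((N ⊔ N' : Subgroup G) : Set G) := hx
  rw [Subgroup.coe_mul_of_left_le_normalizer_right N N' (h3.trans (normalizer_of_between hUU h1 h2))] at hx'
  obtain ⟨a, ha, b, hb, rfl⟩ := hx'
  exact ⟨a, ha, b, hb, rfl⟩

theorem inv_sup {H N N' : Subgroup G}
    (h : Inv U V H N) (h' : Inv U V H N') : Inv U V H (N ⊔ N') :=
  ⟨h.1.trans le_sup_left, sup_le h.2.1 h'.2.1, fun x hx => conjG_eq_iff.mp (by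
    rw [Subgroup.map_sup, conjG_eq_iff.mpr (h.2.2 hx), conjG_eq_iff.mpr (h'.2.2 hx)])⟩

theorem inv_inf {H N N' : Subgroup G} (h : Inv U V H N) (h' : Inv U V H N') : Inv U V H (N ⊓ N') :=
  ⟨le_inf h.1 h'.1, inf_le_left.trans h.2.1, fun x hx => conjG_eq_iff.mp (by
    rw [Subgroup.map_inf _ _ _ (MulAut.conj x).injective, conjG_eq_iff.mpr (h.2.2 hx), conjG_eq_iff.mpr (h'.2.2 hx)])⟩

/-- The minimal invariant subgroups. -/
def MinInv (U V H : Subgroup G) : Set (Subgroup G) :=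
  {P | Inv U V H P ∧ P ≠ V ∧ ∀ N, Inv U V H N → N ≤ P → N = V ∨ N = P}

theorem exists_minInv {H N : Subgroup G} (hN : Inv U V H N) (hne : N ≠ V) : ∃ P ∈ MinInv U V H, P ≤ N := by
  obtain ⟨P, ⟨hP, hPV, hPN⟩, hmin⟩ := (Finite.to_wellFoundedLT).wf.has_min
    {P : Subgroup G | Inv U V H P ∧ P ≠ V ∧ P ≤ N} ⟨N, hN, hne, le_rfl⟩
  refine ⟨P, ⟨hP, hPV, fun M hM hMP => ?_⟩, hPN⟩
  by_contra hcon
  push Not at hcon
  exact hmin M ⟨hM, hcon.1, hMP.trans hPN⟩ (lt_of_le_of_ne hMP hcon.2)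

theorem complemented_of_normal (hUU : ⁅U, U⁆ ≤ V) (hVU : V ≤ U) [U.Normal] [V.Normal] {M H : Subgroup G}
    (hHM : H ≤ M) (hn : M ≤ Subgroup.normalizer (H : Set G)) (hM : Complemented U V M) : Complemented U V H := by
  have hVinv : ∀ L : Subgroup G, Inv U V L V := fun L =>
    ⟨le_rfl, hVU, by rw [Subgroup.normalizer_eq_top]; exact le_top⟩
  have hUinv : ∀ L : Subgroup G, Inv U V L U := fun L =>
    ⟨hVU, le_rfl, by rw [Subgroup.normalizer_eq_top]; exact le_top⟩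
  set Soc : Subgroup G := V ⊔ sSup (MinInv U V H) with hSoc
  have hconj : ∀ m ∈ M, ∀ P ∈ MinInv U V H, P ^ᶜ m ∈ MinInv U V H := by
    have hinv : ∀ m ∈ M, ∀ P, Inv U V H P → Inv U V H (P ^ᶜ m) := by
      rintro m hm P ⟨h1, h2, h3⟩
      refine ⟨?_, ?_, ?_⟩
      · exact (conjG_eq_iff.mpr ((hVinv M).2.2 hm)).ge.trans (Subgroup.map_mono h1)
      · exact (Subgroup.map_mono h2).trans (conjG_eq_iff.mpr ((hUinv M).2.2 hm)).le
      · rw [LocalEven.SylowIn.normalizer_map_conj]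
        exact (conjG_eq_iff.mpr (hn hm)).ge.trans (Subgroup.map_mono h3)
    rintro m hm P ⟨hP, hPV, hPmin⟩
    refine ⟨hinv m hm P hP, fun e => hPV ?_, fun N hN hNP => ?_⟩
    · rw [← conjG_inv_conjG P m, e]; exact conjG_eq_iff.mpr ((hVinv M).2.2 (M.inv_mem hm))
    · have h1 : N ^ᶜ m⁻¹ ≤ P := by rw [← conjG_inv_conjG P m]; exact Subgroup.map_mono hNP
      rcases hPmin _ (hinv _ (M.inv_mem hm) N hN) h1 with h | h
      · left; rw [← conjG_inv_conjG N m⁻¹, h, inv_inv]; exact conjG_eq_iff.mpr ((hVinv M).2.2 hm)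
      · right; rw [← conjG_inv_conjG N m⁻¹, h, inv_inv]
  have hSocU : Soc ≤ U := sup_le hVU (sSup_le fun P hP => hP.1.2.1)
  have hSocM : Inv U V M Soc := by
    refine ⟨le_sup_left, hSocU, fun m hm => conjG_eq_iff.mp ?_⟩
    refine Subgroup.eq_of_le_of_card_ge ?_ (card_conjG Soc m).ge
    rw [hSoc, Subgroup.map_sup, sSup_eq_iSup, Subgroup.map_iSup]
    refine sup_le ((conjG_eq_iff.mpr ((hVinv M).2.2 hm)).le.trans le_sup_left) (iSup_le fun P => ?_)
    rw [Subgroup.map_iSup]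
    exact iSup_le fun hP => le_sup_of_le_right (le_iSup₂_of_le (P ^ᶜ m) (hconj m hm P hP) le_rfl)
  have hSocTop : Soc = U := by
    obtain ⟨N', hN', hinf, hsup⟩ := hM Soc hSocM
    rcases eq_or_ne N' V with rfl | hne
    · rwa [sup_eq_left.mpr le_sup_left] at hsup
    · obtain ⟨P, hP, hPN⟩ := exists_minInv (H := H) (U := U) ⟨hN'.1, hN'.2.1, hHM.trans hN'.2.2⟩ hne
      refine absurd (le_antisymm ?_ hP.1.1) hP.2.1
      rw [← hinf]
      exact le_inf ((le_sSup hP).trans le_sup_right) hPN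
  intro N hN
  obtain ⟨N', ⟨hN', hinf⟩, hmax⟩ := (Finite.to_wellFoundedGT).wf.has_min
    {N' : Subgroup G | Inv U V H N' ∧ N ⊓ N' = V} ⟨V, hVinv H, inf_eq_right.mpr hN.1⟩
  refine ⟨N', hN', hinf, ?_⟩
  by_contra hne
  have hlt : N ⊔ N' ≤ U := sup_le hN.2.1 hN'.2.1
  obtain ⟨P, hP, hPnot⟩ : ∃ P ∈ MinInv U V H, ¬ P ≤ N ⊔ N' := by
    by_contra hcon
    push Not at hcon
    exact hne (le_antisymm hlt (hSocTop ▸ sup_le (hN.1.trans le_sup_left) (sSup_le hcon)))
  have hPinf : P ⊓ (N ⊔ N') = V := by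
    rcases hP.2.2 _ (inv_inf hP.1 (inv_sup hN hN')) inf_le_left with h | h
    · exact h
    · exact absurd (inf_eq_left.mp h) hPnot
  have hlt' : N' < N' ⊔ P := lt_of_le_of_ne le_sup_left fun e => hPnot ((e ▸ le_sup_right).trans le_sup_right)
  refine hmax (N' ⊔ P) ⟨inv_sup hN' hP.1, le_antisymm ?_ (le_inf hN.1 (hN'.1.trans le_sup_left))⟩ hlt'
  rintro x ⟨hxN, hx⟩
  obtain ⟨a, ha, b, hb, rfl⟩ := exists_mul_of_mem_sup hUU hP.1.1 hP.1.2.1 hN'.2.1 hx
  have hbV : b ∈ V := by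
    rw [← hPinf]
    refine ⟨hb, ?_⟩
    simpa using Subgroup.mul_mem _ (Subgroup.mem_sup_right (Subgroup.inv_mem _ ha)) (Subgroup.mem_sup_left (T := N') hxN)
  rw [← hinf]
  exact ⟨hxN, N'.mul_mem ha (hN'.1 hbV)⟩

/-- Subgroups `H` with `C ≤ H ≤ K`, where `K/C` is a `p`-group, are semisimple on a chief factor. -/
theorem complemented_of_subnormal {p : ℕ} [Fact p.Prime] (hUU : ⁅U, U⁆ ≤ V) (hc : Cfsg.IsChiefFactor U V)
    {C K H : Subgroup G} [C.Normal] [K.Normal] (hK : IsPGroup p (K.map (QuotientGroup.mk' C)))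
    (hCH : C ≤ H) (hHK : H ≤ K) : Complemented U V H := by
  obtain ⟨hlt, hUn, hVn, hmax⟩ := hc
  have htop : Complemented U V (⊤ : Subgroup G) := by
    intro N hN
    have hNn : N.Normal := Subgroup.normalizer_eq_top_iff.mp (top_le_iff.mp hN.2.2)
    rcases hmax N hNn hN.1 hN.2.1 with h | h
    · exact ⟨U, ⟨hlt.le, le_rfl, by rw [Subgroup.normalizer_eq_top]⟩, by rw [h, inf_eq_left.mpr hlt.le], by rw [h, sup_eq_right.mpr hlt.le]⟩
    · exact ⟨V, ⟨le_rfl, hlt.le, by rw [Subgroup.normalizer_eq_top]⟩, by rw [h, inf_eq_right.mpr hlt.le], by rw [h, sup_eq_left.mpr hlt.le]⟩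
  induction hk : Nat.card K - Nat.card H using Nat.strong_induction_on generalizing H with
  | _ k ih =>
  subst hk
  rcases eq_or_ne H K with rfl | hne
  · exact complemented_of_normal hUU hlt.le le_top (by rw [Subgroup.normalizer_eq_top]) htop
  · set π := QuotientGroup.mk' C
    have hH : (H.map π).comap π = H := by
      rw [Subgroup.comap_map_eq, QuotientGroup.ker_mk', sup_eq_left.mpr hCH]
    have hlt' : H.map π < K.map π := lt_of_le_of_ne (Subgroup.map_mono hHK) fun e => hne (by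
      rw [← hH, e, Subgroup.comap_map_eq, QuotientGroup.ker_mk', sup_eq_left.mpr (hCH.trans hHK)])
    have hlt2 := Coprime.lt_normalizer_inf_of_lt hK hlt'
    set M : Subgroup G := K ⊓ (Subgroup.normalizer (H.map π : Set (G ⧸ C))).comap π with hM
    have hMn : M ≤ Subgroup.normalizer (H : Set G) := by
      intro m hm
      rw [Subgroup.mem_normalizer_iff]
      intro a
      rw [← hH, Subgroup.mem_comap, Subgroup.mem_comap, map_mul, map_mul, map_inv]
      exact Subgroup.mem_normalizer_iff.mp hm.2 (π a)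
    have hHM : H ≤ M := le_inf hHK (Subgroup.map_le_iff_le_comap.mp Subgroup.le_normalizer)
    have hHM' : H < M := lt_of_le_of_ne hHM fun e => by
      obtain ⟨x, ⟨⟨a, ha, rfl⟩, hxN⟩, hxH⟩ := SetLike.exists_of_lt hlt2
      exact hxH ⟨a, e.symm ▸ ⟨ha, hxN⟩, rfl⟩
    have hc1 : Nat.card H < Nat.card M := lt_of_not_ge fun h => hHM'.ne (Subgroup.eq_of_le_of_card_ge hHM h)
    have hc2 : Nat.card M ≤ Nat.card K := Subgroup.card_le_of_le inf_le_left
    exact complemented_of_normal hUU hlt.le hHM hMn (ih _ (by omega) (hCH.trans hHM) inf_le_left rfl)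

end CfsgLib.KGroups.Functor.Semisimple
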