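import Cfsg.Agent.Lib.KGroups.KInfinity
import Cfsg.Agent.Lib.KGroups.CharP
import Cfsg.Agent.Lib.KGroups.Functor.Section
import Cfsg.Agent.Lib.KGroups.Functor.Semisimple
import Cfsg.Agent.Lib.KGroups.Functor.ChiefAction
import Cfsg.Agent.Lib.Coprime.Action

/-!
Glauberman's theorem: elements of small degree when a K-infinity subgroup is not normal.
-/

set_option autoImplicit false
set_option linter.unusedSectionVars false

namespace CfsgLib.KGroups.Functor.Quadratic

open Cfsg CfsgLib.KGroups.KInfinity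
open scoped commutatorElement

variable {G : Type*} [Group G] [Finite G] {p : ℕ} [Fact p.Prime]

theorem commutator_zpowers_le {g : G} {B : Subgroup G} (hg : g ∈ B) (X : Subgroup G) :
    ⁅X, Subgroup.zpowers g⁆ ≤ ⁅X, B⁆ :=
  Subgroup.commutator_mono le_rfl (Subgroup.zpowers_le.mpr hg)

/-- Commutators with a join, in a section `U/V` that is abelian. -/
theorem commutator_sup_le {U V : Subgroup G} (hUU : ⁅U, U⁆ ≤ V) [U.Normal] [V.Normal] {X Y : Subgroup G}
    (hX : X ≤ U) (hY : Y ≤ U) (L : Subgroup G) : ⁅X ⊔ Y, L⁆ ≤ ⁅X, L⁆ ⊔ ⁅Y, L⁆ ⊔ V := by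
  set P := ⁅X, L⁆ ⊔ ⁅Y, L⁆ ⊔ V with hP
  have hPU : ⁅X, L⁆ ⊔ ⁅Y, L⁆ ≤ U :=
    sup_le ((Subgroup.commutator_mono hX le_rfl).trans (Subgroup.commutator_le_left U L))
      ((Subgroup.commutator_mono hY le_rfl).trans (Subgroup.commutator_le_left U L))
  have hconj : ∀ u ∈ U, ∀ y ∈ P, y ∈ U → u * y * u⁻¹ ∈ P := by
    intro u hu y hy hyU
    have h1 : u * y * u⁻¹ * y⁻¹ ∈ P :=
      Subgroup.mem_sup_right (hUU (Subgroup.commutator_mem_commutator hu hyU))
    simpa using P.mul_mem h1 hy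
  rw [Subgroup.commutator_le]
  intro w hw l hl
  have hmem : ∀ v ∈ (X : Set G) ∪ Y, ⁅v, l⁆ ∈ P := by
    rintro v (hv | hv)
    · exact Subgroup.mem_sup_left (Subgroup.mem_sup_left (Subgroup.commutator_mem_commutator hv hl))
    · exact Subgroup.mem_sup_left (Subgroup.mem_sup_right (Subgroup.commutator_mem_commutator hv hl))
  have hcl : X ⊔ Y = Subgroup.closure ((X : Set G) ∪ Y) := by
    rw [Subgroup.closure_union, Subgroup.closure_eq, Subgroup.closure_eq]
  rw [hcl] at hw
  have hUcl : ∀ z ∈ Subgroup.closure ((X : Set G) ∪ Y), z ∈ U := fun z hz => sup_le hX hY (hcl ▸ hz)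
  induction hw using Subgroup.closure_induction with
  | mem y hy => exact hmem y hy
  | one => simp [one_mem]
  | mul y z hy hz ihy ihz =>
    have h1 : ⁅y * z, l⁆ = y * ⁅z, l⁆ * y⁻¹ * ⁅y, l⁆ := by simp [commutatorElement_def, mul_assoc]
    rw [h1]
    refine P.mul_mem (hconj y (hUcl y hy) _ ihz ?_) ihy
    exact Subgroup.commutator_le_left U (Subgroup.zpowers l) (Subgroup.commutator_mem_commutator (hUcl z hz) (Subgroup.mem_zpowers l))
  | inv y hy ihy =>
    have h1 : ⁅y⁻¹, l⁆ = y⁻¹ * ⁅y, l⁆⁻¹ * y⁻¹⁻¹ := by simp [commutatorElement_def, mul_assoc]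
    rw [h1]
    refine hconj y⁻¹ (U.inv_mem (hUcl y hy)) _ (P.inv_mem ihy) (U.inv_mem ?_)
    exact Subgroup.commutator_le_left U (Subgroup.zpowers l) (Subgroup.commutator_mem_commutator (hUcl y hy) (Subgroup.mem_zpowers l))

/-- An element of order prime to `p` trivial on the chief factors between `M` and `N`, fixing `M`, fixes `N`. -/
theorem centralizes_of_trivial_factors {k : G} (hk : (orderOf k).Coprime p) {M : Subgroup G} [M.Normal]
    (hM : k ∈ Subgroup.centralizer (M : Set G)) :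
    ∀ (N : Subgroup G) [N.Normal], IsPGroup p N → M ≤ N →
      (∀ U V : Subgroup G, Cfsg.IsChiefFactor U V → U ≤ N → M ≤ V → ⁅U, Subgroup.zpowers k⁆ ≤ V) →
      k ∈ Subgroup.centralizer (N : Set G) := by
  intro N
  induction hc : Nat.card N using Nat.strong_induction_on generalizing N with
  | _ c ih =>
  intro hNn hNp hMN h
  subst hc
  rcases eq_or_ne M N with rfl | hne
  · exact hM
  obtain ⟨V, ⟨hVn, hMV, hVN⟩, hVmax⟩ := (Finite.to_wellFoundedGT).wf.has_min
    {V : Subgroup G | V.Normal ∧ M ≤ V ∧ V < N} ⟨M, inferInstance, le_rfl, lt_of_le_of_ne hMN hne⟩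
  have hch : Cfsg.IsChiefFactor N V := ⟨hVN, hNn, hVn, fun L hL h1 h2 => by
    by_contra hboth
    push Not at hboth
    exact hVmax L ⟨hL, hMV.trans h1, lt_of_le_of_ne h2 hboth.2⟩ (lt_of_le_of_ne h1 (Ne.symm hboth.1))⟩
  have hcard : Nat.card V < Nat.card N :=
    lt_of_not_ge fun hge => hVN.ne (Subgroup.eq_of_le_of_card_ge hVN.le hge)
  have hkV : k ∈ Subgroup.centralizer (V : Set G) :=
    ih _ hcard V rfl (hNp.to_le hVN.le) hMV (fun U W hUW hU hW => h U W hUW (hU.trans hVN.le) hW)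
  rw [Subgroup.mem_centralizer_iff]
  intro x hx
  refine (Coprime.commute_of_stabilizes ?_ hkV ?_).symm.eq
  · obtain ⟨j, hj⟩ := (hNp.to_le hVN.le).exists_card_eq
    rw [hj]; exact Nat.Coprime.pow_right j hk
  · have := V.inv_mem (h N V hch le_rfl hMV (Subgroup.commutator_mem_commutator hx (Subgroup.mem_zpowers k)))
    rwa [commutatorElement_inv] at this

section Main

variable {S : Sylow p G} {A : Subgroup G} [A.Normal]

/-- The normal subgroup acting trivially on given chief factors. -/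
def factorKernel (𝒮 : Subgroup G → Subgroup G → Prop) : Subgroup G where
  carrier := {k | ∀ U V : Subgroup G, Cfsg.IsChiefFactor U V → 𝒮 U V → ∀ x ∈ U, k * x * k⁻¹ * x⁻¹ ∈ V}
  one_mem' := fun U V _ _ x _ => by simp [one_mem]
  mul_mem' := by
    intro a b ha hb U V h hS x hx
    have h1 := ha U V h hS _ (h.2.1.conj_mem x hx b)
    have h2 := hb U V h hS x hx
    simpa [mul_assoc] using V.mul_mem h1 h2
  inv_mem' := by
    intro a ha U V h hS x hx
    have h1 := V.inv_mem (ha U V h hS _ (h.2.1.conj_mem x hx a⁻¹))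
    simpa [mul_assoc] using h1

instance factorKernel_normal (𝒮 : Subgroup G → Subgroup G → Prop) : (factorKernel 𝒮).Normal :=
  ⟨fun k hk g U V h hS x hx => by
    have h1 := h.2.2.1.conj_mem _ (hk U V h hS _ (h.2.1.conj_mem x hx g⁻¹)) g
    simpa [mul_assoc] using h1⟩

theorem commutator_le_of_mem_factorKernel {𝒮 : Subgroup G → Subgroup G → Prop} {k : G} (hk : k ∈ factorKernel 𝒮)
    {U V : Subgroup G} (h : Cfsg.IsChiefFactor U V) (hS : 𝒮 U V) : ⁅U, Subgroup.zpowers k⁆ ≤ V := by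
  rw [Subgroup.commutator_le]
  intro x hx l hl
  have h1 := V.inv_mem (Subgroup.zpowers_le.mpr hk hl U V h hS x hx)
  simpa [commutatorElement_def, mul_assoc] using h1

theorem exists_moved_factor (hAp : IsPGroup p A)
    (hA5 : ∀ d : G, (orderOf d).Coprime p → d ∈ Subgroup.centralizer (A : Set G) → d = 1)
    {g : G} (hgT : g ∉ Cfsg.pCore p G) :
    ∃ U V : Subgroup G, Cfsg.IsChiefFactor U V ∧ U ≤ A ∧ (U ≤ Z A ∨ Z A ≤ V) ∧ ¬ ⁅U, Subgroup.zpowers g⁆ ≤ V := by
  by_contra hcon
  push Not at hcon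
  set K := factorKernel (G := G) (fun U V => U ≤ A ∧ (U ≤ Z A ∨ Z A ≤ V))
  have hgK : g ∈ K := fun U V h hS x hx => by
    have h1 := V.inv_mem (hcon U V h hS.1 hS.2 (Subgroup.commutator_mem_commutator hx (Subgroup.mem_zpowers g)))
    simpa [commutatorElement_def, mul_assoc] using h1
  refine hgT (Solvable.Cores.le_pCore (N := K) ?_ hgK)
  have h1 : ∀ k : G, k ∈ K → (orderOf k).Coprime p → k = 1 := by
    intro k hk hkp
    refine hA5 k hkp ?_
    have hbot : k ∈ Subgroup.centralizer ((⊥ : Subgroup G) : Set G) := by simp [Subgroup.mem_centralizer_iff]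
    have hZ : k ∈ Subgroup.centralizer (Z A : Set G) :=
      centralizes_of_trivial_factors hkp hbot (Z A) (hAp.to_le inf_le_left) bot_le
        (fun U V h hU _ => commutator_le_of_mem_factorKernel hk h ⟨hU.trans inf_le_left, Or.inl hU⟩)
    exact centralizes_of_trivial_factors hkp hZ A hAp inf_le_left
      (fun U V h hU hV => commutator_le_of_mem_factorKernel hk h ⟨hU, Or.inr hV⟩)
  intro k
  obtain ⟨j, hj⟩ := Fusion.Basic.exists_pow_coprime (p := p) (k : G)
  exact ⟨j, Subtype.ext (h1 _ (K.pow_mem k.2 _) hj)⟩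

theorem isPGroup_map_factorKernel (hAp : IsPGroup p A) (hA2 : ⁅A, A⁆ ≤ Z A) :
    IsPGroup p ((factorKernel (G := G) (fun U _ => U ≤ Z A)).map
      (QuotientGroup.mk' (Subgroup.centralizer ((⁅A, A⁆ : Subgroup G) : Set G) ⊓ factorKernel (G := G) (fun U _ => U ≤ Z A)))) := by
  rintro ⟨_, k, hk, rfl⟩
  obtain ⟨j, hj⟩ := Fusion.Basic.exists_pow_coprime (p := p) k
  refine ⟨j, Subtype.ext ?_⟩
  show (QuotientGroup.mk' _ k) ^ p ^ j = 1
  rw [← map_pow]
  refine (QuotientGroup.eq_one_iff _).mpr ⟨?_, Subgroup.pow_mem _ hk _⟩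
  have hbot : (k ^ p ^ j) ∈ Subgroup.centralizer ((⊥ : Subgroup G) : Set G) := by simp [Subgroup.mem_centralizer_iff]
  have hle : (⁅A, A⁆ : Subgroup G) ≤ A := A.commutator_le_self
  have h3 : ∀ U V : Subgroup G, Cfsg.IsChiefFactor U V → U ≤ Z A → (⊥ : Subgroup G) ≤ V →
      ⁅U, Subgroup.zpowers (k ^ p ^ j)⁆ ≤ V := fun U V h hU _ =>
    commutator_le_of_mem_factorKernel (Subgroup.pow_mem _ hk _) h hU
  have hZ := centralizes_of_trivial_factors hj hbot (Z A) (hAp.to_le inf_le_left) bot_le h3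
  rw [Subgroup.mem_centralizer_iff] at hZ
  show k ^ p ^ j ∈ Subgroup.centralizer _
  rw [Subgroup.mem_centralizer_iff]
  exact fun w hw => hZ w (hA2 hw)

/-- The conclusion of the theorem at `g`. -/
def Small (S : Sylow p G) (A : Subgroup G) (g : G) : Prop :=
  g ∈ (S : Subgroup G) ∧ g ∉ Cfsg.pCore p G ∧ Cfsg.iterCommutator A (Subgroup.zpowers g) 3 ≤ Z A ∧
    ⁅⁅Z A, Subgroup.zpowers g⁆, Subgroup.zpowers g⁆ = ⊥ ∧
    (Subgroup.centralizer (Cfsg.pCore p G : Set G) ≤ Cfsg.pCore p G → ∃ U V : Subgroup G, Cfsg.IsChiefFactor U V ∧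
      U ≤ A ∧ ⁅⁅U, Subgroup.zpowers g⁆, Subgroup.zpowers g⁆ ≤ V ∧ ¬ ⁅U, Subgroup.zpowers g⁆ ≤ V)

variable (hAT : A ≤ Cfsg.pCore p G) (hA2 : ⁅A, A⁆ ≤ Z A) (hA3 : ⁅Cfsg.pCore p G, A⁆ ≤ Z A)
  (hA5 : Subgroup.centralizer (Cfsg.pCore p G : Set G) ≤ Cfsg.pCore p G →
    ∀ d : G, (orderOf d).Coprime p → d ∈ Subgroup.centralizer (A : Set G) → d = 1)

include hAT hA5 in
/-- A quadratic element outside `O_p(G)` is small. -/
theorem small_of_quadratic {g : G} (hgS : g ∈ (S : Subgroup G)) (hgT : g ∉ Cfsg.pCore p G)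
    (h1 : ⁅⁅A, Subgroup.zpowers g⁆, Subgroup.zpowers g⁆ ≤ Z A)
    (h2 : ⁅⁅Z A, Subgroup.zpowers g⁆, Subgroup.zpowers g⁆ = ⊥) : Small S A g := by
  refine ⟨hgS, hgT, ?_, h2, fun hc => ?_⟩
  · exact (Subgroup.commutator_mono h1 le_rfl).trans (Subgroup.commutator_le_left _ _)
  · obtain ⟨U, V, hUV, hUA, hUZ, hnot⟩ :=
      exists_moved_factor ((Solvable.Cores.isPGroup_pCore p).to_le hAT) (hA5 hc) hgT
    refine ⟨U, V, hUV, hUA, ?_, hnot⟩
    rcases hUZ with h | h
    · exact (Subgroup.commutator_mono (Subgroup.commutator_mono h le_rfl) le_rfl).trans (h2 ▸ bot_le)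
    · exact (Subgroup.commutator_mono (Subgroup.commutator_mono hUA le_rfl) le_rfl).trans (h1.trans h)

variable (hno : ∀ g : G, ¬ Small S A g)

include hAT hA2 hA3 hA5 hno in
/-- `A` belongs to every lower star family inside `S`. -/
theorem mem_lower {Q : Subgroup G} (hQ : Q ≤ (S : Subgroup G)) : A ∈ kLowerStarFamily Q := by
  refine ⟨mem_classTwo_iff.mpr hA2 |> fun h => h, by rw [Subgroup.normalizer_eq_top]; exact le_top,
    fun B hB hBQ hAB h1 h2 => ?_⟩
  have hBT : B ≤ Cfsg.pCore p G := by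
    intro g hg
    by_contra hgT
    refine hno g (small_of_quadratic hAT hA5 (hQ (hBQ hg)) hgT ?_ ?_)
    · have hAB' : ⁅A, B⁆ ≤ B := Subgroup.le_normalizer_iff_commutator_le_right.mp hAB
      refine ((Subgroup.commutator_mono (commutator_zpowers_le hg A) (Subgroup.zpowers_le.mpr hg))).trans (le_inf ?_ ?_)
      · exact (Subgroup.commutator_mono (Subgroup.commutator_le_left A B) le_rfl).trans (Subgroup.commutator_le_left A B)
      · refine ((Subgroup.commutator_mono hAB' le_rfl)).trans ?_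
        rw [Subgroup.commutator_comm] at h1
        exact Subgroup.commutator_eq_bot_iff_le_centralizer.mp h1
    · exact le_bot_iff.mp (((Subgroup.commutator_mono (commutator_zpowers_le hg _) (Subgroup.zpowers_le.mpr hg))).trans h2.le)
  rw [Subgroup.commutator_comm]
  exact (Subgroup.commutator_mono hBT le_rfl).trans hA3

include hAT hA5 hno in
/-- The members of the upper star families lie in `O_p(G)`. -/
theorem upper_le {E B : Subgroup G} (hAE : A ≤ E) (hBS : B ≤ (S : Subgroup G)) (hB : B ∈ kUpperStarFamily E) :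
    B ≤ Cfsg.pCore p G := by
  intro g hg
  by_contra hgT
  have h1 : ⁅A, B⁆ ≤ Z B := by
    rw [Subgroup.commutator_comm]; exact (Subgroup.commutator_mono le_rfl hAE).trans hB.2
  have h3 : ⁅⁅A, Subgroup.zpowers g⁆, Subgroup.zpowers g⁆ = ⊥ :=
    le_bot_iff.mp (((Subgroup.commutator_mono ((commutator_zpowers_le hg A).trans (h1.trans inf_le_right))
      (Subgroup.zpowers_le.mpr hg))).trans (Subgroup.commutator_eq_bot_iff_le_centralizer.mpr le_rfl).le)
  exact hno g (small_of_quadratic hAT hA5 (hBS hg) hgT (h3 ▸ bot_le)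
    (le_bot_iff.mp (h3 ▸ Subgroup.commutator_mono (Subgroup.commutator_mono inf_le_left le_rfl) le_rfl)))

include hA2 hA3 in
theorem pCore_le_centralizer_commutator : Cfsg.pCore p G ≤ Subgroup.centralizer ((⁅A, A⁆ : Subgroup G) : Set G) := by
  rw [← Subgroup.commutator_eq_bot_iff_le_centralizer, Subgroup.commutator_comm]
  have hc : ⁅Z A, A⁆ = ⊥ := Subgroup.commutator_eq_bot_iff_le_centralizer.mpr inf_le_right
  apply Subgroup.commutator_commutator_eq_bot_of_rotate
  · rw [Subgroup.commutator_comm A (Cfsg.pCore p G)]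
    exact le_bot_iff.mp (hc ▸ Subgroup.commutator_mono hA3 le_rfl)
  · exact le_bot_iff.mp (hc ▸ Subgroup.commutator_mono hA3 le_rfl)

include hAT hA2 hA3 hA5 hno in
/-- The members of the lower star families lie in `O_p(G)`. -/
theorem lower_le {O B : Subgroup G} (hAO : A ≤ O) (hBS : B ≤ (S : Subgroup G)) (hB : B ∈ kLowerStarFamily O) :
    B ≤ Cfsg.pCore p G := by
  obtain ⟨hB2, hON, htest⟩ := hB
  have hZn : (Z A).Normal := inferInstance
  have hAA : ⁅A, A⁆ ≤ Subgroup.centralizer (A : Set G) := hA2.trans inf_le_right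
  -- the test by the centre of `A`
  have hZB : ⁅B, Z A⁆ ≤ Z B := by
    refine htest (Z A) ?_ (inf_le_left.trans hAO) (by rw [Subgroup.normalizer_eq_top]; exact le_top) ?_ ?_
    · exact ((Subgroup.commutator_mono inf_le_left inf_le_left).trans hAA).trans (Subgroup.centralizer_le (fun z hz => hz.1))
    · have : ⁅Z A, Z A⁆ = ⊥ := Subgroup.commutator_eq_bot_iff_le_centralizer.mpr
        (inf_le_right.trans (Subgroup.centralizer_le (fun z hz => hz.1)))
      rw [this, Subgroup.commutator_comm]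
      exact Subgroup.commutator_eq_bot_iff_le_centralizer.mpr (by simp)
    · refine Subgroup.commutator_eq_bot_iff_le_centralizer.mpr ((Subgroup.commutator_le_right _ (Z A)).trans ?_)
      exact inf_le_right.trans (Subgroup.centralizer_le (fun z hz => hz.1))
  have hAB : ⁅A, B⁆ ≤ B := Subgroup.le_normalizer_iff_commutator_le_right.mp (hAO.trans hON)
  have hB2' : ⁅B, B⁆ ≤ Z B := mem_classTwo_iff.mp hB2
  have hquadZ : ∀ g ∈ B, ⁅⁅Z A, Subgroup.zpowers g⁆, Subgroup.zpowers g⁆ = ⊥ := fun g hg => by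
    refine le_bot_iff.mp (((Subgroup.commutator_mono ((commutator_zpowers_le hg _).trans
      ((Subgroup.commutator_comm (Z A) B).le.trans (hZB.trans inf_le_right))) (Subgroup.zpowers_le.mpr hg))).trans ?_)
    exact (Subgroup.commutator_eq_bot_iff_le_centralizer.mpr le_rfl).le
  have hYB : ⁅⁅A, B⁆, B⁆ ≤ Z B := (Subgroup.commutator_mono hAB le_rfl).trans hB2'
  have hcub : ∀ g ∈ B, Cfsg.iterCommutator A (Subgroup.zpowers g) 3 ≤ Z A := fun g hg => by
    refine le_trans ?_ bot_le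
    show ⁅⁅⁅A, Subgroup.zpowers g⁆, Subgroup.zpowers g⁆, Subgroup.zpowers g⁆ ≤ ⊥
    refine (Subgroup.commutator_mono ((Subgroup.commutator_mono (commutator_zpowers_le hg A) (Subgroup.zpowers_le.mpr hg)).trans (hYB.trans inf_le_right))
      (Subgroup.zpowers_le.mpr hg)).trans ?_
    exact (Subgroup.commutator_eq_bot_iff_le_centralizer.mpr le_rfl).le
  -- the centre of `B`
  have hCB : A ≤ Subgroup.normalizer (Subgroup.centralizer (B : Set G) : Set G) := by
    intro a ha
    have hn := hON (hAO ha)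
    refine LocalEven.SylowIn.map_conj_eq_iff.mp (Subgroup.eq_of_le_of_card_ge ?_ (card_conjG _ a).ge)
    rintro _ ⟨c, hc, rfl⟩
    rw [Subgroup.mem_centralizer_iff]
    intro b hb
    have hb' : a⁻¹ * b * a ∈ B := by simpa using (Subgroup.mem_normalizer_iff''.mp hn b).mp hb
    show b * (a * c * a⁻¹) = a * c * a⁻¹ * b
    calc b * (a * c * a⁻¹) = a * ((a⁻¹ * b * a) * c) * a⁻¹ := by simp [mul_assoc]
      _ = a * (c * (a⁻¹ * b * a)) * a⁻¹ := by rw [Subgroup.mem_centralizer_iff.mp hc _ hb']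
      _ = a * c * a⁻¹ * b := by simp [mul_assoc]
  have hZBT : Z B ≤ Cfsg.pCore p G := by
    intro g hg
    by_contra hgT
    have h1 : ⁅A, Z B⁆ ≤ Subgroup.centralizer (B : Set G) :=
      (Subgroup.commutator_mono le_rfl inf_le_right).trans (Subgroup.le_normalizer_iff_commutator_le_right.mp hCB)
    have h3 : ⁅⁅A, Subgroup.zpowers g⁆, Subgroup.zpowers g⁆ = ⊥ :=
      le_bot_iff.mp (((Subgroup.commutator_mono ((commutator_zpowers_le hg A).trans h1)
        (Subgroup.zpowers_le.mpr hg.1))).trans (Subgroup.commutator_eq_bot_iff_le_centralizer.mpr le_rfl).le)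
    exact hno g (small_of_quadratic hAT hA5 (hBS hg.1) hgT (h3 ▸ bot_le) (hquadZ g hg.1))
  intro g hg
  by_contra hgT
  apply hno g
  refine ⟨hBS hg, hgT, hcub g hg, hquadZ g hg, fun hc => ?_⟩
  have hAp : IsPGroup p A := (Solvable.Cores.isPGroup_pCore p).to_le hAT
  by_cases hK : g ∈ factorKernel (G := G) (fun U _ => U ≤ Z A)
  swap
  · -- nontrivial on a factor in the centre of `A`
    by_contra hcon
    push Not at hcon
    refine hK fun U V h hU x hx => ?_
    have h1 := hcon U V h (hU.trans inf_le_left)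
      ((Subgroup.commutator_mono (Subgroup.commutator_mono hU le_rfl) le_rfl).trans ((hquadZ g hg) ▸ bot_le))
    have h2 := V.inv_mem (h1 (Subgroup.commutator_mem_commutator hx (Subgroup.mem_zpowers g)))
    simpa [commutatorElement_def, mul_assoc] using h2
  obtain ⟨U, V, hUV, hUA, -, hnot⟩ := exists_moved_factor hAp (hA5 hc) hgT
  refine ⟨U, V, hUV, hUA, ?_, hnot⟩
  set K := factorKernel (G := G) (fun U _ => U ≤ Z A) with hKdef
  set C := Subgroup.centralizer ((⁅A, A⁆ : Subgroup G) : Set G) ⊓ K with hCdef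
  have hCn : C.Normal := inferInstance
  set H := C ⊔ Subgroup.zpowers g with hH
  set Y := ⁅⁅A, B⁆, B⁆ with hY
  have hYA : Y ≤ A := (Subgroup.commutator_mono (Subgroup.commutator_le_left A B) le_rfl).trans (Subgroup.commutator_le_left A B)
  have hXA : ⁅A, B⁆ ≤ A := Subgroup.commutator_le_left A B
  -- `[[Y,A],B] = 1`
  have hYAB : ⁅⁅Y, A⁆, B⁆ = ⊥ := by
    apply Subgroup.commutator_commutator_eq_bot_of_rotate
    · exact Subgroup.commutator_eq_bot_iff_le_centralizer.mpr (hAB.trans (fun b hb =>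
        Subgroup.mem_centralizer_iff.mpr fun y hy => (Subgroup.mem_centralizer_iff.mp (hYB hy).2 b hb).symm))
    · have h1 : ⁅B, Y⁆ = ⊥ := by
        rw [Subgroup.commutator_comm]
        exact Subgroup.commutator_eq_bot_iff_le_centralizer.mpr (hYB.trans inf_le_right)
      rw [h1]
      exact le_bot_iff.mp (Subgroup.commutator_le_left ⊥ A)
  have hYAc : ⁅Y, A⁆ ≤ Subgroup.centralizer (B : Set G) := Subgroup.commutator_eq_bot_iff_le_centralizer.mp hYAB
  let T0 : Set G := {z | ∃ c ∈ C, ∃ y ∈ Y, c * y * c⁻¹ = z}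
  set A' := Subgroup.closure (T0 ∪ (⁅A, B⁆ : Subgroup G) ∪ (Z A : Set G)) with hA'
  have hA'A : A' ≤ A := by
    rw [hA', Subgroup.closure_le]
    rintro z ((⟨c, -, y, hy, rfl⟩ | hz) | hz)
    · exact (inferInstance : A.Normal).conj_mem y (hYA hy) c
    · exact hXA hz
    · exact hz.1
  -- `B` centralizes the derived group of `A'`
  have hgen : ∀ x ∈ T0 ∪ (⁅A, B⁆ : Subgroup G) ∪ (Z A : Set G), ∀ x' ∈ T0 ∪ (⁅A, B⁆ : Subgroup G) ∪ (Z A : Set G),
      ⁅x, x'⁆ ∈ Subgroup.centralizer (B : Set G) := by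
    have hconjY : ∀ x ∈ T0, ∀ a ∈ A, ⁅x, a⁆ ∈ Subgroup.centralizer (B : Set G) := by
      rintro _ ⟨c, hc, y, hy, rfl⟩ a ha
      have ha' : c⁻¹ * a * c ∈ A := by simpa using (inferInstance : A.Normal).conj_mem a ha c⁻¹
      have e : ⁅c * y * c⁻¹, a⁆ = c * ⁅y, c⁻¹ * a * c⁆ * c⁻¹ := by simp [commutatorElement_def, mul_assoc]
      have hw : ⁅y, c⁻¹ * a * c⁆ ∈ ⁅A, A⁆ := Subgroup.commutator_mem_commutator (hYA hy) ha'
      rw [e, ← Subgroup.mem_centralizer_iff.mp hc.1 _ hw, mul_inv_cancel_right]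
      exact hYAc (Subgroup.commutator_mem_commutator hy ha')
    have hone : ∀ x ∈ Z A, ∀ a ∈ A, ⁅x, a⁆ ∈ Subgroup.centralizer (B : Set G) := fun x hx a ha => by
      rw [commutatorElement_eq_one_iff_commute.mpr (Subgroup.mem_centralizer_iff.mp hx.2 a ha).symm]
      exact one_mem _
    have hgenA : ∀ x ∈ T0 ∪ (⁅A, B⁆ : Subgroup G) ∪ (Z A : Set G), x ∈ A := fun x hx => hA'A (Subgroup.subset_closure hx)
    intro x hx x' hx'
    rcases hx with (hx | hx) | hx
    · exact hconjY x hx x' (hgenA x' hx')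
    · rcases hx' with (hx' | hx') | hx'
      · rw [← commutatorElement_inv]; exact Subgroup.inv_mem _ (hconjY x' hx' x (hXA hx))
      · exact (hB2'.trans inf_le_right) (Subgroup.commutator_mem_commutator (hAB hx) (hAB hx'))
      · rw [← commutatorElement_inv]; exact Subgroup.inv_mem _ (hone x' hx' x (hXA hx))
    · exact hone x hx x' (hgenA x' hx')
  have hder : ⁅A', A'⁆ ≤ Subgroup.centralizer (B : Set G) ⊓ Subgroup.centralizer (A : Set G) := by
    have hcA' : Subgroup.centralizer (B : Set G) ⊓ Subgroup.centralizer (A : Set G) ≤ Subgroup.centralizer (A' : Set G) :=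
      inf_le_right.trans (Subgroup.centralizer_le (SetLike.coe_subset_coe.mpr hA'A))
    have h1 : ∀ x ∈ T0 ∪ (⁅A, B⁆ : Subgroup G) ∪ (Z A : Set G), ∀ q ∈ A',
        ⁅x, q⁆ ∈ Subgroup.centralizer (B : Set G) ⊓ Subgroup.centralizer (A : Set G) := by
      intro x hx q hq
      have hxA : x ∈ A := hA'A (Subgroup.subset_closure hx)
      have h2 : ⁅Subgroup.closure (T0 ∪ (⁅A, B⁆ : Subgroup G) ∪ (Z A : Set G)), Subgroup.closure {x}⁆ ≤
          Subgroup.centralizer (B : Set G) ⊓ Subgroup.centralizer (A : Set G) := by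
        refine commutator_closure_le hcA' fun y hy z hz => ?_
        have hzA : z ∈ A := (Subgroup.closure_le A).mpr (Set.singleton_subset_iff.mpr hxA) hz
        refine ⟨?_, hAA (Subgroup.commutator_mem_commutator (hA'A (Subgroup.subset_closure hy)) hzA)⟩
        have h3 : ⁅Subgroup.closure {x}, Subgroup.closure {y}⁆ ≤ Subgroup.centralizer (B : Set G) ⊓ Subgroup.centralizer (A : Set G) := by
          refine commutator_closure_le (inf_le_right.trans (Subgroup.centralizer_le (SetLike.coe_subset_coe.mpr ((Subgroup.closure_le A).mpr (Set.singleton_subset_iff.mpr hxA))))) ?_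
          intro u hu v hv
          rw [Set.mem_singleton_iff] at hu
          subst hu
          have hyA : y ∈ A := hA'A (Subgroup.subset_closure hy)
          rw [Subgroup.mem_closure_singleton] at hv
          obtain ⟨n, rfl⟩ := hv
          have hb : ⁅u, y⁆ ∈ Subgroup.centralizer (B : Set G) ⊓ Subgroup.centralizer (A : Set G) :=
            ⟨hgen u hx y hy, hAA (Subgroup.commutator_mem_commutator hxA hyA)⟩
          have hcom : ∀ n : ℕ, ⁅u, y ^ n⁆ = ⁅u, y⁆ ^ n := by
            intro n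
            induction n with
            | zero => simp
            | succ n ih =>
              have e : ⁅u, y ^ (n + 1)⁆ = ⁅u, y⁆ * (y * ⁅u, y ^ n⁆ * y⁻¹) := by
                rw [pow_succ']; simp [commutatorElement_def, mul_assoc]
              have hcy : y * ⁅u, y ^ n⁆ * y⁻¹ = ⁅u, y ^ n⁆ := by
                rw [Subgroup.mem_centralizer_iff.mp (hAA (Subgroup.commutator_mem_commutator hxA (A.pow_mem hyA n))) y hyA,
                  mul_inv_cancel_right]
              rw [e, hcy, ih, ← pow_succ']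
          obtain ⟨m, hm⟩ := mem_powers_iff_mem_zpowers.mpr (Subgroup.zpow_mem_zpowers y n)
          rw [← hm]
          show ⁅u, y ^ m⁆ ∈ _
          rw [hcom]
          exact Subgroup.pow_mem _ hb m
        have h4 := h3 (Subgroup.commutator_mem_commutator hz (Subgroup.subset_closure (Set.mem_singleton y)))
        rw [← commutatorElement_inv]
        exact Subgroup.inv_mem _ h4.1
      have := Subgroup.inv_mem _ (h2 (Subgroup.commutator_mem_commutator hq (Subgroup.subset_closure (Set.mem_singleton x))))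
      rwa [commutatorElement_inv] at this
    exact commutator_closure_le hcA' h1
  have hBn : ∀ b ∈ B, ∀ z ∈ (⁅A, B⁆ : Subgroup G), b * z * b⁻¹ ∈ (⁅A, B⁆ : Subgroup G) := by
    intro b hb z hz
    have h1 : (⁅A, B⁆ : Subgroup G) ^ᶜ b = ⁅A, B⁆ := by
      rw [Subgroup.map_commutator, conjG_eq_iff.mpr (by rw [Subgroup.normalizer_eq_top]; trivial),
        conjG_eq_iff.mpr (Subgroup.le_normalizer hb)]
    rw [← h1]; exact conjG_mem hz
  have hYn : ∀ b ∈ B, ∀ z ∈ Y, b * z * b⁻¹ ∈ Y := by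
    intro b hb z hz
    have h1 : Y ^ᶜ b = Y := by
      rw [hY, Subgroup.map_commutator, Subgroup.map_commutator, conjG_eq_iff.mpr (by rw [Subgroup.normalizer_eq_top]; trivial),
        conjG_eq_iff.mpr (Subgroup.le_normalizer hb)]
    rw [← h1]; exact conjG_mem hz
  have hTn : ∀ b ∈ B, ∀ z ∈ T0, b * z * b⁻¹ ∈ T0 := by
    rintro b hb _ ⟨c, hc, y, hy, rfl⟩
    exact ⟨b * c * b⁻¹, hCn.conj_mem c hc b, b * y * b⁻¹, hYn b hb y hy, by simp [mul_assoc]⟩
  have hBA' : B ≤ Subgroup.normalizer (A' : Set G) := by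
    intro b hb
    refine LocalEven.SylowIn.map_conj_eq_iff.mp (Subgroup.eq_of_le_of_card_ge ?_ (card_conjG _ b).ge)
    rw [Subgroup.map_le_iff_le_comap, hA', Subgroup.closure_le]
    rintro z ((hz | hz) | hz)
    · exact Subgroup.subset_closure (Or.inl (Or.inl (hTn b hb z hz)))
    · exact Subgroup.subset_closure (Or.inl (Or.inr (hBn b hb z hz)))
    · exact Subgroup.subset_closure (Or.inr (hZn.conj_mem z hz b))
  have hA'B : ⁅B, A'⁆ ≤ Z B := by
    refine htest A' (hder.trans (inf_le_right.trans (Subgroup.centralizer_le (SetLike.coe_subset_coe.mpr hA'A))))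
      (hA'A.trans hAO) hBA' ?_ ?_
    · rw [Subgroup.commutator_comm]
      exact Subgroup.commutator_eq_bot_iff_le_centralizer.mpr (hder.trans inf_le_left)
    · refine Subgroup.commutator_eq_bot_iff_le_centralizer.mpr ?_
      refine ((Subgroup.commutator_mono hZBT hA'A).trans hA3).trans (inf_le_right.trans ?_)
      exact Subgroup.centralizer_le (SetLike.coe_subset_coe.mpr hA'A)
  -- the semisimple structure on `U/V`
  have hUp : IsPGroup p U := hAp.to_le hUA
  have hUU := ChiefAction.commutator_le_of_chief hUV hUp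
  have hUn : U.Normal := hUV.2.1
  have hVn : V.Normal := hUV.2.2.1
  have hVU : V ≤ U := hUV.1.le
  set L := Subgroup.zpowers g with hL
  have hLB : L ≤ B := Subgroup.zpowers_le.mpr hg
  set Y0 := ⁅⁅U, L⁆, L⁆ with hY0
  have hY0U : Y0 ≤ U := (Subgroup.commutator_mono (Subgroup.commutator_le_left U L) le_rfl).trans (Subgroup.commutator_le_left U L)
  let T1 : Set G := {z | ∃ c ∈ C, ∃ y ∈ Y0, c * y * c⁻¹ = z}
  set U0 := Subgroup.closure T1 ⊔ V with hU0
  have hT1U : Subgroup.closure T1 ≤ U := by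
    rw [Subgroup.closure_le]
    rintro _ ⟨c, -, y, hy, rfl⟩
    exact hUn.conj_mem y (hY0U hy) c
  have hT1A' : Subgroup.closure T1 ≤ A' := by
    refine Subgroup.closure_mono ?_
    rintro _ ⟨c, hc, y, hy, rfl⟩
    refine Or.inl (Or.inl ⟨c, hc, y, ?_, rfl⟩)
    exact Subgroup.commutator_mono (Subgroup.commutator_mono hUA hLB) hLB hy
  have hnorm : ∀ x ∈ C ⊔ L, ∀ z ∈ U0, x * z * x⁻¹ ∈ U0 := by
    have hx0 : C ⊔ L ≤ Subgroup.normalizer (U0 : Set G) := by
      refine sup_le (fun c hc => ?_) (Subgroup.zpowers_le.mpr ?_) <;>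
      refine LocalEven.SylowIn.map_conj_eq_iff.mp (Subgroup.eq_of_le_of_card_ge ?_ (card_conjG _ _).ge) <;>
      rw [hU0, Subgroup.map_sup, sup_le_iff] <;>
      refine ⟨?_, (conjG_eq_iff.mpr (by rw [Subgroup.normalizer_eq_top]; trivial)).le.trans le_sup_right⟩ <;>
      rw [Subgroup.map_le_iff_le_comap, Subgroup.closure_le] <;>
      rintro _ ⟨d, hd, y, hy, rfl⟩
      · exact Subgroup.mem_sup_left (Subgroup.subset_closure ⟨c * d, C.mul_mem hc hd, y, hy, by simp [mul_assoc]⟩)
      · have hy' : g * y * g⁻¹ ∈ Y0 := by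
          have h1 : Y0 ^ᶜ g = Y0 := by
            rw [hY0, Subgroup.map_commutator, Subgroup.map_commutator, conjG_eq_iff.mpr (by rw [Subgroup.normalizer_eq_top]; trivial),
              conjG_eq_iff.mpr (Subgroup.le_normalizer (Subgroup.mem_zpowers g))]
          rw [← h1]; exact conjG_mem hy
        exact Subgroup.mem_sup_left (Subgroup.subset_closure ⟨g * d * g⁻¹, hCn.conj_mem d hd g, g * y * g⁻¹, hy', by simp [mul_assoc]⟩)
    exact fun x hx z hz => (Subgroup.mem_normalizer_iff.mp (hx0 hx) z).mp hz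
  have hinvU0 : Semisimple.Inv U V (C ⊔ L) U0 := by
    refine ⟨le_sup_right, sup_le hT1U hVU, fun x hx => ?_⟩
    rw [Subgroup.mem_normalizer_iff]
    exact fun z => ⟨hnorm x hx z, fun hz => by simpa [mul_assoc] using hnorm x⁻¹ (inv_mem hx) _ hz⟩
  have hss : Semisimple.Complemented U V (C ⊔ L) :=
    Semisimple.complemented_of_subnormal hUU hUV (isPGroup_map_factorKernel hAp hA2) le_sup_left
      (sup_le inf_le_right (Subgroup.zpowers_le.mpr hK))
  obtain ⟨U1, hU1, hinf, hsup⟩ := hss U0 hinvU0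
  have hLU1 : ⁅U1, L⁆ ≤ U1 := Subgroup.le_normalizer_iff_commutator_le_left.mp (le_sup_right.trans hU1.2.2)
  have hY0le : Y0 ≤ U0 := fun y hy => Subgroup.mem_sup_left (Subgroup.subset_closure ⟨1, one_mem _, y, hy, by simp⟩)
  have hU1q : ⁅⁅U1, L⁆, L⁆ ≤ V := by
    rw [← hinf]
    exact le_inf ((Subgroup.commutator_mono (Subgroup.commutator_mono hU1.2.1 le_rfl) le_rfl).trans hY0le)
      ((Subgroup.commutator_mono hLU1 le_rfl).trans hLU1)
  have hVL : ⁅V, L⁆ ≤ V := Subgroup.commutator_le_left V L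
  have hT1q : ⁅⁅Subgroup.closure T1, L⁆, L⁆ ≤ V := by
    refine ((Subgroup.commutator_mono ((Subgroup.commutator_mono hT1A' hLB).trans
      ((Subgroup.commutator_comm A' B).le.trans (hA'B.trans inf_le_right))) hLB).trans ?_)
    exact (Subgroup.commutator_eq_bot_iff_le_centralizer.mpr le_rfl).le.trans bot_le
  have hXU : ∀ X : Subgroup G, X ≤ U → ⁅X, L⁆ ≤ U := fun X hX =>
    (Subgroup.commutator_mono hX le_rfl).trans (Subgroup.commutator_le_left U L)
  have hsplit : ∀ X Y' : Subgroup G, X ≤ U → Y' ≤ U → ⁅⁅X, L⁆, L⁆ ≤ V → ⁅⁅Y', L⁆, L⁆ ≤ V → ⁅⁅X ⊔ Y', L⁆, L⁆ ≤ V := by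
    intro X Y' hX hY' h1 h2
    refine (Subgroup.commutator_mono (commutator_sup_le hUU hX hY' L) le_rfl).trans ?_
    refine (commutator_sup_le hUU (sup_le (hXU X hX) (hXU Y' hY')) hVU L).trans
      (sup_le (sup_le ((commutator_sup_le hUU (hXU X hX) (hXU Y' hY') L).trans (sup_le (sup_le h1 h2) le_rfl)) hVL) le_rfl)
  have h := hsplit U0 U1 hinvU0.2.1 hU1.2.1
    (hsplit _ _ hT1U hVU hT1q ((Subgroup.commutator_mono hVL le_rfl).trans hVL)) hU1q
  rw [hsup] at h
  exact h

end Main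


end CfsgLib.KGroups.Functor.Quadratic
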