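import Cfsg.Agent.Lib.KGroups.Functor.ChiefAction
import Cfsg.Agent.Lib.KGroups.Functor.Quadratic

/-!
Groups in which the derived group of `O^p` is a p-group are p-stable for odd `p`.
-/

set_option autoImplicit false
set_option linter.unusedSectionVars false

namespace CfsgLib.KGroups.Functor.AbelianResidual

open scoped commutatorElement

variable {p : ℕ} [Fact p.Prime]

/-- The derived group of `O^p(X)` is a `p`-group. -/
def Good (p : ℕ) (X : Type*) [Group X] : Prop :=
  IsPGroup p (⁅Cfsg.pResidual p X, Cfsg.pResidual p X⁆ : Subgroup X)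

theorem Good.subgroup {X : Type*} [Group X] [Finite X] (h : Good p X) (L : Subgroup X) : Good p L := by
  have h1 : (⁅Cfsg.pResidual p L, Cfsg.pResidual p L⁆ : Subgroup L).map L.subtype ≤
      ⁅Cfsg.pResidual p X, Cfsg.pResidual p X⁆ := by
    rw [Subgroup.map_commutator]
    exact Subgroup.commutator_mono (Fusion.Basic.pResidual_map_subtype_le L) (Fusion.Basic.pResidual_map_subtype_le L)
  exact (h.to_le h1).of_equiv (Subgroup.equivMapOfInjective _ L.subtype L.subtype_injective).symm

theorem Good.image {X Y : Type*} [Group X] [Finite X] [Group Y] (h : Good p X) (f : X →* Y)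
    (hf : Function.Surjective f) : Good p Y := by
  have h1 := h.map f
  rwa [Subgroup.map_commutator, Fusion.Basic.map_pResidual_eq f hf] at h1

/-- A constrained group with maximal Sylow subgroup and a normal p-complement modulo `O_p`. -/
theorem good_of_coatom {X : Type*} [Group X] [Finite X] (S : Sylow p X) (hco : IsCoatom (S : Subgroup X))
    (hnpc : Cfsg.HasNormalPComplement p (X ⧸ Cfsg.pCore p X)) : Good p X := by
  set T := Cfsg.pCore p X with hT
  have hTn : T.Normal := LocalEven.SylowIn.pCore_normal X p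
  set π := QuotientGroup.mk' T
  set Q := Cfsg.pResidual p (X ⧸ T) with hQ
  have hQc : (Nat.card Q).Coprime p := Fusion.Basic.npc_iff_coprime.mp hnpc
  set P := (S : Subgroup X).map π with hP
  have hPp : IsPGroup p P := S.2.map π
  have hPQ : P ⊓ Q = ⊥ := Fusion.Basic.inf_eq_bot_of_coprime hPp hQc
  have hPn : ∀ L : Subgroup (X ⧸ T), L ≤ Q → P ≤ Subgroup.normalizer (L : Set (X ⧸ T)) → L = ⊥ ∨ L = Q := by
    intro L hL hn
    have hle : (S : Subgroup X) ≤ (P ⊔ L).comap π := Subgroup.map_le_iff_le_comap.mp le_sup_left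
    rcases hle.eq_or_lt with he | hlt
    · refine Or.inl (le_bot_iff.mp (hPQ ▸ le_inf ?_ hL))
      rw [hP, he, Subgroup.map_comap_eq_self_of_surjective (QuotientGroup.mk'_surjective T)]
      exact le_sup_right
    · refine Or.inr (le_antisymm hL fun x hx => ?_)
      have htop := hco.2 _ hlt
      have hmem : x ∈ ((P ⊔ L : Subgroup (X ⧸ T)) : Set (X ⧸ T)) := by
        rw [← Subgroup.map_comap_eq_self_of_surjective (QuotientGroup.mk'_surjective T) (P ⊔ L), htop,
          Subgroup.map_top_of_surjective _ (QuotientGroup.mk'_surjective T)]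
        trivial
      rw [Subgroup.coe_mul_of_left_le_normalizer_right P L hn] at hmem
      obtain ⟨u, hu, l, hl, rfl⟩ := hmem
      have hu' : u ∈ P ⊓ Q := ⟨hu, by simpa using Q.mul_mem hx (Q.inv_mem (hL hl))⟩
      rw [hPQ, Subgroup.mem_bot] at hu'
      simpa [hu'] using hl
  have hQn : P ≤ Subgroup.normalizer (Q : Set (X ⧸ T)) := by
    rw [Subgroup.normalizer_eq_top]; exact le_top
  have hQQ : ⁅Q, Q⁆ = ⊥ := by
    rcases eq_or_ne Q ⊥ with hb | hb
    · rw [hb]; exact le_bot_iff.mp (Subgroup.commutator_le_right ⊥ ⊥)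
    obtain ⟨q, hq, hqd⟩ := Nat.exists_prime_and_dvd (show Nat.card Q ≠ 1 by
      exact fun h => hb (Subgroup.card_eq_one.mp h))
    have : Fact q.Prime := ⟨hq⟩
    have hcop : (Nat.card P).Coprime (Nat.card Q) := by
      obtain ⟨k, hk⟩ := hPp.exists_card_eq
      rw [hk]
      exact Nat.Coprime.pow_left k hQc.symm
    have hPs : Group.IsSolvable P := by
      have := hPp.isNilpotent
      infer_instance
    obtain ⟨Qq, hQq⟩ := Coprime.exists_invariant_sylow hQn hcop (Or.inl hPs) q
    have hQqp : IsPGroup q Q := by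
      rcases hPn ((Qq : Subgroup Q).map Q.subtype) (Subgroup.map_subtype_le _) hQq with h | h
      · rw [Subgroup.map_eq_bot_iff_of_injective _ Q.subtype_injective] at h
        exact absurd h (Qq.ne_bot_of_dvd_card hqd)
      · exact h ▸ Qq.2.map _
    have hnil : Group.IsNilpotent Q := hQqp.isNilpotent
    have hcn : P ≤ Subgroup.normalizer ((⁅Q, Q⁆ : Subgroup (X ⧸ T)) : Set (X ⧸ T)) := by
      rw [Subgroup.normalizer_eq_top]; exact le_top
    rcases hPn ⁅Q, Q⁆ Q.commutator_le_self hcn with h | h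
    · exact h
    · exfalso
      have hnt : Nontrivial Q := (Subgroup.nontrivial_iff_ne_bot _).mpr hb
      refine (Group.IsSolvable.commutator_lt_top_of_nontrivial Q).ne (Subgroup.map_injective Q.subtype_injective ?_)
      rw [Subgroup.map_subtype_commutator, h, ← MonoidHom.range_eq_map, Q.range_subtype]
  refine IsPGroup.to_le (Solvable.Cores.isPGroup_pCore (G := X) p) ?_
  rw [← hT, ← QuotientGroup.ker_mk' T, ← Subgroup.map_eq_bot_iff, Subgroup.map_commutator,
    Fusion.Basic.map_pResidual_eq _ (QuotientGroup.mk'_surjective T)]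
  exact hQQ

/-- A quadratic element centralizes the `p`-chief factors. -/
theorem centralizes_chief {X : Type*} [Group X] [Finite X] (hp : p ≠ 2) (hgood : Good p X) {U V : Subgroup X}
    (hc : Cfsg.IsChiefFactor U V) (hUp : IsPGroup p U) {g : X}
    (hq : Cfsg.iterCommutator U (Subgroup.zpowers g) 2 ≤ V) :
    ∀ u ∈ U, g * u * g⁻¹ * u⁻¹ ∈ V := by
  obtain ⟨R, iR, iA, Φ, hfin, hker, hdeg, hirr, -⟩ := ChiefAction.exists_action hc hUp
  refine (hker g).mp ?_
  have : Finite Φ.range := hfin
  set Γ := Φ.range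
  set f := Φ.rangeRestrict with hf
  have hfs : Function.Surjective f := Φ.rangeRestrict_surjective
  have hO : ∀ N : Subgroup Γ, N.Normal → IsPGroup p N → N = ⊥ := by
    intro N hN hNp
    refine le_bot_iff.mp fun y hy => ?_
    obtain ⟨x, rfl⟩ := hfs y
    have hmap : (N.comap f).map Φ = N.map Γ.subtype := by
      conv_rhs => rw [← Subgroup.map_comap_eq_self_of_surjective hfs N, Subgroup.map_map]
      rw [show Γ.subtype.comp f = Φ from MonoidHom.ext fun _ => rfl]
    have hx : x ∈ Φ.ker := hirr (N.comap f) (hN.comap f) (hmap ▸ hNp.map Γ.subtype) hy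
    exact Subgroup.mem_bot.mpr (Subtype.ext hx)
  set C := Cfsg.pResidual p Γ
  have hgoodΓ : Good p Γ := hgood.image f hfs
  have hCC : ⁅C, C⁆ = ⊥ := hO _ inferInstance hgoodΓ
  have hCcomm : C ≤ Subgroup.centralizer (C : Set Γ) := Subgroup.commutator_eq_bot_iff_le_centralizer.mp hCC
  set u := f g
  have hgp : u ^ p = 1 := by
    apply Subtype.ext
    show (Φ g) ^ p = 1
    apply Units.ext
    have h0 : ((Φ g : R) - 1) ^ p = 0 :=
      pow_eq_zero_of_le (Fact.out : p.Prime).two_le (hdeg g 2 hq)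
    have e := ChiefFactor.geom_sum_eq_sub_pow (p := p) (Φ g : R)
    rw [Units.val_pow_eq_pow_val, Units.val_one, ← sub_eq_zero, ← geom_sum_mul, e, ← pow_succ,
      Nat.sub_add_cancel (Fact.out : p.Prime).pos, h0]
  have hup : IsPGroup p (Subgroup.zpowers u) := by
    rintro ⟨z, hz⟩
    obtain ⟨m, rfl⟩ := mem_powers_iff_mem_zpowers.mpr hz
    exact ⟨1, Subtype.ext (by show (u ^ m) ^ p ^ 1 = 1; rw [pow_one, ← pow_mul, mul_comm, pow_mul, hgp, one_pow])⟩
  obtain ⟨P, hP⟩ := hup.exists_le_sylow
  have hPC : (P : Subgroup Γ) ⊓ C = ⊥ := by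
    refine hO _ (Subgroup.normalizer_eq_top_iff.mp (top_le_iff.mp ?_)) (P.2.to_le inf_le_left)
    rw [← Fusion.Basic.pResidual_sup_sylow P, sup_le_iff]
    constructor
    · intro c hc
      refine conjG_eq_iff.mp (Subgroup.eq_of_le_of_card_ge ?_ (card_conjG _ c).ge)
      rintro _ ⟨y, hy, rfl⟩
      show c * y * c⁻¹ ∈ _
      rw [Subgroup.mem_centralizer_iff.mp (hCcomm hy.2) c hc, mul_inv_cancel_right]
      exact hy
    · intro z hz
      refine conjG_eq_iff.mp ?_
      rw [Subgroup.map_inf _ _ _ (MulAut.conj z).injective, conjG_eq_iff.mpr (Subgroup.le_normalizer hz),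
        conjG_eq_iff.mpr (by rw [Subgroup.normalizer_eq_top]; trivial)]
  have hCc : (Nat.card C).Coprime p := Fusion.Basic.coprime_card_of_inf_sylow_eq_bot P C hPC
  -- `u` centralizes `C`
  have h2 : 2 ≤ p - 1 := by have := (Fact.out : p.Prime).two_le; omega
  set C' := C.map Γ.subtype
  have : IsMulCommutative C' := ⟨⟨by
    rintro ⟨_, a, ha, rfl⟩ ⟨_, b, hb, rfl⟩
    exact Subtype.ext ((map_mul Γ.subtype a b).symm.trans
      ((congrArg Γ.subtype (Subgroup.mem_centralizer_iff.mp (hCcomm hb) a ha)).trans (map_mul Γ.subtype b a)))⟩⟩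
  have : Finite C' := Finite.of_surjective _ (Γ.subtype.subgroupMap_surjective C)
  have hcomm := ChiefFactor.commute_of_sub_pow (Φ g) (pow_eq_zero_of_le h2 (hdeg g 2 hq)) C'
    (by rwa [Subgroup.card_map_of_injective Γ.subtype_injective]) (by
      rintro _ ⟨c, hc, rfl⟩
      exact ⟨u * c * u⁻¹, (inferInstance : C.Normal).conj_mem c hc u, rfl⟩)
  have hK : (P : Subgroup Γ) ⊓ Subgroup.centralizer (C : Set Γ) = ⊥ := by
    refine hO _ (Subgroup.normalizer_eq_top_iff.mp (top_le_iff.mp ?_)) (P.2.to_le inf_le_left)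
    rw [← Fusion.Basic.pResidual_sup_sylow P, sup_le_iff]
    have hCn : (Subgroup.centralizer (C : Set Γ)).Normal := Subgroup.normal_centralizer
    constructor
    · intro c hc
      refine conjG_eq_iff.mp (Subgroup.eq_of_le_of_card_ge ?_ (card_conjG _ c).ge)
      rintro _ ⟨y, hy, rfl⟩
      show c * y * c⁻¹ ∈ _
      rw [Subgroup.mem_centralizer_iff.mp hy.2 c hc, mul_inv_cancel_right]
      exact hy
    · intro z hz
      refine conjG_eq_iff.mp ?_
      rw [Subgroup.map_inf _ _ _ (MulAut.conj z).injective, conjG_eq_iff.mpr (Subgroup.le_normalizer hz),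
        conjG_eq_iff.mpr (by rw [Subgroup.normalizer_eq_top]; trivial)]
  have hu : u ∈ (⊥ : Subgroup Γ) := hK ▸ ⟨hP (Subgroup.mem_zpowers u), Subgroup.mem_centralizer_iff.mpr fun c hc =>
    Subtype.ext (hcomm c.val ⟨c, hc, rfl⟩).symm⟩
  exact congrArg Subtype.val (Subgroup.mem_bot.mp hu)

theorem stable {X : Type*} [Group X] [Finite X] (hp : p ≠ 2) (hgood : Good p X) : Cfsg.IsNormalizerPStable p X := by
  intro P hP g hg hq
  set N := Subgroup.normalizer (P : Set X) with hN
  set C := (Subgroup.centralizer (P : Set X)).subgroupOf N with hC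
  set P' := P.subgroupOf N with hP'
  have hP'n : P'.Normal := Subgroup.normal_in_normalizer
  have hP'p : IsPGroup p P' := hP.comap_of_injective N.subtype N.subtype_injective
  set K := Quadratic.factorKernel (G := N) (fun U _ => U ≤ P')
  set g' : N := ⟨g, hg⟩
  have hgK : g' ∈ K := by
    intro U V hc hU
    refine centralizes_chief hp (hgood.subgroup N) hc (hP'p.to_le hU) ?_
    show ⁅⁅U, Subgroup.zpowers g'⁆, Subgroup.zpowers g'⁆ ≤ V
    refine le_trans (le_of_eq ?_) bot_le
    rw [← Subgroup.map_eq_bot_iff_of_injective _ N.subtype_injective, Subgroup.map_commutator,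
      Subgroup.map_commutator, MonoidHom.map_zpowers, ← le_bot_iff, ← hq]
    exact Subgroup.commutator_mono (Subgroup.commutator_mono
      ((Subgroup.map_mono hU).trans (Subgroup.map_subgroupOf_eq_of_le Subgroup.le_normalizer).le) le_rfl) le_rfl
  have hKn : (K.map (QuotientGroup.mk' C)).Normal :=
    (inferInstance : K.Normal).map _ (QuotientGroup.mk'_surjective C)
  refine Solvable.Cores.le_pCore (N := K.map (QuotientGroup.mk' C)) ?_ (Subgroup.mem_map_of_mem _ hgK)
  rintro ⟨_, k, hk, rfl⟩
  obtain ⟨j, hj⟩ := Fusion.Basic.exists_pow_coprime (p := p) k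
  refine ⟨j, Subtype.ext ?_⟩
  show (QuotientGroup.mk' C k) ^ p ^ j = 1
  rw [← map_pow]
  refine (QuotientGroup.eq_one_iff _).mpr ?_
  have hbot : (k ^ p ^ j) ∈ Subgroup.centralizer ((⊥ : Subgroup N) : Set N) := by simp [Subgroup.mem_centralizer_iff]
  have hcen := Quadratic.centralizes_of_trivial_factors hj hbot P' hP'p bot_le fun U V h hU _ =>
    Quadratic.commutator_le_of_mem_factorKernel (Subgroup.pow_mem _ hk _) h hU
  rw [hC, Subgroup.mem_subgroupOf, Subgroup.mem_centralizer_iff]
  intro y hy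
  exact congrArg Subtype.val (Subgroup.mem_centralizer_iff.mp hcen ⟨y, Subgroup.le_normalizer hy⟩ hy)

end CfsgLib.KGroups.Functor.AbelianResidual
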