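import Cfsg.Prelude.Def_LocalEven
import Cfsg.Prelude.Def_PLocal
import Mathlib.Algebra.Module.ZMod
import Mathlib.Algebra.CharP.Lemmas
import Mathlib.RingTheory.Polynomial.Basic
import Cfsg.Agent.Lib.Fusion.Basic
import Cfsg.Agent.Lib.Coprime.Sylow
import Cfsg.Agent.Lib.Solvable.Cores

/-!
A unipotent element of small degree cannot act nontrivially on an abelian p'-group of automorphisms.
-/

set_option autoImplicit false
set_option linter.unusedSectionVars false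

namespace CfsgLib.KGroups.Functor.ChiefFactor

open scoped commutatorElement

variable {p : ℕ} [Fact p.Prime]

theorem geom_sum_eq_sub_pow {R : Type*} [Ring R] [Algebra (ZMod p) R] (y : R) :
    ∑ i ∈ Finset.range p, y ^ i = (y - 1) ^ (p - 1) := by
  have h : ∑ i ∈ Finset.range p, (Polynomial.X : Polynomial (ZMod p)) ^ i = (Polynomial.X - 1) ^ (p - 1) := by
    have hne : (Polynomial.X - 1 : Polynomial (ZMod p)) ≠ 0 := by
      rw [← Polynomial.C_1]; exact Polynomial.X_sub_C_ne_zero 1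
    refine mul_right_cancel₀ hne ?_
    rw [geom_sum_mul, ← pow_succ, Nat.sub_add_cancel (Fact.out : p.Prime).pos, sub_pow_char, one_pow]
  simpa using congrArg (Polynomial.aeval y) h

/-- If `(g - 1)^(p-1) = 0`, then `g` centralizes every abelian p'-group of units it normalizes. -/
theorem commute_of_sub_pow {R : Type*} [Ring R] [Algebra (ZMod p) R] (g : Rˣ)
    (hg : ((g : R) - 1) ^ (p - 1) = 0) (C : Subgroup Rˣ) [Finite C] [IsMulCommutative C]
    (hC : (Nat.card C).Coprime p) (hn : ∀ c ∈ C, g * c * g⁻¹ ∈ C) :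
    ∀ c ∈ C, g * c = c * g := by
  classical
  have hpos : 0 < p := (Fact.out : p.Prime).pos
  have hsum : ∑ i ∈ Finset.range p, (g : R) ^ i = 0 := by rw [geom_sum_eq_sub_pow, hg]
  have hgp : g ^ p = 1 := by
    apply Units.ext
    rw [Units.val_pow_eq_pow_val, Units.val_one, ← sub_eq_zero, ← geom_sum_mul, hsum, zero_mul]
  have hcomm : ∀ a ∈ C, ∀ b ∈ C, a * b = b * a := fun a ha b hb =>
    congrArg Subtype.val (mul_comm' (⟨a, ha⟩ : C) ⟨b, hb⟩)
  have hnp : ∀ i : ℕ, ∀ c ∈ C, g ^ i * c * (g ^ i)⁻¹ ∈ C := by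
    intro i
    induction i with
    | zero => intro c hc; simpa using hc
    | succ i ih =>
      intro c hc
      have := hn _ (ih c hc)
      simpa [pow_succ', mul_assoc] using this
  let δ : C →* C :=
    { toFun := fun c => ⟨c * (g * (c : Rˣ) * g⁻¹)⁻¹, C.mul_mem c.2 (C.inv_mem (hn c c.2))⟩
      map_one' := by ext; simp
      map_mul' := fun a b => by
        apply Subtype.ext
        show ((a : Rˣ) * b) * (g * ((a : Rˣ) * b) * g⁻¹)⁻¹ = _
        have h1 : g * ((a : Rˣ) * b) * g⁻¹ = (g * a * g⁻¹) * (g * b * g⁻¹) := by simp [mul_assoc]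
        have hA := C.inv_mem (hn _ a.2)
        have hB := C.inv_mem (hn _ b.2)
        rw [h1, mul_inv_rev, mul_assoc, ← mul_assoc (b : Rˣ),
          hcomm _ (C.mul_mem b.2 hB) _ hA, ← mul_assoc]
        rfl }
  let D : Subgroup Rˣ := δ.range.map C.subtype
  have hDC : D ≤ C := Subgroup.map_subtype_le _
  have hDn : ∀ i : ℕ, ∀ d ∈ D, g ^ i * d * (g ^ i)⁻¹ ∈ D := by
    rintro i _ ⟨_, ⟨c, rfl⟩, rfl⟩
    refine ⟨_, ⟨⟨g ^ i * (c : Rˣ) * (g ^ i)⁻¹, hnp i c c.2⟩, rfl⟩, ?_⟩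
    show g ^ i * (c : Rˣ) * (g ^ i)⁻¹ * (g * (g ^ i * (c : Rˣ) * (g ^ i)⁻¹) * g⁻¹)⁻¹ =
      g ^ i * ((c : Rˣ) * (g * (c : Rˣ) * g⁻¹)⁻¹) * (g ^ i)⁻¹
    have hgi : g * g ^ i = g ^ i * g := (Commute.self_pow g i).eq
    calc g ^ i * (c : Rˣ) * (g ^ i)⁻¹ * (g * (g ^ i * (c : Rˣ) * (g ^ i)⁻¹) * g⁻¹)⁻¹
        = g ^ i * (c : Rˣ) * (g ^ i)⁻¹ * ((g * g ^ i) * (c : Rˣ) * (g * g ^ i)⁻¹)⁻¹ := by simp [mul_assoc]
      _ = g ^ i * (c : Rˣ) * (g ^ i)⁻¹ * ((g ^ i * g) * (c : Rˣ) * (g ^ i * g)⁻¹)⁻¹ := by rw [hgi]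
      _ = _ := by simp [mul_assoc]
  -- no fixed points on `D`
  have hfix : ∀ d ∈ D, g * d * g⁻¹ = d → d = 1 := by
    rintro _ ⟨_, ⟨c, rfl⟩, rfl⟩ hd
    set d : Rˣ := (c : Rˣ) * (g * (c : Rˣ) * g⁻¹)⁻¹ with hddef
    change g * d * g⁻¹ = d at hd
    show d = 1
    have hdC : d ∈ C := C.mul_mem c.2 (C.inv_mem (hn c c.2))
    have hdfix : ∀ i : ℕ, g ^ i * d * (g ^ i)⁻¹ = d := by
      intro i
      induction i with
      | zero => simp
      | succ i ih =>
        calc g ^ (i + 1) * d * (g ^ (i + 1))⁻¹ = g ^ i * (g * d * g⁻¹) * (g ^ i)⁻¹ := by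
              rw [pow_succ]; simp [mul_assoc]
          _ = d := by rw [hd, ih]
    have hpow : ∀ i : ℕ, (c : Rˣ) = d ^ i * (g ^ i * (c : Rˣ) * (g ^ i)⁻¹) := by
      intro i
      induction i with
      | zero => simp
      | succ i ih =>
        calc (c : Rˣ) = d ^ i * (g ^ i * (c : Rˣ) * (g ^ i)⁻¹) := ih
          _ = d ^ i * ((g ^ i * d * (g ^ i)⁻¹) * (g ^ i * (g * (c : Rˣ) * g⁻¹) * (g ^ i)⁻¹)) := by
              rw [hddef]; simp [mul_assoc]
          _ = d ^ (i + 1) * (g ^ (i + 1) * (c : Rˣ) * (g ^ (i + 1))⁻¹) := by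
              rw [hdfix i, pow_succ d i, pow_succ g i]; simp [mul_assoc]
    have h1 := hpow p
    rw [hgp, one_mul, inv_one, mul_one, right_eq_mul] at h1
    have h2 : d ^ Nat.card C = 1 := by
      exact congrArg Subtype.val (pow_card_eq_one' (x := (⟨d, hdC⟩ : C)))
    have := pow_gcd_eq_one.mpr ⟨h2, h1⟩
    rwa [(hC : Nat.gcd _ _ = 1), pow_one] at this
  have hfixi : ∀ i : ℕ, ¬ p ∣ i → ∀ d ∈ D, g ^ i * d * (g ^ i)⁻¹ = d → d = 1 := by
    intro i hi d hd he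
    refine hfix d hd ?_
    obtain ⟨m, -, hm⟩ := Nat.exists_mul_mod_eq_one_of_coprime
      (((Fact.out : p.Prime).coprime_iff_not_dvd.mpr hi).symm) (Fact.out : p.Prime).one_lt
    have hm' : g = (g ^ i) ^ m := by
      conv_lhs => rw [← pow_one g, ← hm]
      rw [← pow_eq_pow_mod _ hgp, pow_mul]
    have h1 : Commute (g ^ i) d := by
      show g ^ i * d = d * g ^ i
      conv_rhs => rw [← he]
      rw [inv_mul_cancel_right]
    have h2 := h1.pow_left m
    rw [← hm'] at h2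
    rw [h2.eq, mul_inv_cancel_right]
  -- averaging
  have : Finite D := Finite.of_injective _ (Subgroup.inclusion_injective hDC)
  have := Fintype.ofFinite D
  set Sg : R := ∑ d : D, ((d : Rˣ) : R) with hSg
  have hterm : ∀ i ∈ Finset.range p, i ≠ 0 → ∑ d : D, ((d : Rˣ) : R) * (g : R) ^ i * (((d : Rˣ)⁻¹ : Rˣ) : R) =
      Sg * (g : R) ^ i := by
    intro i hi hi0
    have hi' : ¬ p ∣ i := fun hd => hi0 (Nat.eq_zero_of_dvd_of_lt hd (Finset.mem_range.mp hi))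
    let e : D → D := fun d => ⟨(d : Rˣ) * (g ^ i * (d : Rˣ) * (g ^ i)⁻¹)⁻¹, D.mul_mem d.2 (D.inv_mem (hDn i d d.2))⟩
    have he : Function.Bijective e := by
      refine Finite.injective_iff_bijective.mp fun a b hab => ?_
      have h1 : (a : Rˣ) * (g ^ i * (a : Rˣ) * (g ^ i)⁻¹)⁻¹ = (b : Rˣ) * (g ^ i * (b : Rˣ) * (g ^ i)⁻¹)⁻¹ :=
        congrArg Subtype.val hab
      have h2 : (b : Rˣ)⁻¹ * a = g ^ i * ((b : Rˣ)⁻¹ * a) * (g ^ i)⁻¹ := by
        have hA := hDn i _ a.2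
        calc (b : Rˣ)⁻¹ * a = (b : Rˣ)⁻¹ * ((a : Rˣ) * (g ^ i * (a : Rˣ) * (g ^ i)⁻¹)⁻¹) * (g ^ i * (a : Rˣ) * (g ^ i)⁻¹) := by
              simp [mul_assoc]
          _ = (g ^ i * (b : Rˣ) * (g ^ i)⁻¹)⁻¹ * (g ^ i * (a : Rˣ) * (g ^ i)⁻¹) := by
              rw [h1]; simp [mul_assoc]
          _ = _ := by simp [mul_assoc]
      have := hfixi i hi' _ (D.mul_mem (D.inv_mem b.2) a.2) h2.symm
      exact Subtype.ext (inv_mul_eq_one.mp this).symm
    rw [hSg, Finset.sum_mul]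
    conv_rhs => rw [← he.sum_comp (fun d : D => ((d : Rˣ) : R) * (g : R) ^ i)]
    refine Finset.sum_congr rfl fun d _ => ?_
    rw [← Units.val_pow_eq_pow_val, ← Units.val_mul, ← Units.val_mul, ← Units.val_mul]
    congr 1
    show (d : Rˣ) * g ^ i * (d : Rˣ)⁻¹ = (d : Rˣ) * (g ^ i * (d : Rˣ) * (g ^ i)⁻¹)⁻¹ * g ^ i
    simp [mul_assoc]
  have h0 : (Fintype.card D : R) = Sg := by
    have hz : ∑ i ∈ Finset.range p, ∑ d : D, ((d : Rˣ) : R) * (g : R) ^ i * (((d : Rˣ)⁻¹ : Rˣ) : R) = 0 := by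
      rw [Finset.sum_comm]
      refine Finset.sum_eq_zero fun d _ => ?_
      rw [← Finset.sum_mul, ← Finset.mul_sum, hsum, mul_zero, zero_mul]
    obtain ⟨n, hn'⟩ := Nat.exists_eq_succ_of_ne_zero hpos.ne'
    rw [hn', Finset.sum_range_succ'] at hz
    have hsum' : ∑ i ∈ Finset.range n, (g : R) ^ (i + 1) = -1 := by
      have := hsum
      rw [hn', Finset.sum_range_succ', pow_zero] at this
      exact eq_neg_of_add_eq_zero_left this
    rw [Finset.sum_congr rfl (fun i hi => hterm (i + 1) (Finset.mem_range.mpr (by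
      have := Finset.mem_range.mp hi; omega)) (Nat.succ_ne_zero i)), ← Finset.mul_sum, hsum', mul_neg, mul_one] at hz
    have e : ∑ d : D, ((d : Rˣ) : R) * (g : R) ^ 0 * (((d : Rˣ)⁻¹ : Rˣ) : R) = (Fintype.card D : R) := by
      simp only [pow_zero, mul_one, Units.mul_inv, Finset.sum_const, Finset.card_univ, nsmul_one]
    rw [e] at hz
    exact (neg_add_eq_zero.mp hz).symm
  have hD1 : ∀ d ∈ D, d = 1 := by
    intro d hd
    have h1 : (d : R) * Sg = Sg := by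
      rw [hSg, Finset.mul_sum]
      refine Fintype.sum_equiv (Equiv.mulLeft (⟨d, hd⟩ : D)) _ _ fun x => ?_
      simp
    rw [← h0] at h1
    have hu : IsUnit ((Fintype.card D : ℕ) : R) := by
      have hc : (Fintype.card D).Coprime p := by
        refine hC.coprime_dvd_left ?_
        rw [← Nat.card_eq_fintype_card]
        exact Subgroup.card_dvd_of_le hDC
      rw [← map_natCast (algebraMap (ZMod p) R)]
      exact ((ZMod.isUnit_iff_coprime _ p).mpr hc).map _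
    exact Units.ext (hu.mul_eq_right.mp h1)
  intro c hc
  have := hD1 _ ⟨δ ⟨c, hc⟩, ⟨⟨c, hc⟩, rfl⟩, rfl⟩
  change c * (g * c * g⁻¹)⁻¹ = 1 at this
  rw [mul_inv_eq_one] at this
  exact (mul_inv_eq_iff_eq_mul.mp this.symm)

end CfsgLib.KGroups.Functor.ChiefFactor
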