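import Cfsg.Agent.Lib.KGroups.Functor.Reduce
import Cfsg.Agent.Lib.Fusion.Alperin

/-!
Normal p-complements from the normalizer of a characteristic p-functor (Thompson's argument).
-/

set_option autoImplicit false
set_option linter.unusedSectionVars false

namespace CfsgLib.KGroups.Functor

open CfsgLib.LocalEven.SylowIn
open scoped commutatorElement

universe u

variable {G : Type u} [Group G] [Finite G] {p : ℕ} [Fact p.Prime] {W : ∀ (Q : Type u) [Group Q], Subgroup Q}

/-- A subgroup with a normal p-complement, containing `O_p(G)` in a constrained group, is a p-group. -/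
theorem isPGroup_of_npc_of_constrained (hc : Subgroup.centralizer (Cfsg.pCore p G : Set G) ≤ Cfsg.pCore p G)
    {M : Subgroup G} (hTM : Cfsg.pCore p G ≤ M) (h : Cfsg.HasNormalPComplement p M) : IsPGroup p M := by
  have hres : Cfsg.pResidual p M = ⊥ := by
    rw [Cfsg.pResidual, Subgroup.closure_eq_bot_iff]
    intro m hm
    have hTn : (Cfsg.pCore p G).Normal := LocalEven.SylowIn.pCore_normal G p
    have h1 : m ∈ Subgroup.centralizer ((Cfsg.pCore p G).subgroupOf M : Set M) := by
      refine Fusion.Alperin.centralizes_of_npc h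
        ((Solvable.Cores.isPGroup_pCore p).of_equiv (Subgroup.subgroupOfEquivOfLe hTM).symm) ?_ hm
      rw [Subgroup.normalizer_eq_top]; trivial
    have h2 : (m : G) ∈ Subgroup.centralizer (Cfsg.pCore p G : Set G) := by
      rw [Subgroup.mem_centralizer_iff]
      exact fun t ht => congrArg Subtype.val (Subgroup.mem_centralizer_iff.mp h1 ⟨t, hTM ht⟩ ht)
    exact Subtype.ext (CharP.eq_one_of_centralizer_pCore_le hc m (by rwa [Subgroup.orderOf_coe]) h2)
  exact ((Fusion.Basic.isPGroup_quotient_pResidual (p := p) (G := M))).of_equiv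
    ((QuotientGroup.quotientMulEquivOfEq hres).trans QuotientGroup.quotientBot)

/-- `O_{p'} = 1` and `G / O_p` with a normal p-complement give constraint. -/
theorem centralizer_le_of_npc_quotient (hN : Cfsg.pPrimeCore p G = ⊥)
    (h : Cfsg.HasNormalPComplement p (G ⧸ Cfsg.pCore p G)) :
    Subgroup.centralizer (Cfsg.pCore p G : Set G) ≤ Cfsg.pCore p G := by
  set T := Cfsg.pCore p G with hT
  have hTn : T.Normal := LocalEven.SylowIn.pCore_normal G p
  set C := Subgroup.centralizer (T : Set G) with hC
  have hCn : C.Normal := inferInstance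
  set π := (QuotientGroup.mk' T).comp C.subtype with hπ
  -- the elements of `C` of order prime to `p`
  set R := (Cfsg.pResidual p C).map C.subtype with hR
  have hRn : R.Normal := by
    rw [hR]; infer_instance
  have hcop : (Nat.card (Cfsg.pResidual p C)).Coprime p := by
    obtain ⟨P⟩ : Nonempty (Sylow p C) := inferInstance
    rw [← Fusion.Basic.npc_iff_coprime]
    -- `C ∩ T` is central in `C`
    refine Fusion.Alperin.npc_of_frobenius P fun Q _ g hg hgp => ?_
    rw [Subgroup.mem_centralizer_iff]
    intro q hq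
    have h1 : π g ∈ Subgroup.centralizer ((Q.map π : Subgroup (G ⧸ T)) : Set (G ⧸ T)) :=
      Fusion.Alperin.centralizes_of_npc h ((P.2.to_le ‹_›).map π) (Subgroup.le_normalizer_map π ⟨g, hg, rfl⟩)
        (Nat.Coprime.coprime_dvd_left (orderOf_map_dvd π g) hgp)
    have h2 : π q * π g = π g * π q := Subgroup.mem_centralizer_iff.mp h1 (π q) ⟨q, hq, rfl⟩
    -- `g q g⁻¹ = t q` with `t ∈ T ∩ C`, central in `C`
    set t := g * q * g⁻¹ * q⁻¹ with ht
    have htT : (t : G) ∈ T := by
      rw [← QuotientGroup.eq_one_iff]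
      show π t = 1
      rw [ht, map_mul, map_mul, map_mul, map_inv, map_inv, ← h2, mul_inv_cancel_right, mul_inv_cancel]
    have htc : ∀ c : C, Commute c t := fun c => Subtype.ext (Subgroup.mem_centralizer_iff.mp c.2 _ htT).symm
    have hit : ∀ i : ℕ, g ^ i * q * (g ^ i)⁻¹ = t ^ i * q := by
      intro i
      induction i with
      | zero => simp
      | succ i ih =>
        calc g ^ (i + 1) * q * (g ^ (i + 1))⁻¹ = g * (g ^ i * q * (g ^ i)⁻¹) * g⁻¹ := by
              rw [pow_succ']; simp [mul_assoc]
          _ = (g * t ^ i * g⁻¹) * (g * q * g⁻¹) := by rw [ih]; simp [mul_assoc]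
          _ = t ^ (i + 1) * q := by
              rw [((htc g).pow_right i).eq, mul_inv_cancel_right, show g * q * g⁻¹ = t * q by rw [ht, inv_mul_cancel_right],
                ← mul_assoc, ← pow_succ]
    have h3 := hit (orderOf g)
    rw [pow_orderOf_eq_one, one_mul, inv_one, mul_one, right_eq_mul] at h3
    obtain ⟨k, hk⟩ := Solvable.Cores.isPGroup_pCore p ⟨(t : G), htT⟩
    have ht1 : t = 1 := CharP.eq_one_of_pow_coprime hgp h3 (k := k)
      (Subtype.ext (by simpa using congrArg Subtype.val hk))
    rw [ht, mul_inv_eq_one, mul_inv_eq_iff_eq_mul] at ht1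
    exact ht1.symm
  have hRle : R ≤ Cfsg.pPrimeCore p G := Solvable.Cores.le_pPrimeCore (by
    rw [hR, Coprime.card_map_subtype]; exact hcop)
  rw [hN, le_bot_iff, hR, Subgroup.map_eq_bot_iff_of_injective _ C.subtype_injective] at hRle
  intro c hc
  have hCp : IsPGroup p C :=
    ((Fusion.Basic.isPGroup_quotient_pResidual (p := p) (G := C))).of_equiv
      ((QuotientGroup.quotientMulEquivOfEq hRle).trans QuotientGroup.quotientBot)
  exact Solvable.Cores.le_pCore hCp hc

/-- A normal p-complement modulo a normal p'-subgroup lifts. -/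
theorem npc_of_quotient_coprime (N : Subgroup G) [N.Normal] (hcop : (Nat.card N).Coprime p)
    (h : Cfsg.HasNormalPComplement p (G ⧸ N)) : Cfsg.HasNormalPComplement p G := by
  obtain ⟨k, hk⟩ := Fusion.Basic.exists_index_pResidual (p := p) (G := G ⧸ N)
  set K := (Cfsg.pResidual p (G ⧸ N)).comap (QuotientGroup.mk' N) with hK
  refine Fusion.Basic.npc_of_normal K ?_ (k := k) (by
    rw [hK, Subgroup.index_comap_of_surjective _ (QuotientGroup.mk'_surjective N), hk])
  have hle : N ≤ K := fun x hx => by
    show (QuotientGroup.mk' N) x ∈ Cfsg.pResidual p (G ⧸ N)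
    rw [show (QuotientGroup.mk' N) x = 1 from (QuotientGroup.eq_one_iff x).mpr hx]; exact one_mem _
  have h1 : N.relIndex K = Nat.card (Cfsg.pResidual p (G ⧸ N)) := by
    conv_lhs => rw [← QuotientGroup.ker_mk' N]
    rw [← MonoidHom.comap_bot, Subgroup.relIndex_comap, hK,
      Subgroup.map_comap_eq_self_of_surjective (QuotientGroup.mk'_surjective N), Subgroup.relIndex_bot_left]
  have h2 : Nat.card N * N.relIndex K = Nat.card K := by
    rw [← Subgroup.relIndex_bot_left, Subgroup.relIndex_mul_relIndex _ _ _ bot_le hle, Subgroup.relIndex_bot_left]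
  rw [← h2, h1]
  exact hcop.mul_left (Fusion.Basic.npc_iff_coprime.mp h)

/-- Thompson's normal p-complement argument. -/
theorem npc_sec (hW : Cfsg.IsCharPFunctor.{u} p W)
    (hloc : ∀ (X : Type u) [Group X] [Finite X], Sec G X →
      Subgroup.centralizer (Cfsg.pCore p X : Set X) ≤ Cfsg.pCore p X →
      Cfsg.HasNormalPComplement p (X ⧸ Cfsg.pCore p X) →
      ∀ T : Sylow p X, IsCoatom (T : Subgroup X) → (Cfsg.inducedFunctor W (T : Subgroup X)).Normal) :
    ∀ (n : ℕ) (X : Type u) [Group X] [Finite X], Nat.card X = n → Sec G X → ∀ P : Subgroup X,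
      IsSylowIn p P ⊤ →
      Cfsg.HasNormalPComplement p (Subgroup.normalizer (Cfsg.inducedFunctor W P : Set X)) →
      Cfsg.HasNormalPComplement p X := by
  intro n
  induction n using Nat.strong_induction_on with
  | _ n ih =>
  intro X _ _ hn hX P hP hN
  subst hn
  by_contra hbad
  obtain ⟨S, hSP⟩ : ∃ S : Sylow p X, (S : Subgroup X) = P := by
    refine ⟨⟨P, hP.2.1, fun hQ hle => hP.2.2 _ le_top hQ hle⟩, rfl⟩
  subst hSP
  have hcf := isConjugacyFunctor_induced (X := X) hW
  -- subgroups: the hypothesis at one of their Sylow subgroups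
  have hsub : ∀ (L P' : Subgroup X), L ≠ ⊤ → IsSylowIn p P' L →
      Cfsg.HasNormalPComplement p (Subgroup.normalizer (Cfsg.inducedFunctor W P' : Set X) ⊓ L : Subgroup X) →
      Cfsg.HasNormalPComplement p L := by
    intro L P' hL hP' hnpc
    refine ih _ (lt_of_le_of_ne (Subgroup.card_le_card_group L) fun e => hL (Subgroup.eq_top_of_card_eq L e))
      L rfl (hX.of_subgroup L) (P'.subgroupOf L) ⟨le_top, hP'.toSylow.2, fun U _ hU hle => hP'.toSylow.3 hU hle⟩ ?_
    have hmap : (Subgroup.normalizer (Cfsg.inducedFunctor W (P'.subgroupOf L) : Set L)).map L.subtype ≤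
        Subgroup.normalizer (Cfsg.inducedFunctor W P' : Set X) ⊓ L := by
      refine le_inf ?_ (Subgroup.map_subtype_le _)
      refine (Subgroup.le_normalizer_map L.subtype).trans (le_of_eq ?_)
      have h1 := inducedFunctor_map hW L.subtype (P := P'.subgroupOf L) hP'.toSylow.2 L.subtype_injective.injOn
      rw [Subgroup.map_subgroupOf_eq_of_le hP'.1] at h1
      rw [h1]
    exact Fusion.Basic.npc_of_injective
      ((Subgroup.inclusion hmap).comp (Subgroup.equivMapOfInjective _ L.subtype L.subtype_injective).toMonoidHom)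
      ((Subgroup.inclusion_injective hmap).comp (MulEquiv.injective _)) hnpc
  have hover : ∀ L : Subgroup X, (S : Subgroup X) ≤ L → L ≠ ⊤ → Cfsg.HasNormalPComplement p L := fun L hSL hL =>
    hsub L _ hL (isSylowIn_of_le S hSL) (Fusion.Basic.npc_of_le inf_le_left hN)
  -- some nontrivial p-subgroup is normal
  have hTbot : Cfsg.pCore p X ≠ ⊥ := by
    intro hT
    apply hbad
    rw [Fusion.Alperin.npc_iff_locals]
    suffices h : ∀ (d : ℕ) (U P' : Subgroup X), IsPGroup p U → U ≠ ⊥ → IsSylowIn p P' (Subgroup.normalizer (U : Set X)) →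
        Nat.card X - Nat.card P' = d → Cfsg.HasNormalPComplement p (Subgroup.normalizer (U : Set X)) by
      intro U hU hne
      obtain ⟨P', hP', -⟩ := exists_isSylowIn (p := p) (Subgroup.normalizer (U : Set X)) bot_le IsPGroup.of_bot
      exact h _ U P' hU hne hP' rfl
    intro d
    induction d using Nat.strong_induction_on with
    | _ d ihd =>
    intro U P' hU hne hP' hd
    subst hd
    have hL : Subgroup.normalizer (U : Set X) ≠ ⊤ := fun htop => hne (by
      have : U.Normal := Subgroup.normalizer_eq_top_iff.mp htop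
      exact le_bot_iff.mp (hT ▸ Solvable.Cores.le_pCore hU))
    refine hsub _ P' hL hP' ?_
    obtain ⟨g, hg⟩ := exists_conjG_le S hP'.2.1
    rcases eq_or_ne (P' ^ᶜ g) (S : Subgroup X) with heq | hlt
    · -- a Sylow subgroup of `X`
      have hWg : Cfsg.inducedFunctor W (S : Subgroup X) = (Cfsg.inducedFunctor W P') ^ᶜ g := by
        rw [← heq]; exact (hcf P' hP'.2.1).2.2 g
      rw [hWg, normalizer_map_conj] at hN
      exact Fusion.Basic.npc_of_le inf_le_left
        (Fusion.Basic.npc_of_injective
          ((Subgroup.equivMapOfInjective _ (MulAut.conj g).toMonoidHom (MulAut.conj g).injective).toMonoidHom)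
          (MulEquiv.injective _) hN)
    · refine Fusion.Basic.npc_of_le inf_le_left ?_
      have hP'ne : P' ≠ ⊥ := fun e => hne (le_bot_iff.mp (by
        obtain ⟨V, hV, hUV⟩ := exists_isSylowIn (p := p) (Subgroup.normalizer (U : Set X)) Subgroup.le_normalizer hU
        obtain ⟨k, -, hk⟩ := hP'.conjugate hV
        rw [hk, e, Subgroup.map_bot] at hUV
        exact hUV))
      obtain ⟨Q, hQ, hle⟩ := exists_isSylowIn (p := p) (Subgroup.normalizer (Cfsg.inducedFunctor W P' : Set X))
        (U := ((S : Subgroup X) ⊓ Subgroup.normalizer ((P' ^ᶜ g : Subgroup X) : Set X)) ^ᶜ g⁻¹) (by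
          refine le_trans ?_ (normalizer_le_normalizer_functor hcf hP'.2.1)
          refine (Subgroup.map_mono inf_le_right).trans (le_of_eq ?_)
          rw [← normalizer_map_conj, conjG_inv_conjG]) ((isPGroup_sylow_inf S _).map _)
      have hgt := card_lt_inf_normalizer S hg hlt
      have hQc := Subgroup.card_le_of_le hle
      rw [card_conjG] at hgt hQc
      have hQX := Subgroup.card_le_card_group Q
      exact ihd _ (by omega) _ Q (hP'.2.1.to_le (inducedFunctor_le W P')) ((hcf P' hP'.2.1).2.1 hP'ne) hQ rfl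
  -- `O_{p'} = 1`
  set T := Cfsg.pCore p X with hTdef
  have hTn : T.Normal := LocalEven.SylowIn.pCore_normal X p
  have hquo : ∀ (N : Subgroup X) [N.Normal], N ≠ ⊥ →
      Cfsg.HasNormalPComplement p (Subgroup.normalizer
        (Cfsg.inducedFunctor W ((S : Subgroup X).map (QuotientGroup.mk' N)) : Set (X ⧸ N))) →
      Cfsg.HasNormalPComplement p (X ⧸ N) := by
    intro N _ hNne h
    have hlt : Nat.card (X ⧸ N) < Nat.card X := by
      rw [← Subgroup.card_mul_index N]
      exact lt_mul_of_one_lt_left (Nat.pos_of_ne_zero Subgroup.index_ne_zero_of_finite)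
        ((Subgroup.one_lt_card_iff_ne_bot N).mpr hNne)
    exact ih _ hlt (X ⧸ N) rfl (hX.of_surjective _ (QuotientGroup.mk'_surjective N)) _
      (isSylowIn_top (S.mapSurjective (QuotientGroup.mk'_surjective N))) h
  have hN' : Cfsg.pPrimeCore p X = ⊥ := by
    by_contra hNne
    apply hbad
    set N := Cfsg.pPrimeCore p X
    have hNn : N.Normal := Solvable.Cores.pPrimeCore_normal p
    have hcop : (Nat.card N).Coprime p := Solvable.Cores.coprime_card_pPrimeCore p
    have hker : (Nat.card (QuotientGroup.mk' N).ker).Coprime p := by rwa [QuotientGroup.ker_mk']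
    have h1 := hquo N hNne (by
      rw [inducedFunctor_map hW _ S.2 (injOn_sylow _ hker S.2)]
      refine Fusion.Basic.npc_of_surjective
        (f := ((QuotientGroup.mk' N).comp (Subgroup.normalizer (Cfsg.inducedFunctor W (S : Subgroup X) : Set X)).subtype).codRestrict _
          fun n => Subgroup.le_normalizer_map _ ⟨n, n.2, rfl⟩) ?_ hN
      rintro ⟨x, hx⟩
      obtain ⟨n, hn, rfl⟩ := exists_normalizer_lift _ (QuotientGroup.mk'_surjective N) hker
        (S.2.to_le (inducedFunctor_le W _)) hx
      exact ⟨⟨n, hn⟩, rfl⟩)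
    exact npc_of_quotient_coprime N hcop h1
  have hST : ¬ (S : Subgroup X) ≤ T := fun hle => hbad (by
    have hSn : (S : Subgroup X).Normal := by
      rw [le_antisymm hle (Solvable.Cores.pCore_le_sylow S)]; exact hTn
    refine Fusion.Basic.npc_of_injective ((MonoidHom.id X).codRestrict _ fun x => ?_)
      (fun a b e => congrArg Subtype.val e) hN
    refine normalizer_le_normalizer_functor hcf S.2 ?_
    rw [Subgroup.normalizer_eq_top]; trivial)
  have hquoT : Cfsg.HasNormalPComplement p (X ⧸ T) := by
    refine hquo T hTbot ?_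
    set N' := Subgroup.normalizer (Cfsg.inducedFunctor W ((S : Subgroup X).map (QuotientGroup.mk' T)) : Set (X ⧸ T))
    set K := N'.comap (QuotientGroup.mk' T)
    have hK : K ≠ ⊤ := fun e => normalizer_quotient_pCore_ne_top S hST hW (by
      show N' = ⊤
      rw [← Subgroup.map_comap_eq_self_of_surjective (QuotientGroup.mk'_surjective T) N']
      show K.map _ = ⊤
      rw [e, Subgroup.map_top_of_surjective _ (QuotientGroup.mk'_surjective T)])
    have hSK : (S : Subgroup X) ≤ K := by
      rw [← Subgroup.map_le_iff_le_comap]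
      exact Subgroup.le_normalizer.trans
        (normalizer_le_normalizer_functor (isConjugacyFunctor_induced hW) (S.2.map _))
    refine Fusion.Basic.npc_of_surjective
      (f := ((QuotientGroup.mk' T).comp K.subtype).codRestrict N' fun k => k.2) ?_ (hover K hSK hK)
    rintro ⟨x, hx⟩
    obtain ⟨a, rfl⟩ := QuotientGroup.mk'_surjective T x
    exact ⟨⟨a, hx⟩, rfl⟩
  have hcon := centralizer_le_of_npc_quotient hN' hquoT
  have hco : IsCoatom (S : Subgroup X) := by
    refine ⟨fun e => hbad (Fusion.Basic.npc_of_isPGroup ?_), fun M hM => ?_⟩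
    · exact (e ▸ S.2 : IsPGroup p (⊤ : Subgroup X)).of_equiv Subgroup.topEquiv
    · by_contra hMne
      refine hM.ne (S.3 ?_ hM.le).symm
      exact isPGroup_of_npc_of_constrained hcon ((Solvable.Cores.pCore_le_sylow S).trans hM.le) (hover M hM.le hMne)
  apply hbad
  have hn := hloc X hX hcon hquoT S hco
  exact Fusion.Basic.npc_of_injective ((MonoidHom.id X).codRestrict _ fun x => by
    rw [Subgroup.normalizer_eq_top]; trivial) (fun a b e => congrArg Subtype.val e) hN

end CfsgLib.KGroups.Functor
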