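import Cfsg.Agent.Lib.KGroups.Functor.Basic

/-!
Alperin's theorem for conjugation families; well-placed subgroups.
-/

set_option autoImplicit false

namespace CfsgLib.KGroups.Functor

open CfsgLib.LocalEven.SylowIn

variable {G : Type*} [Group G]

/-- A step inside the normalizer of a member of `𝓕`. -/
def FamStep (𝓕 : Set (Subgroup G)) (A : Subgroup G) (x : G) : Prop :=
  ∃ T ∈ 𝓕, A ≤ T ∧ x ∈ Subgroup.normalizer (T : Set G)

theorem famStep_mono (𝓕 : Set (Subgroup G)) (A B : Subgroup G) (x : G) (h : B ≤ A)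
    (hx : FamStep 𝓕 A x) : FamStep 𝓕 B x := by
  obtain ⟨T, h1, h2, h3⟩ := hx
  exact ⟨T, h1, h.trans h2, h3⟩

theorem famStep_symm (𝓕 : Set (Subgroup G)) (A : Subgroup G) (x : G) (hx : FamStep 𝓕 A x) :
    FamStep 𝓕 (A ^ᶜ x) x⁻¹ := by
  obtain ⟨T, h1, h2, h3⟩ := hx
  refine ⟨T, h1, ?_, inv_mem h3⟩
  calc A ^ᶜ x ≤ T ^ᶜ x := Subgroup.map_mono h2
    _ = T := conjG_eq_iff.mpr h3

theorem exists_fin_of_chain {𝓕 : Set (Subgroup G)} {T : Subgroup G} {g : G}
    (h : Chain (FamStep 𝓕) T g) : ∀ A : Set G, A ⊆ T →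
    ∃ (n : ℕ) (U : Fin n → Subgroup G) (x : Fin n → G), (List.ofFn x).prod = g⁻¹ ∧
      (∀ i, U i ∈ 𝓕) ∧ (∀ i, x i ∈ Subgroup.normalizer ((U i : Subgroup G) : Set G)) ∧
      (∀ h : 0 < n, A ⊆ U ⟨0, h⟩) ∧
      ∀ (i : Fin n) (h : i.val + 1 < n),
        (fun a => (((List.ofFn x).take (i.val + 1)).prod)⁻¹ * a * ((List.ofFn x).take (i.val + 1)).prod) '' A ⊆
          U ⟨i.val + 1, h⟩ := by
  induction h with
  | refl T =>
    intro A _
    exact ⟨0, Fin.elim0, Fin.elim0, by simp, fun i => i.elim0, fun i => i.elim0,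
      fun h => absurd h (lt_irrefl 0), fun i => i.elim0⟩
  | @step T y g hy _ ih =>
    intro A hA
    obtain ⟨U₀, hU₀, hTU, hyN⟩ := hy
    obtain ⟨n, U, x, hprod, hU, hx, h0, hi⟩ := ih ((fun a => y * a * y⁻¹) '' A)
      (by rintro _ ⟨a, ha, rfl⟩; exact conjG_mem (hA ha))
    refine ⟨n + 1, Fin.cons U₀ U, Fin.cons y⁻¹ x, ?_, ?_, ?_, ?_, ?_⟩
    · rw [List.ofFn_cons, List.prod_cons, hprod, mul_inv_rev]
    · intro i; refine Fin.cases ?_ ?_ i <;> simp [hU₀, hU]
    · intro i
      refine Fin.cases ?_ ?_ i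
      · simpa using inv_mem hyN
      · intro j; simpa using hx j
    · intro _ a ha; exact hTU (hA ha)
    · intro i h
      have hlt : i.val < n := by omega
      rintro _ ⟨a, ha, rfl⟩
      rw [List.ofFn_cons, List.take_succ_cons, List.prod_cons]
      have e : (⟨i.val + 1, h⟩ : Fin (n + 1)) = Fin.succ ⟨i.val, hlt⟩ := rfl
      rw [e, Fin.cons_succ]
      rcases Nat.eq_zero_or_pos i.val with h00 | hpos
      · have e' : (⟨i.val, hlt⟩ : Fin n) = ⟨0, by omega⟩ := Fin.ext h00
        rw [e']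
        simp only [h00, List.take_zero, List.prod_nil, mul_one, inv_inv]
        exact h0 (by omega) ⟨a, ha, rfl⟩
      · have e' : (⟨i.val, hlt⟩ : Fin n) = ⟨(i.val - 1) + 1, by omega⟩ := Fin.ext (by simp; omega)
        have h2 := hi ⟨i.val - 1, by omega⟩ (by simp; omega) ⟨_, ⟨a, ha, rfl⟩, rfl⟩
        simp only [show i.val - 1 + 1 = i.val by omega] at h2
        simp only [mul_inv_rev, inv_inv]
        simpa [mul_assoc] using h2

theorem isConjugationFamily_of_chain {𝓕 : Set (Subgroup G)} {S : Subgroup G} (hle : ∀ T ∈ 𝓕, T ≤ S)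
    (h : ∀ (T : Subgroup G) (g : G), T ≤ S → T ^ᶜ g ≤ S → Chain (FamStep 𝓕) T g) :
    Cfsg.IsConjugationFamily 𝓕 S := by
  refine ⟨hle, fun A g _ hA hgA => ?_⟩
  have h1 : (Subgroup.closure A) ^ᶜ g⁻¹ ≤ S := conjG_closure_le (by simpa using hgA)
  have := exists_fin_of_chain (h _ g⁻¹ ((Subgroup.closure_le _).mpr hA) h1) A Subgroup.subset_closure
  simpa using this

variable [Finite G] {p : ℕ} [Fact p.Prime] (S : Sylow p G)

/-- Alperin's theorem for a family meeting every conjugacy class of subgroups in an extremal member. -/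
theorem alperin (𝓕 : Set (Subgroup G))
    (h : ∀ T : Subgroup G, T ≤ (S : Subgroup G) → ∃ g : G, T ^ᶜ g ∈ 𝓕 ∧ T ^ᶜ g ≤ (S : Subgroup G) ∧ Extremal S (T ^ᶜ g))
    (T : Subgroup G) (g : G) (hT : T ≤ (S : Subgroup G)) (hg : T ^ᶜ g ≤ (S : Subgroup G)) :
    Chain (FamStep 𝓕) T g := by
  induction hk : Nat.card (S : Subgroup G) - Nat.card T using Nat.strong_induction_on generalizing T g with
  | _ k ih =>
  subst hk
  rcases eq_or_ne T (S : Subgroup G) with rfl | hne
  · have hgS : g ∈ Subgroup.normalizer ((S : Subgroup G) : Set G) :=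
      conjG_eq_iff.mp (Subgroup.eq_of_le_of_card_ge hg (card_conjG _ g).ge)
    obtain ⟨a, ha, haS, -⟩ := h (S : Subgroup G) le_rfl
    have heq : (S : Subgroup G) ^ᶜ a = (S : Subgroup G) :=
      Subgroup.eq_of_le_of_card_ge haS (card_conjG _ a).ge
    exact Chain.single ⟨_, heq ▸ ha, le_rfl, hgS⟩
  · obtain ⟨a, haF, haS, haE⟩ := h T hT
    have hV : (T ^ᶜ g) ^ᶜ (a * g⁻¹) = T ^ᶜ a := by rw [conjG_conjG, inv_mul_cancel_right]
    obtain ⟨k, hk1, hk2⟩ := haE.exists_conjG S (rfl : T ^ᶜ a = _)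
    obtain ⟨m, hm1, hm2⟩ := haE.exists_conjG S hV
    have hVne : T ^ᶜ g ≠ (S : Subgroup G) := fun e => hne <|
      Subgroup.eq_of_le_of_card_ge hT (by rw [← card_conjG T g, e])
    have hlt := card_lt_inf_normalizer S hT hne
    have hlt' := card_lt_inf_normalizer S hg hVne
    rw [card_conjG T g] at hlt'
    have hle := card_le_sylow S (inf_le_left : (S : Subgroup G) ⊓ Subgroup.normalizer (T : Set G) ≤ _)
    have hle' := card_le_sylow S
      (inf_le_left : (S : Subgroup G) ⊓ Subgroup.normalizer ((T ^ᶜ g : Subgroup G) : Set G) ≤ _)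
    have c1 : Chain (FamStep 𝓕) T k :=
      (ih _ (by omega) _ k inf_le_left (hk2.trans inf_le_left) rfl).mono (famStep_mono 𝓕)
        (le_inf hT Subgroup.le_normalizer)
    have c3 : Chain (FamStep 𝓕) (T ^ᶜ a) m⁻¹ := by
      refine (ih _ ?_ (((S : Subgroup G) ⊓ Subgroup.normalizer ((T ^ᶜ g : Subgroup G) : Set G)) ^ᶜ m) m⁻¹
        (hm2.trans inf_le_left) (by rw [conjG_inv_conjG]; exact inf_le_left) rfl).mono (famStep_mono 𝓕) ?_
      · rw [card_conjG]; omega
      · rw [← hm1]; exact Subgroup.map_mono (le_inf hg Subgroup.le_normalizer)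
    have hx : m * g * k⁻¹ ∈ Subgroup.normalizer ((T ^ᶜ a : Subgroup G) : Set G) := by
      rw [← conjG_eq_iff]
      conv_lhs => rw [← hk1]
      rw [conjG_conjG, inv_mul_cancel_right, ← conjG_conjG, hm1]
    have c2 : Chain (FamStep 𝓕) (T ^ᶜ a) (m * g * k⁻¹) := Chain.single ⟨_, haF, le_rfl, hx⟩
    have c23 : Chain (FamStep 𝓕) (T ^ᶜ a) (m⁻¹ * (m * g * k⁻¹)) :=
      c2.trans (by rwa [conjG_eq_iff.mpr hx])
    have := c1.trans (hk1.symm ▸ c23)
    simpa [mul_assoc] using this

theorem isConjugationFamily_of_extremal (𝓕 : Set (Subgroup G)) (hle : ∀ U ∈ 𝓕, U ≤ (S : Subgroup G))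
    (h : ∀ T : Subgroup G, T ≤ (S : Subgroup G) → ∃ g : G, T ^ᶜ g ∈ 𝓕 ∧ Extremal S (T ^ᶜ g)) :
    Cfsg.IsConjugationFamily 𝓕 (S : Subgroup G) :=
  isConjugationFamily_of_chain hle fun T g hT hg =>
    alperin S 𝓕 (fun T hT => let ⟨a, h1, h2⟩ := h T hT; ⟨a, h1, hle _ h1, h2⟩) T g hT hg

/-! ### Well-placed subgroups -/

variable {W : Subgroup G → Subgroup G}

/-- `P_i`, the normalizer in `S` of the `i`-th term of the tower. -/
abbrev towerNorm (W : Subgroup G → Subgroup G) (T : Subgroup G) (i : ℕ) : Subgroup G :=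
  (S : Subgroup G) ⊓ Subgroup.normalizer ((Cfsg.functorTower W (S : Subgroup G) T i : Subgroup G) : Set G)

theorem normalizer_le_normalizer_functor (hW : Cfsg.IsConjugacyFunctor p W) {P : Subgroup G} (hP : IsPGroup p P) :
    Subgroup.normalizer (P : Set G) ≤ Subgroup.normalizer ((W P : Subgroup G) : Set G) := by
  intro g hg
  rw [← conjG_eq_iff] at hg ⊢
  rw [← (hW P hP).2.2 g, hg]

theorem functorTower_le (hW : Cfsg.IsConjugacyFunctor p W) {T : Subgroup G} (hT : T ≤ (S : Subgroup G)) :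
    ∀ i, Cfsg.functorTower W (S : Subgroup G) T i ≤ (S : Subgroup G)
  | 0 => hT
  | _ + 1 => ((hW _ (isPGroup_sylow_inf S _)).1).trans inf_le_left

theorem functorTower_le_towerNorm (hW : Cfsg.IsConjugacyFunctor p W) {T : Subgroup G}
    (hT : T ≤ (S : Subgroup G)) (i : ℕ) : Cfsg.functorTower W (S : Subgroup G) T i ≤ towerNorm S W T i :=
  le_inf (functorTower_le S hW hT i) Subgroup.le_normalizer

theorem towerNorm_mono (hW : Cfsg.IsConjugacyFunctor p W) (T : Subgroup G) :
    Monotone (towerNorm S W T) :=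
  monotone_nat_of_le_succ fun i => le_inf inf_le_left
    (Subgroup.le_normalizer.trans (normalizer_le_normalizer_functor hW (isPGroup_sylow_inf S _)))

theorem le_towerNorm (hW : Cfsg.IsConjugacyFunctor p W) {T : Subgroup G}
    (hT : T ≤ (S : Subgroup G)) (i : ℕ) : T ≤ towerNorm S W T i :=
  (functorTower_le_towerNorm S hW hT 0).trans (towerNorm_mono S hW T (Nat.zero_le i))

theorem functorTower_ne_bot (hW : Cfsg.IsConjugacyFunctor p W) {T : Subgroup G}
    (hT : T ≤ (S : Subgroup G)) (hne : T ≠ ⊥) : ∀ i, Cfsg.functorTower W (S : Subgroup G) T i ≠ ⊥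
  | 0 => hne
  | i + 1 => (hW _ (isPGroup_sylow_inf S _)).2.1
      fun h => hne (le_bot_iff.mp ((le_towerNorm S hW hT i).trans h.le))

theorem functorTower_add (T : Subgroup G) (i : ℕ) : ∀ j,
    Cfsg.functorTower W (S : Subgroup G) (Cfsg.functorTower W (S : Subgroup G) T i) j =
      Cfsg.functorTower W (S : Subgroup G) T (i + j)
  | 0 => rfl
  | j + 1 => by
    show W _ = W _
    rw [functorTower_add T i j]; rfl

theorem isWellPlaced_functorTower (hW : Cfsg.IsConjugacyFunctor p W) {T : Subgroup G}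
    (h : Cfsg.IsWellPlaced p W (S : Subgroup G) T) (i : ℕ) :
    Cfsg.IsWellPlaced p W (S : Subgroup G) (Cfsg.functorTower W (S : Subgroup G) T i) :=
  ⟨functorTower_le S hW h.1 i, fun j => by rw [functorTower_add]; exact h.2 (i + j)⟩

/-- The tower becomes stationary, at a term normalized by `S`. -/
theorem exists_towerNorm_eq (hW : Cfsg.IsConjugacyFunctor p W) {T : Subgroup G} :
    ∃ i, i ≤ Nat.card G ∧ towerNorm S W T i = (S : Subgroup G) := by
  have hmono := towerNorm_mono S hW T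
  have hex : ∃ i, i ≤ Nat.card G ∧ towerNorm S W T (i + 1) = towerNorm S W T i := by
    by_contra hcon
    push Not at hcon
    have hgrow : ∀ i, i ≤ Nat.card G → i < Nat.card ↥(towerNorm S W T i) := by
      intro i
      induction i with
      | zero => intro _; exact Nat.card_pos
      | succ i ih =>
        intro hi
        have h1 : Nat.card ↥(towerNorm S W T i) < Nat.card ↥(towerNorm S W T (i + 1)) :=
          lt_of_not_ge fun hge => hcon i (by omega) (Subgroup.eq_of_le_of_card_ge (hmono (Nat.le_succ i)) hge).symm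
        have := ih (by omega)
        omega
    have h2 := hgrow _ le_rfl
    have h3 : Nat.card ↥(towerNorm S W T (Nat.card G)) ≤ Nat.card G := Subgroup.card_le_card_group _
    omega
  obtain ⟨i, hi, heq⟩ := hex
  refine ⟨i, hi, eq_sylow_of_inf_normalizer S inf_le_left ?_⟩
  exact le_trans (le_inf inf_le_left (inf_le_right.trans
    (normalizer_le_normalizer_functor hW (isPGroup_sylow_inf S _)))) heq.le

theorem exists_wellPlaced (hW : Cfsg.IsConjugacyFunctor p W) {T : Subgroup G} (hT : T ≤ (S : Subgroup G)) :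
    ∃ g : G, Cfsg.IsWellPlaced p W (S : Subgroup G) (T ^ᶜ g) := by
  suffices hkey : ∀ i, ∃ g : G, T ^ᶜ g ≤ (S : Subgroup G) ∧
      ∀ j < i, Extremal S (Cfsg.functorTower W (S : Subgroup G) (T ^ᶜ g) j) by
    obtain ⟨g, hgS, hg⟩ := hkey (Nat.card G + 1)
    refine ⟨g, hgS, fun j => ?_⟩
    rcases lt_or_ge j (Nat.card G + 1) with hj | hj
    · exact hg j hj
    · obtain ⟨i, hi, heq⟩ := exists_towerNorm_eq S hW (T := T ^ᶜ g)
      have h1 : ∀ k, i ≤ k → towerNorm S W (T ^ᶜ g) k = (S : Subgroup G) := fun k hk =>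
        le_antisymm inf_le_left (heq.ge.trans (towerNorm_mono S hW _ hk))
      show ¬ p ∣ (towerNorm S W (T ^ᶜ g) j).relIndex _
      rw [h1 j (by omega)]
      intro hdvd
      refine S.not_dvd_index (hdvd.trans (Subgroup.relIndex_dvd_index_of_le ?_))
      exact (h1 j (by omega)).ge.trans inf_le_right
  intro i
  induction i with
  | zero => exact ⟨1, by rwa [conjG_one], fun j hj => absurd hj (Nat.not_lt_zero j)⟩
  | succ i ih =>
    obtain ⟨g, hgS, hg⟩ := ih
    set V := Cfsg.functorTower W (S : Subgroup G) (T ^ᶜ g) with hVdef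
    obtain ⟨a, haS, haE⟩ := exists_extremal S (functorTower_le S hW hgS i)
    obtain ⟨h, hh1, hh2⟩ := haE.exists_conjG S rfl
    have hmono := towerNorm_mono S hW (T ^ᶜ g)
    have hPi : ∀ j ≤ i, (towerNorm S W (T ^ᶜ g) j) ^ᶜ h ≤ (S : Subgroup G) := fun j hj =>
      (Subgroup.map_mono (hmono hj)).trans (hh2.trans inf_le_left)
    have hT' : T ^ᶜ (h * g) ≤ (S : Subgroup G) := by
      rw [← conjG_conjG]
      exact (Subgroup.map_mono (le_towerNorm S hW hgS i)).trans (hPi i le_rfl)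
    have hkey : ∀ j ≤ i, Cfsg.functorTower W (S : Subgroup G) (T ^ᶜ (h * g)) j = (V j) ^ᶜ h ∧
        (j < i → towerNorm S W (T ^ᶜ (h * g)) j = (towerNorm S W (T ^ᶜ g) j) ^ᶜ h) := by
      intro j
      induction j with
      | zero =>
        intro h0
        have e : Cfsg.functorTower W (S : Subgroup G) (T ^ᶜ (h * g)) 0 = (V 0) ^ᶜ h := (conjG_conjG T h g).symm
        refine ⟨e, fun hj => ?_⟩
        have h1 := (Extremal.isSylowIn S (hg 0 hj)).map_conj h
        rw [← normalizer_map_conj, ← e] at h1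
        exact h1.2.2 _ inf_le_right (isPGroup_sylow_inf S _) (le_inf (hPi 0 h0) h1.1)
      | succ j ihj =>
        intro hj'
        have e : Cfsg.functorTower W (S : Subgroup G) (T ^ᶜ (h * g)) (j + 1) = (V (j + 1)) ^ᶜ h := by
          show W (towerNorm S W (T ^ᶜ (h * g)) j) = (W (towerNorm S W (T ^ᶜ g) j)) ^ᶜ h
          rw [(ihj (by omega)).2 (by omega)]
          exact (hW _ (isPGroup_sylow_inf S _)).2.2 h
        refine ⟨e, fun hj => ?_⟩
        have h1 := (Extremal.isSylowIn S (hg (j + 1) hj)).map_conj h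
        rw [← normalizer_map_conj, ← e] at h1
        exact h1.2.2 _ inf_le_right (isPGroup_sylow_inf S _) (le_inf (hPi (j + 1) hj') h1.1)
    refine ⟨h * g, hT', fun j hj => ?_⟩
    rcases Nat.lt_or_ge j i with hji | hji
    · have h1 := (Extremal.isSylowIn S (hg j hji)).map_conj h
      rw [← normalizer_map_conj, ← (hkey j hji.le).2 hji, ← (hkey j hji.le).1] at h1
      exact not_dvd_relIndex h1
    · have : j = i := by omega
      subst this
      rw [(hkey j le_rfl).1, hh1]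
      exact haE

theorem isConjugationFamily_wellPlaced (hW : Cfsg.IsConjugacyFunctor p W) :
    Cfsg.IsConjugationFamily {T : Subgroup G | Cfsg.IsWellPlaced p W (S : Subgroup G) T} (S : Subgroup G) :=
  isConjugationFamily_of_extremal S _ (fun U hU => hU.1) fun T hT => by
    obtain ⟨g, hg⟩ := exists_wellPlaced S hW hT
    exact ⟨g, hg, hg.2 0⟩

end CfsgLib.KGroups.Functor
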