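import Mathlib.GroupTheory.FixedPointFree
import Mathlib.GroupTheory.SpecificGroups.KleinFour
import Mathlib.GroupTheory.Subgroup.Simple
import Mathlib.Algebra.Group.Subgroup.Basic
import Mathlib.GroupTheory.Subgroup.Centralizer
import Mathlib.GroupTheory.OrderOfElement

/-!
An involution conjugate to the other involutions of a four-group and centralizing no proper normal subgroup.
-/

set_option autoImplicit false

namespace CfsgLib.KGroups.Functor

variable {H : Type*} [Group H] [Finite H]

theorem eq_bot_of_proper (z : H) (hz : orderOf z = 2)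
    (hN : ∀ N : Subgroup H, N.Normal → N ≠ ⊤ → N ⊓ Subgroup.centralizer ({z} : Set H) = ⊥) (E : Subgroup H)
    (hE : IsKleinFour ↥E) (hzE : z ∈ E) (hc : ∀ e ∈ E, e ≠ 1 → IsConj z e) (N : Subgroup H) [N.Normal]
    (hne : N ≠ ⊤) : N = ⊥ := by
  have hinv : ∀ e ∈ E, e ≠ 1 → ∀ n ∈ N, e * n * e⁻¹ = n⁻¹ := by
    intro e he he1 n hn
    obtain ⟨g, hg⟩ := isConj_iff.mp (hc e he he1)
    have he2 : e * e = 1 := by
      rw [← hg]
      have : z * z = 1 := by rw [← sq, ← hz, pow_orderOf_eq_one]
      simp [mul_assoc, ← mul_assoc z z, this]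
    set φ : N ≃* N := MulAut.conjNormal e
    have hfpf : MonoidHom.FixedPointFree φ.toMonoidHom := by
      intro x hx
      have hx' : e * (x : H) * e⁻¹ = x := by
        have := congrArg Subtype.val hx
        simpa [φ, MulAut.conjNormal_apply] using this
      have hmem : g⁻¹ * x * g ∈ N ⊓ Subgroup.centralizer ({z} : Set H) := by
        refine ⟨by simpa using (inferInstance : N.Normal).conj_mem _ x.2 g⁻¹, ?_⟩
        refine Subgroup.mem_centralizer_iff.mpr fun y hy => ?_
        rw [Set.mem_singleton_iff.mp hy]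
        rw [← hg] at hx'
        have h2 : z * (g⁻¹ * x * g) * z⁻¹ = g⁻¹ * x * g := by
          calc z * (g⁻¹ * x * g) * z⁻¹ = g⁻¹ * ((g * z * g⁻¹) * x * (g * z * g⁻¹)⁻¹) * g := by simp [mul_assoc]
            _ = _ := by rw [hx']
        exact mul_inv_eq_iff_eq_mul.mp h2
      rw [hN N inferInstance hne, Subgroup.mem_bot] at hmem
      apply Subtype.ext
      calc (x : H) = g * (g⁻¹ * x * g) * g⁻¹ := by simp [mul_assoc]
        _ = 1 := by rw [hmem]; simp
    have hinvol : Function.Involutive φ.toMonoidHom := fun x => by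
      apply Subtype.ext
      show e * (e * (x : H) * e⁻¹) * e⁻¹ = x
      calc e * (e * (x : H) * e⁻¹) * e⁻¹ = (e * e) * x * (e * e)⁻¹ := by simp [mul_assoc]
        _ = x := by rw [he2]; simp
    have := congrFun (MonoidHom.FixedPointFree.coe_eq_inv_of_involutive hfpf hinvol) ⟨n, hn⟩
    exact congrArg Subtype.val this
  obtain ⟨e, he, he1, hez⟩ : ∃ e ∈ E, e ≠ 1 ∧ e ≠ z := by
    by_contra hcon
    push Not at hcon
    have hfin : Nat.card E ≤ 2 := by
      have hsub : (E : Set H) ⊆ {1, z} := fun e he => by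
        by_cases h1 : e = 1
        · exact Or.inl h1
        · exact Or.inr (hcon e he h1)
      have := Set.ncard_le_ncard hsub (Set.toFinite _)
      rw [← Nat.card_coe_set_eq] at this
      refine this.trans ((Set.ncard_insert_le _ _).trans ?_)
      simp
    have := hE.card_four
    omega
  refine (Subgroup.eq_bot_iff_forall N).mpr fun n hn => ?_
  have hz1 : z ≠ 1 := fun h => by rw [h, orderOf_one] at hz; omega
  have h1 := hinv z hzE hz1 n hn
  have hze : e * z ≠ 1 := fun h => hez (by
    have hz2 : z * z = 1 := by rw [← sq, ← hz, pow_orderOf_eq_one]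
    rw [mul_eq_one_iff_eq_inv.mp h, inv_eq_of_mul_eq_one_right hz2])
  have h2 := hinv (e * z) (E.mul_mem he hzE) hze n hn
  have h3 : (e * z) * n * (e * z)⁻¹ = n := by
    calc (e * z) * n * (e * z)⁻¹ = e * (z * n * z⁻¹) * e⁻¹ := by simp [mul_assoc]
      _ = e * n⁻¹ * e⁻¹ := by rw [h1]
      _ = n := by rw [hinv e he he1 _ (N.inv_mem hn), inv_inv]
  have hmem : n ∈ N ⊓ Subgroup.centralizer ({z} : Set H) := by
    refine ⟨hn, Subgroup.mem_centralizer_iff.mpr fun y hy => ?_⟩
    rw [Set.mem_singleton_iff.mp hy]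
    have hnn : n⁻¹ = n := h2.symm.trans h3
    exact mul_inv_eq_iff_eq_mul.mp (h1.trans hnn)
  rw [hN N inferInstance hne, Subgroup.mem_bot] at hmem
  exact hmem

theorem eq_bot_of_abelian (z : H) (hz : orderOf z = 2)
    (hN : ∀ N : Subgroup H, N.Normal → N ≠ ⊤ → N ⊓ Subgroup.centralizer ({z} : Set H) = ⊥) (E : Subgroup H)
    (hE : IsKleinFour ↥E) (hzE : z ∈ E) (hc : ∀ e ∈ E, e ≠ 1 → IsConj z e) (N : Subgroup H) [N.Normal]
    (hab : IsMulCommutative ↥N) : N = ⊥ := by
  refine eq_bot_of_proper z hz hN E hE hzE hc N fun htop => ?_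
  subst htop
  have hcard := hE.card_four
  have hsub : (E : Set H) ⊆ {1, z} := fun e he => by
    by_cases h1 : e = 1
    · exact Or.inl h1
    · obtain ⟨g, hg⟩ := isConj_iff.mp (hc e he h1)
      refine Or.inr ?_
      rw [Set.mem_singleton_iff, ← hg,
        show g * z = z * g from congrArg Subtype.val (mul_comm' (⟨g, trivial⟩ : (⊤ : Subgroup H)) ⟨z, trivial⟩),
        mul_inv_cancel_right]
  have := Set.ncard_le_ncard hsub (Set.toFinite _)
  rw [← Nat.card_coe_set_eq] at this
  have h2 := this.trans (Set.ncard_insert_le _ _)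
  simp at h2

theorem isSimple_of_klein (z : H) (hz : orderOf z = 2)
    (hN : ∀ N : Subgroup H, N.Normal → N ≠ ⊤ → N ⊓ Subgroup.centralizer ({z} : Set H) = ⊥) (E : Subgroup H)
    (hE : IsKleinFour ↥E) (hzE : z ∈ E) (hc : ∀ e ∈ E, e ≠ 1 → IsConj z e) : IsSimpleGroup H :=
  { exists_pair_ne := ⟨z, 1, fun h => by rw [h, orderOf_one] at hz; omega⟩
    eq_bot_or_eq_top_of_normal := fun N hn => by
      by_cases h : N = ⊤
      · exact Or.inr h
      · exact Or.inl (eq_bot_of_proper z hz hN E hE hzE hc N h) }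

end CfsgLib.KGroups.Functor
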