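import Cfsg.Agent.Lib.KGroups.Functor.Quadratic
import Mathlib.GroupTheory.GroupAction.ConjAct

/-!
The K-infinity functors, and their normality when no small-degree element exists.
-/

set_option autoImplicit false
set_option linter.unusedSectionVars false

namespace CfsgLib.KGroups.Functor

open Cfsg CfsgLib.KGroups.KInfinity

universe u

theorem kInf_map_equiv {P Q : Type u} [Group P] [Group Q] [Finite P] (φ : P ≃* Q) :
    (kInfLower P).map φ.toMonoidHom = kInfLower Q ∧ (kInfUpper P).map φ.toMonoidHom = kInfUpper Q := by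
  have : Finite Q := Finite.of_equiv P φ.toEquiv
  refine map_kInf φ.injective fun n => ?_
  rw [MonoidHom.range_eq_top.mpr φ.surjective]
  exact ⟨le_top, le_top⟩

theorem characteristic_kInf {P : Type u} [Group P] [Finite P] :
    (kInfLower P).Characteristic ∧ (kInfUpper P).Characteristic :=
  ⟨Subgroup.characteristic_iff_map_eq.mpr fun φ => (kInf_map_equiv φ).1,
    Subgroup.characteristic_iff_map_eq.mpr fun φ => (kInf_map_equiv φ).2⟩

theorem ne_bot_of_centralizer_le {P : Type u} [Group P] [Nontrivial P] {K : Subgroup P}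
    (h : Subgroup.centralizer (K : Set P) ≤ K) : K ≠ ⊥ := by
  rintro rfl
  obtain ⟨x, hx⟩ := exists_ne (1 : P)
  exact hx (Subgroup.mem_bot.mp (h (by simp [Subgroup.mem_centralizer_iff])))

theorem isCharPFunctor_kInfLower (p : ℕ) [Fact p.Prime] :
    Cfsg.IsCharPFunctor.{u} p Cfsg.kInfLower := by
  refine ⟨fun Q _ _ hQ _ => ne_bot_of_centralizer_le (centralizer_kInfLower_le hQ), ?_⟩
  exact fun Q R _ _ _ _ φ => (kInf_map_equiv φ).1

theorem isCharPFunctor_kInfUpper (p : ℕ) [Fact p.Prime] :
    Cfsg.IsCharPFunctor.{u} p Cfsg.kInfUpper := by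
  refine ⟨fun Q _ _ hQ _ => ne_bot_of_centralizer_le (centralizer_kInfUpper_le hQ), ?_⟩
  exact fun Q R _ _ _ _ φ => (kInf_map_equiv φ).2

/-- If the two K-sequences of `S` stay inside a normal subgroup, the K-infinity subgroups are normal. -/
theorem normal_inducedFunctor_kInf {G : Type u} [Group G] [Finite G] {S T : Subgroup G} [T.Normal] (hTS : T ≤ S)
    (h : ∀ n : ℕ, (kSeqEven S n).map S.subtype ≤ T ∧ (kSeqOdd S (n + 1)).map S.subtype ≤ T) :
    (Cfsg.inducedFunctor Cfsg.kInfLower S).Normal ∧ (Cfsg.inducedFunctor Cfsg.kInfUpper S).Normal := by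
  have hr : ∀ K : Subgroup S, K.map S.subtype ≤ T → K ≤ (Subgroup.inclusion hTS).range := by
    intro K hK x hx
    exact ⟨⟨x, hK ⟨x, hx, rfl⟩⟩, rfl⟩
  obtain ⟨e1, e2⟩ := map_kInf (f := Subgroup.inclusion hTS) (Subgroup.inclusion_injective hTS)
    fun n => ⟨hr _ (h n).1, hr _ (h n).2⟩
  have hcomp : S.subtype.comp (Subgroup.inclusion hTS) = T.subtype := by ext; rfl
  have := (characteristic_kInf (P := T)).1
  have := (characteristic_kInf (P := T)).2
  constructor
  · show ((kInfLower S).map S.subtype).Normal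
    rw [← e1, Subgroup.map_map, hcomp]
    exact ConjAct.normal_of_characteristic_of_normal
  · show ((kInfUpper S).map S.subtype).Normal
    rw [← e2, Subgroup.map_map, hcomp]
    exact ConjAct.normal_of_characteristic_of_normal

namespace Quadratic

variable {G : Type u} [Group G] [Finite G] {p : ℕ} [Fact p.Prime] {S : Sylow p G} {A : Subgroup G} [A.Normal]

theorem exists_small (hAT : A ≤ Cfsg.pCore p G) (hA2 : ⁅A, A⁆ ≤ Z A) (hA3 : ⁅Cfsg.pCore p G, A⁆ ≤ Z A)
    (hA5 : Subgroup.centralizer (Cfsg.pCore p G : Set G) ≤ Cfsg.pCore p G →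
      ∀ d : G, (orderOf d).Coprime p → d ∈ Subgroup.centralizer (A : Set G) → d = 1)
    (hK : ¬ (Cfsg.inducedFunctor Cfsg.kInfLower (S : Subgroup G)).Normal ∨
      ¬ (Cfsg.inducedFunctor Cfsg.kInfUpper (S : Subgroup G)).Normal) : ∃ g : G, Small S A g := by
  by_contra hcon
  push Not at hcon
  set T := Cfsg.pCore p G with hT
  set P := (S : Subgroup G) with hP
  have hTS : T ≤ P := Solvable.Cores.pCore_le_sylow S
  have hf : Function.Injective P.subtype := P.subtype_injective
  have hcomap : (A.subgroupOf P).map P.subtype = A := Subgroup.map_subgroupOf_eq_of_le (hAT.trans hTS)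
  have hmapLe : ∀ K : Subgroup P, K.map P.subtype ≤ P := fun K => Subgroup.map_subtype_le K
  have heven : ∀ n, A ≤ (kSeqOdd P n).map P.subtype → (kSeqEven P n).map P.subtype ≤ T := by
    intro n hn
    rw [Subgroup.map_le_iff_le_comap]
    exact sSup_le fun B hB => Subgroup.map_le_iff_le_comap.mp
      (lower_le hAT hA2 hA3 hA5 hcon hn (hmapLe B) ((map_mem_lower hf B _).mpr hB))
  have hodd : ∀ n, A ≤ (kSeqOdd P n).map P.subtype := by
    intro n
    induction n with
    | zero => rw [kSeqOdd, ← MonoidHom.range_eq_map, Subgroup.range_subtype]; exact hAT.trans hTS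
    | succ n ih =>
      have h1 : A.subgroupOf P ∈ kUpperStarFamily (kSeqEven P n) := by
        rw [← map_mem_upper hf, hcomap]
        refine ⟨mem_classTwo_iff.mpr hA2, ?_⟩
        rw [Subgroup.commutator_comm]
        exact (Subgroup.commutator_mono (heven n ih) le_rfl).trans hA3
      rw [kSeqOdd_succ, ← hcomap]
      exact Subgroup.map_mono (le_sSup h1)
  have hAE : ∀ n, A ≤ (kSeqEven P n).map P.subtype := by
    intro n
    have h1 : A.subgroupOf P ∈ kLowerStarFamily (kSeqOdd P n) := by
      rw [← map_mem_lower hf, hcomap]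
      exact mem_lower hAT hA2 hA3 hA5 hcon (hmapLe _)
    rw [kSeqEven, ← hcomap]
    exact Subgroup.map_mono (le_sSup h1)
  have := normal_inducedFunctor_kInf hTS fun n => ⟨heven n (hodd n), by
    rw [kSeqOdd_succ, Subgroup.map_le_iff_le_comap]
    exact sSup_le fun B hB => Subgroup.map_le_iff_le_comap.mp
      (upper_le hAT hA5 hcon (hAE n) (hmapLe B) ((map_mem_upper hf B _).mpr hB))⟩
  rcases hK with h | h
  · exact h this.1
  · exact h this.2

end Quadratic

end CfsgLib.KGroups.Functor
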