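import Cfsg.Agent.Lib.KGroups.Functor.Section
import Cfsg.Agent.Lib.KGroups.CharP
import Cfsg.Agent.Lib.Fusion.Basic

/-!
Fusion in a group from fusion in factors and in quotients.
-/

set_option autoImplicit false
set_option linter.unusedSectionVars false

namespace CfsgLib.KGroups.Functor

open CfsgLib.LocalEven.SylowIn

variable {G : Type*} [Group G] [Finite G] {p : ℕ} [Fact p.Prime] (S : Sylow p G)

theorem isSylowIn_of_le {H : Subgroup G} (h : (S : Subgroup G) ≤ H) : IsSylowIn p (S : Subgroup G) H :=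
  ⟨h, S.2, fun _ _ hU hSU => S.3 hU hSU⟩

/-- A subgroup of a product of `P` and a normal `p'`-subgroup. -/
theorem exists_conj_le_of_le_sup {N P U K : Subgroup G} [N.Normal] (hN : (Nat.card N).Coprime p)
    (hP : IsPGroup p P) (hU : IsPGroup p U) (hPK : P ≤ K) (hUK : U ≤ K) (hUP : U ≤ P ⊔ N) :
    ∃ m ∈ N ⊓ K, U ^ᶜ m ≤ P := by
  have hSyl : IsSylowIn p P (K ⊓ (P ⊔ N)) := by
    refine ⟨le_inf hPK le_sup_left, hP, fun V hV hVp hPV => le_antisymm ?_ hPV⟩
    intro v hv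
    have hv' : v ∈ ((N ⊔ P : Subgroup G) : Set G) := by rw [sup_comm]; exact (hV hv).2
    rw [Subgroup.normal_mul] at hv'
    obtain ⟨m, hm, u, hu, rfl⟩ := hv'
    have hmV : m ∈ V ⊓ N := ⟨by simpa using V.mul_mem hv (V.inv_mem (hPV hu)), hm⟩
    rw [Fusion.Basic.inf_eq_bot_of_coprime hVp hN, Subgroup.mem_bot] at hmV
    simpa [hmV] using hu
  obtain ⟨V, hV, hUV⟩ := exists_isSylowIn (p := p) (K ⊓ (P ⊔ N)) (le_inf hUK hUP) hU
  obtain ⟨k, hk, hVk⟩ := hV.conjugate hSyl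
  have hk' : k ∈ ((P ⊔ N : Subgroup G) : Set G) := hk.2
  rw [Subgroup.mul_normal] at hk'
  obtain ⟨u, hu, m, hm, rfl⟩ := hk'
  refine ⟨m, ⟨hm, ?_⟩, ?_⟩
  · simpa using K.mul_mem (K.inv_mem (hPK hu)) hk.1
  · have h1 : (U ^ᶜ m) ^ᶜ u ≤ P := by rw [conjG_conjG, hVk]; exact Subgroup.map_mono hUV
    have h2 := Subgroup.map_mono (f := (MulAut.conj u⁻¹).toMonoidHom) h1
    rw [conjG_inv_conjG] at h2
    rwa [conjG_eq_iff.mpr (Subgroup.le_normalizer (P.inv_mem hu))] at h2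

theorem map_conjG {H : Type*} [Group H] (φ : G →* H) (A : Subgroup G) (g : G) :
    (A ^ᶜ g).map φ = (A.map φ) ^ᶜ (φ g) := by
  rw [Subgroup.map_map, Subgroup.map_map]
  congr 1
  ext x
  simp

/-- The normalizer of the image of a `p`-subgroup modulo a normal `p'`-subgroup. -/
theorem exists_normalizer_lift {H : Type*} [Group H] (φ : G →* H) (hφ : Function.Surjective φ)
    (hker : (Nat.card φ.ker).Coprime p) {P : Subgroup G} (hP : IsPGroup p P) {x : H}
    (hx : x ∈ Subgroup.normalizer (P.map φ : Set H)) : ∃ n ∈ Subgroup.normalizer (P : Set G), φ n = x := by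
  obtain ⟨g, rfl⟩ := hφ x
  have h1 : P ^ᶜ g ≤ P ⊔ φ.ker := by
    rw [← Subgroup.comap_map_eq, ← Subgroup.map_le_iff_le_comap, map_conjG, conjG_eq_iff.mpr hx]
  obtain ⟨m, hm, hm'⟩ := exists_conj_le_of_le_sup hker hP (hP.map _) le_top le_top h1
  rw [conjG_conjG] at hm'
  refine ⟨m * g, conjG_eq_iff.mp (Subgroup.eq_of_le_of_card_ge hm' (card_conjG _ _).ge), ?_⟩
  rw [map_mul, MonoidHom.mem_ker.mp hm.1, one_mul]

/-- Fusion in a product `X Y` of subgroups containing `S`. -/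
theorem exists_factor {X Y : Subgroup G} (hX : (S : Subgroup G) ≤ X) (hY : (S : Subgroup G) ≤ Y)
    {A : Subgroup G} {x y : G} (hx : x ∈ X) (hy : y ∈ Y) (hA : A ≤ (S : Subgroup G))
    (hxy : A ^ᶜ (x * y) ≤ (S : Subgroup G)) :
    ∃ x' ∈ X, ∃ y' ∈ Y, x * y = x' * y' ∧ A ^ᶜ y' ≤ (S : Subgroup G) := by
  have h1 : A ^ᶜ y ≤ X := by
    have := Subgroup.map_mono (f := (MulAut.conj x⁻¹).toMonoidHom) (hxy.trans hX)
    rwa [conjG_conjG, inv_mul_cancel_left, conjG_eq_iff.mpr (Subgroup.le_normalizer (X.inv_mem hx))] at this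
  have h2 : A ^ᶜ y ≤ Y := by
    have := Subgroup.map_mono (f := (MulAut.conj y).toMonoidHom) (hA.trans hY)
    rwa [conjG_eq_iff.mpr (Subgroup.le_normalizer hy)] at this
  obtain ⟨V, hV, hAV⟩ := exists_isSylowIn (p := p) (X ⊓ Y) (le_inf h1 h2) ((isPGroup_of_le S hA).map _)
  obtain ⟨m, hm, hVm⟩ := hV.conjugate (isSylowIn_of_le S (le_inf hX hY))
  refine ⟨x * m⁻¹, X.mul_mem hx (X.inv_mem hm.1), m * y, Y.mul_mem hm.2 hy, by simp [mul_assoc], ?_⟩
  rw [← conjG_conjG, hVm]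
  exact Subgroup.map_mono hAV

/-- Chains in a quotient lift. -/
theorem exists_lift {H : Type*} [Group H] (φ : G →* H) {P : Subgroup G} {R : Subgroup G → G → Prop}
    {R' : Subgroup H → H → Prop}
    (hstep : ∀ (B : Subgroup G) (x : H), B ≤ P → R' (B.map φ) x →
      ∃ g : G, φ g = x ∧ Agrees R B g ∧ B ^ᶜ g ≤ P)
    {C : Subgroup H} {x : H} (h : Chain R' C x) :
    ∀ B : Subgroup G, B ≤ P → B.map φ = C → ∃ g : G, φ g = x ∧ Agrees R B g ∧ B ^ᶜ g ≤ P := by
  induction h with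
  | refl C => exact fun B hB _ => ⟨1, map_one φ, (Chain.refl B).agrees, by rwa [conjG_one]⟩
  | @step C y g hy _ ih =>
    rintro B hB rfl
    obtain ⟨a, rfl, ha, haP⟩ := hstep B y hB hy
    obtain ⟨b, rfl, hb, hbP⟩ := ih _ haP (map_conjG φ B a)
    exact ⟨b * a, map_mul φ b a, ha.trans hb, by rwa [← conjG_conjG]⟩

theorem injOn_sylow {H : Type*} [Group H] (φ : G →* H) (hker : (Nat.card φ.ker).Coprime p) {P : Subgroup G}
    (hP : IsPGroup p P) : Set.InjOn φ P := by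
  intro a ha b hb hab
  have h : a * b⁻¹ ∈ P ⊓ φ.ker :=
    ⟨P.mul_mem ha (P.inv_mem hb), show φ (a * b⁻¹) = 1 by rw [map_mul, map_inv, hab, mul_inv_cancel]⟩
  rw [Fusion.Basic.inf_eq_bot_of_coprime hP hker, Subgroup.mem_bot] at h
  exact mul_inv_eq_one.mp h

/-- An automorphism stabilizing a normal `p`-subgroup `T`, centralized by the elements of order prime to `p`,
is induced by an element of `S`. -/
theorem exists_mem_sylow_agree {T A : Subgroup G} [T.Normal] (hT : IsPGroup p T)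
    (hcen : ∀ q : G, (orderOf q).Coprime p → q ∈ Subgroup.centralizer (T : Set G))
    (hA : Extremal S A) {y : G} (hy : y ∈ Subgroup.normalizer (A : Set G))
    (hyT : ∀ a ∈ A, y * a * y⁻¹ * a⁻¹ ∈ T) :
    ∃ s ∈ (S : Subgroup G) ⊓ Subgroup.normalizer (A : Set G), ∀ a ∈ A, y * a * y⁻¹ = s * a * s⁻¹ := by
  set N := Subgroup.normalizer (A : Set G) with hN
  let Y : Subgroup G :=
    { carrier := {z | z ∈ N ∧ ∀ a ∈ A, z * a * z⁻¹ * a⁻¹ ∈ T}
      one_mem' := ⟨one_mem _, fun a _ => by simp [one_mem]⟩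
      mul_mem' := by
        rintro z w ⟨hz, hz'⟩ ⟨hw, hw'⟩
        refine ⟨N.mul_mem hz hw, fun a ha => ?_⟩
        have h1 := hz' _ ((Subgroup.mem_normalizer_iff.mp hw a).mp ha)
        simpa [mul_assoc] using T.mul_mem h1 (hw' a ha)
      inv_mem' := by
        rintro z ⟨hz, hz'⟩
        refine ⟨N.inv_mem hz, fun a ha => ?_⟩
        have h1 := hz' _ ((Subgroup.mem_normalizer_iff.mp (N.inv_mem hz) a).mp ha)
        simpa [mul_assoc] using T.inv_mem h1 }
  have hYN : Y ≤ N := fun z hz => hz.1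
  have hnorm : ∀ n ∈ N, ∀ z ∈ Y, n * z * n⁻¹ ∈ Y := by
    rintro n hn z ⟨hz, hz'⟩
    refine ⟨N.mul_mem (N.mul_mem hn hz) (N.inv_mem hn), fun a ha => ?_⟩
    have h1 := hz' _ ((Subgroup.mem_normalizer_iff.mp (N.inv_mem hn) a).mp ha)
    simpa [mul_assoc] using (inferInstance : T.Normal).conj_mem _ h1 n
  have hfix : ∀ q : Y, (orderOf q).Coprime p → ∀ a ∈ A, (q : G) * a * (q : G)⁻¹ = a := by
    intro q hq a ha
    have hq' : (orderOf (q : G)).Coprime p := by rwa [Subgroup.orderOf_coe]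
    obtain ⟨t, ht, hta⟩ : ∃ t ∈ T, (q : G) * a * (q : G)⁻¹ = t * a :=
      ⟨_, q.2.2 a ha, (inv_mul_cancel_right _ _).symm⟩
    have hqt : (q : G) * t = t * q := (Subgroup.mem_centralizer_iff.mp (hcen _ hq') t ht).symm
    have hit : ∀ i : ℕ, (q : G) ^ i * a * ((q : G) ^ i)⁻¹ = t ^ i * a := by
      intro i
      induction i with
      | zero => simp
      | succ i ih =>
        have h1 : (q : G) * t ^ i * (q : G)⁻¹ = t ^ i := by
          rw [(Commute.pow_right hqt i).eq, mul_inv_cancel_right]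
        calc (q : G) ^ (i + 1) * a * ((q : G) ^ (i + 1))⁻¹
            = q * ((q : G) ^ i * a * ((q : G) ^ i)⁻¹) * (q : G)⁻¹ := by rw [pow_succ']; simp [mul_assoc]
          _ = (q * t ^ i * (q : G)⁻¹) * (q * a * (q : G)⁻¹) := by rw [ih]; simp [mul_assoc]
          _ = t ^ (i + 1) * a := by rw [h1, hta, ← mul_assoc, ← pow_succ]
    have h2 := hit (orderOf (q : G))
    rw [pow_orderOf_eq_one, one_mul, inv_one, mul_one, right_eq_mul] at h2
    obtain ⟨k, hk⟩ := hT ⟨t, ht⟩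
    have ht1 := CharP.eq_one_of_pow_coprime hq' h2 (k := k) (by simpa using congrArg Subtype.val hk)
    rw [hta, ht1, one_mul]
  -- `P ∩ Y` is a Sylow subgroup of `Y`
  have hSyl : IsSylowIn p (((S : Subgroup G) ⊓ N) ⊓ Y) Y := by
    refine ⟨inf_le_right, (isPGroup_sylow_inf S N).to_le inf_le_left, fun U hU hUp hPU => ?_⟩
    obtain ⟨V, hV, hUV⟩ := exists_isSylowIn (p := p) N (hU.trans hYN) hUp
    obtain ⟨n, hn, hVn⟩ := hV.conjugate hA.isSylowIn
    refine (Subgroup.eq_of_le_of_card_ge hPU ?_).symm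
    rw [← card_conjG U n]
    refine Subgroup.card_le_of_le (le_inf ?_ ?_)
    · rw [hVn]; exact Subgroup.map_mono hUV
    · rintro _ ⟨u, hu, rfl⟩
      exact hnorm n hn u (hU hu)
  obtain ⟨w, hw, u, hu, he⟩ := Fusion.Basic.exists_eq_pResidual_mul hSyl.toSylow (⟨y, hy, hyT⟩ : Y)
  have hu' : (u : G) ∈ ((S : Subgroup G) ⊓ N) ⊓ Y := hu
  refine ⟨u, hu'.1, fun a ha => ?_⟩
  have hwfix : ∀ a ∈ A, (w : G) * a * (w : G)⁻¹ = a := by
    clear he
    induction hw using Subgroup.closure_induction with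
    | mem z hz => exact hfix z hz
    | one => intro a _; simp
    | mul z₁ z₂ _ _ h1 h2 =>
      intro a ha
      calc ((z₁ * z₂ : Y) : G) * a * ((z₁ * z₂ : Y) : G)⁻¹
          = z₁ * ((z₂ : G) * a * (z₂ : G)⁻¹) * (z₁ : G)⁻¹ := by simp [mul_assoc]
        _ = a := by rw [h2 a ha, h1 a ha]
    | inv z _ h1 =>
      intro a ha
      have := congrArg (fun b => (z : G)⁻¹ * b * (z : G)) (h1 a ha)
      simpa [mul_assoc] using this.symm
  have hey : y = (w : G) * u := congrArg Subtype.val he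
  calc y * a * y⁻¹ = (w : G) * ((u : G) * a * (u : G)⁻¹) * (w : G)⁻¹ := by rw [hey]; simp [mul_assoc]
    _ = (u : G) * a * (u : G)⁻¹ := hwfix _ ((Subgroup.mem_normalizer_iff.mp hu'.1.2 a).mp ha)

end CfsgLib.KGroups.Functor
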