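import Cfsg.Agent.Lib.Fusion.Basic
import Mathlib.GroupTheory.Transfer
import Mathlib.GroupTheory.GroupAction.ConjAct

/-!
A normalizer whose p'-elements centralize a large p-subgroup has a normal p-complement.
-/

set_option autoImplicit false
set_option linter.unusedSectionVars false

namespace CfsgLib.KGroups.Functor

variable {G : Type*} [Group G] [Finite G] {p : ℕ} [Fact p.Prime]

theorem npc_normalizer_of_centralizes (S : Sylow p G) {T : Subgroup G}
    (hTn : (S : Subgroup G) ≤ Subgroup.normalizer (T : Set G))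
    (hC : (S : Subgroup G) ⊓ Subgroup.centralizer (T : Set G) ≤ T)
    (hN : ∀ g ∈ Subgroup.normalizer (T : Set G), (orderOf g).Coprime p → g ∈ Subgroup.centralizer (T : Set G)) :
    Cfsg.HasNormalPComplement p (Subgroup.normalizer (T : Set G)) := by
  set N := Subgroup.normalizer (T : Set G) with hNdef
  set C := (Subgroup.centralizer (T : Set G)).subgroupOf N with hCdef
  have hCn : C.Normal := ⟨by
    intro c hc n
    rw [hCdef, Subgroup.mem_subgroupOf, Subgroup.mem_centralizer_iff] at hc ⊢
    intro t ht
    have ht' : (n : G)⁻¹ * t * n ∈ T := (Subgroup.mem_normalizer_iff''.mp n.2 t).mp ht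
    show t * ((n : G) * c * (n : G)⁻¹) = (n : G) * c * (n : G)⁻¹ * t
    calc t * ((n : G) * c * (n : G)⁻¹) = (n : G) * (((n : G)⁻¹ * t * n) * c) * (n : G)⁻¹ := by simp [mul_assoc]
      _ = (n : G) * (c * ((n : G)⁻¹ * t * n)) * (n : G)⁻¹ := by rw [hc _ ht']
      _ = (n : G) * c * (n : G)⁻¹ * t := by simp [mul_assoc]⟩
  let S' : Sylow p N := S.subtype hTn
  have hP := Fusion.Basic.not_dvd_relIndex_of_normal S' C
  let P : Sylow p C := Fusion.Basic.sylowSubgroupOf inf_le_right (S'.2.to_le inf_le_left) hP
  have hPc : ∀ x ∈ (P : Subgroup C), ∀ c : C, c * x = x * c := by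
    intro x hx c
    rw [Fusion.Basic.coe_sylowSubgroupOf, Subgroup.mem_subgroupOf] at hx
    have hxT : ((x : N) : G) ∈ T := hC ⟨hx.1, x.2⟩
    exact Subtype.ext (Subtype.ext (Subgroup.mem_centralizer_iff.mp c.2 _ hxT).symm)
  have hle : Subgroup.normalizer ((P : Subgroup C) : Set C) ≤ Subgroup.centralizer ((P : Subgroup C) : Set C) :=
    fun c _ => Subgroup.mem_centralizer_iff.mpr fun x hx => (hPc x hx c).symm
  have hnpc : Cfsg.HasNormalPComplement p C :=
    ⟨P, _, inferInstance, MonoidHom.ker_transferSylow_isComplement' P hle⟩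
  set M := (Cfsg.pResidual p C).map C.subtype
  have hMn : M.Normal := ConjAct.normal_of_characteristic_of_normal
  refine Fusion.Basic.npc_of_isPGroup_quotient M ?_ ?_
  · rw [Subgroup.card_map_of_injective C.subtype_injective]
    exact Fusion.Basic.npc_iff_coprime.mp hnpc
  · intro q
    induction q using QuotientGroup.induction_on with
    | H x =>
      obtain ⟨k, hk⟩ := Fusion.Basic.exists_pow_coprime (p := p) x
      refine ⟨k, ?_⟩
      rw [← QuotientGroup.mk_pow, QuotientGroup.eq_one_iff]
      refine Fusion.Basic.mem_map_pResidual_of_coprime ?_ hk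
      exact hN _ (x ^ p ^ k).2 (by rw [orderOf_injective N.subtype N.subtype_injective]; exact hk)

end CfsgLib.KGroups.Functor
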