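import Cfsg.Agent.Lib.KGroups.Functor.ChiefAction

/-!
Degrees on the chief factors of a normal `p`-subgroup, from the degrees on a critical subgroup.
-/

set_option autoImplicit false
set_option linter.unusedSectionVars false

namespace CfsgLib.KGroups.Functor.PairDegree

open scoped commutatorElement

variable {G : Type*} [Group G] [Finite G] {p : ℕ} [Fact p.Prime]

theorem commutator_sup_normal_le (X N L : Subgroup G) [N.Normal] : ⁅X ⊔ N, L⁆ ≤ ⁅X, L⁆ ⊔ N := by
  rw [Subgroup.commutator_le]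
  intro c hc l hl
  obtain ⟨x, hx, n, hn, rfl⟩ := Subgroup.mem_sup_of_normal_right.mp hc
  have e : ⁅x * n, l⁆ = x * ⁅n, l⁆ * x⁻¹ * ⁅x, l⁆ := by simp [commutatorElement_def, mul_assoc]
  rw [e]
  refine Subgroup.mul_mem _ (Subgroup.mem_sup_right ((inferInstance : N.Normal).conj_mem _ ?_ x))
    (Subgroup.mem_sup_left (Subgroup.commutator_mem_commutator hx hl))
  exact Subgroup.commutator_le_left N (Subgroup.zpowers l)
    (Subgroup.commutator_mem_commutator hn (Subgroup.mem_zpowers l))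

theorem iterCommutator_sup_le (X N L : Subgroup G) [N.Normal] :
    ∀ n, Cfsg.iterCommutator (X ⊔ N) L n ≤ Cfsg.iterCommutator X L n ⊔ N
  | 0 => le_rfl
  | n + 1 => (Subgroup.commutator_mono (iterCommutator_sup_le X N L n) le_rfl).trans
      (commutator_sup_normal_le _ N L)

theorem iterCommutator_succ_le (X L : Subgroup G) [X.Normal] :
    ∀ n, Cfsg.iterCommutator X L (n + 1) ≤ Cfsg.iterCommutator X L n
  | 0 => Subgroup.commutator_le_left X L
  | n + 1 => Subgroup.commutator_mono (iterCommutator_succ_le X L n) le_rfl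

theorem iterCommutator_antitone (X L : Subgroup G) [X.Normal] : Antitone (Cfsg.iterCommutator X L) :=
  antitone_nat_of_succ_le (iterCommutator_succ_le X L)

theorem iterCommutator_mono {X Y : Subgroup G} (h : X ≤ Y) (L : Subgroup G) :
    ∀ n, Cfsg.iterCommutator X L n ≤ Cfsg.iterCommutator Y L n
  | 0 => h
  | n + 1 => Subgroup.commutator_mono (iterCommutator_mono h L n) le_rfl

/-- The filtration of `A / A'` by the powers of `L - 1`. -/
def fil (A A' L : Subgroup G) (s : ℕ) : Subgroup G := Cfsg.iterCommutator A L s ⊔ A'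

section Pairing

variable {W A A' B B' Q L : Subgroup G} [W.Normal] [A.Normal] [B.Normal] [A'.Normal] [B'.Normal]

/-- The pairing `W × A → B / B'` multiplies degrees. -/
theorem iterCommutator_pairing (hAA : A' ≤ A) (hBB : B' ≤ B) (hWA' : ⁅W, A'⁆ = ⊥) (hB : ⁅W, A⁆ ≤ B)
    (hcen : B ≤ Subgroup.centralizer (A : Set G)) (hab : B ≤ Subgroup.centralizer (B : Set G))
    (hact : ∀ x ∈ W, ∀ c ∈ B, x * c * x⁻¹ * c⁻¹ ∈ B') {i j : ℕ} (hi : Cfsg.iterCommutator A L i ≤ A')
    (hj : Cfsg.iterCommutator B L j ≤ B') :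
    ⁅Cfsg.iterCommutator W L (i + j - 1), A⁆ ≤ B' := by
  have hFA : ∀ s, fil A A' L s ≤ A := fun s =>
    sup_le ((iterCommutator_antitone A L (Nat.zero_le s)).trans le_rfl) hAA
  have hFB : ∀ t, fil B B' L t ≤ B := fun t =>
    sup_le ((iterCommutator_antitone B L (Nat.zero_le t)).trans le_rfl) hBB
  have hWm : ∀ m, Cfsg.iterCommutator W L m ≤ W := fun m => iterCommutator_antitone W L (Nat.zero_le m)
  have hconj : ∀ t, ∀ x ∈ W, ∀ c ∈ fil B B' L t, x * c * x⁻¹ ∈ fil B B' L t := by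
    intro t x hx c hc
    simpa [fil] using Subgroup.mul_mem _ (Subgroup.mem_sup_right (T := B') (hact x hx c (hFB t hc))) hc
  have hLB : ∀ t, ∀ c ∈ fil B B' L t, ∀ l ∈ L, ⁅c, l⁆ ∈ fil B B' L (t + 1) := fun t c hc l hl =>
    commutator_sup_normal_le _ B' L (Subgroup.commutator_mem_commutator hc hl)
  have hdecB : ∀ t, fil B B' L (t + 1) ≤ fil B B' L t := fun t =>
    sup_le_sup_right (iterCommutator_succ_le B L t) B'
  have hlB : ∀ t, ∀ c ∈ fil B B' L t, ∀ l ∈ L, l * c * l⁻¹ ∈ fil B B' L t := by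
    intro t c hc l hl
    have := Subgroup.mul_mem _ (Subgroup.inv_mem _ (hdecB t (hLB t c hc l hl))) hc
    simpa [commutatorElement_def, mul_assoc] using this
  have key : ∀ m s t, t + i ≤ s + m + 1 → ∀ w ∈ Cfsg.iterCommutator W L m, ∀ a ∈ fil A A' L s,
      ⁅w, a⁆ ∈ fil B B' L t := by
    intro m
    induction m with
    | zero =>
      intro s t hts w hw a ha
      rcases le_or_gt i s with hs | hs
      · have : a ∈ A' := sup_le ((iterCommutator_antitone A L hs).trans hi) le_rfl ha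
        have h1 : ⁅w, a⁆ ∈ (⊥ : Subgroup G) := hWA' ▸ Subgroup.commutator_mem_commutator hw this
        rw [Subgroup.mem_bot.mp h1]
        exact one_mem _
      · obtain rfl : t = 0 := by omega
        exact Subgroup.mem_sup_left (hB (Subgroup.commutator_mem_commutator hw (hFA s ha)))
    | succ m ih =>
      intro s t hts w hw a ha
      have hWmm : ∀ x ∈ Cfsg.iterCommutator W L m, x ∈ W := fun x hx => hWm m hx
      change w ∈ ⁅Cfsg.iterCommutator W L m, L⁆ at hw
      rw [Subgroup.commutator_def] at hw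
      have hwW : w ∈ W := by
        rw [← Subgroup.commutator_def] at hw
        exact hWm (m + 1) hw
      induction hw using Subgroup.closure_induction with
      | one => simp [one_mem]
      | mul y z hy hz ihy ihz =>
        have hyW : y ∈ W := hWm (m + 1) (by rw [← Subgroup.commutator_def] at hy; exact hy)
        have hzW : z ∈ W := hWm (m + 1) (by rw [← Subgroup.commutator_def] at hz; exact hz)
        have e : ⁅y * z, a⁆ = y * ⁅z, a⁆ * y⁻¹ * ⁅y, a⁆ := by simp [commutatorElement_def, mul_assoc]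
        rw [e]
        exact Subgroup.mul_mem _ (hconj t y hyW _ (ihz hzW)) (ihy hyW)
      | inv y hy ihy =>
        have hyW : y ∈ W := hWm (m + 1) (by rw [← Subgroup.commutator_def] at hy; exact hy)
        have e : ⁅y⁻¹, a⁆ = y⁻¹ * ⁅y, a⁆⁻¹ * y⁻¹⁻¹ := by simp [commutatorElement_def, mul_assoc]
        rw [e]
        exact hconj t _ (W.inv_mem hyW) _ (Subgroup.inv_mem _ (ihy hyW))
      | mem y hy =>
        obtain ⟨x, hx, l, hl, rfl⟩ := hy
        rcases Nat.eq_zero_or_pos t with rfl | htpos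
        · exact Subgroup.mem_sup_left (hB (Subgroup.commutator_mem_commutator hwW (hFA s ha)))
        obtain ⟨t, rfl⟩ := Nat.exists_eq_succ_of_ne_zero htpos.ne'
        set a'' := a⁻¹ * l⁻¹ * a * l with ha''
        have ha1 : a'' ∈ fil A A' L (s + 1) := by
          have := commutator_sup_normal_le (Cfsg.iterCommutator A L s) A' L
            (Subgroup.commutator_mem_commutator (Subgroup.inv_mem _ ha) (Subgroup.inv_mem _ hl))
          simpa [ha'', commutatorElement_def, mul_assoc, fil, Cfsg.iterCommutator] using this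
        have haA : a ∈ A := hFA s ha
        have h1 : ⁅x, a⁆ ∈ fil B B' L t := ih s t (by omega) x hx a ha
        have h2 : ⁅x⁻¹, a''⁆ ∈ fil B B' L (t + 1) :=
          ih (s + 1) (t + 1) (by omega) x⁻¹ (Subgroup.inv_mem _ hx) a'' ha1
        set c := ⁅x, a⁆ with hc
        set d := ⁅x⁻¹, a''⁆ with hd
        have hdA : a * d * a⁻¹ = d := by
          rw [Subgroup.mem_centralizer_iff.mp (hcen (hFB _ h2)) a haA, mul_inv_cancel_right]
        have e : ⁅⁅x, l⁆, a⁆ =
            x * (l * (x⁻¹ * c⁻¹ * x * d) * l⁻¹) * x⁻¹ * c := by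
          have e1 : ⁅⁅x, l⁆, a⁆ = x * (l * ⁅x⁻¹, a * a''⁆ * l⁻¹) * x⁻¹ * c := by
            simp [hc, ha'', commutatorElement_def, mul_assoc]
          have e2 : ⁅x⁻¹, a * a''⁆ = x⁻¹ * c⁻¹ * x * (a * d * a⁻¹) := by
            simp [hc, hd, commutatorElement_def, mul_assoc]
          rw [e1, e2, hdA]
        rw [e]
        -- replace the conjugates by `x` modulo `B'`
        set u := x⁻¹ * c⁻¹ * x with hu
        have hu1 : u * c ∈ B' := by
          have := hact x⁻¹ (W.inv_mem (hWmm x hx)) c⁻¹ (Subgroup.inv_mem _ (hFB t h1))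
          simpa [hu, mul_assoc] using this
        have hv : l * (u * d) * l⁻¹ * c ∈ fil B B' L (t + 1) := by
          have hsplit : l * (u * d) * l⁻¹ * c = (l * (u * c) * l⁻¹) * (l * c⁻¹ * l⁻¹ * (l * d * l⁻¹) * c) := by
            simp [mul_assoc]
          rw [hsplit]
          refine Subgroup.mul_mem _ (Subgroup.mem_sup_right ((inferInstance : B'.Normal).conj_mem _ hu1 l)) ?_
          have hld := hlB (t + 1) d h2 l hl
          have hcomm : l * d * l⁻¹ * c = c * (l * d * l⁻¹) :=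
            (Subgroup.mem_centralizer_iff.mp (hab (hFB t h1)) _ (hFB _ hld))
          rw [mul_assoc, hcomm, ← mul_assoc]
          refine Subgroup.mul_mem _ ?_ hld
          have := Subgroup.inv_mem _ (hLB t c⁻¹ (Subgroup.inv_mem _ h1) l hl)
          simpa [commutatorElement_def, mul_assoc] using this
        have hmem : l * (u * d) * l⁻¹ ∈ B := by
          have := B.mul_mem (hFB _ hv) (B.inv_mem (hFB t h1))
          simpa using this
        have := Subgroup.mul_mem _ (Subgroup.mem_sup_right (T := B') (hact x (hWmm x hx) _ hmem)) hv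
        simpa [mul_assoc, fil] using this
  have hBj : fil B B' L j ≤ B' := sup_le hj le_rfl
  rw [Subgroup.commutator_le]
  intro w hw a ha
  exact hBj (key _ 0 j (by omega) w hw a (Subgroup.mem_sup_left ha))

end Pairing

theorem exists_max_normal {A : Subgroup G} (hA : A ≠ ⊥) [A.Normal] :
    ∃ A' : Subgroup G, Cfsg.IsChiefFactor A A' := by
  obtain ⟨A', ⟨hn, hlt⟩, hmax⟩ := (Finite.to_wellFoundedGT).wf.has_min
    {X : Subgroup G | X.Normal ∧ X < A} ⟨⊥, inferInstance, bot_lt_iff_ne_bot.mpr hA⟩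
  refine ⟨A', hlt, inferInstance, hn, fun N hN h1 h2 => ?_⟩
  by_contra hboth
  push Not at hboth
  exact hmax N ⟨hN, lt_of_le_of_ne h2 hboth.2⟩ (lt_of_le_of_ne h1 (Ne.symm hboth.1))

/-- Degree `i + j - 1` on the chief factors of `P`. -/
theorem iterCommutator_chief {P Q : Subgroup G} (hP : IsPGroup p P) (hQP : Q ≤ P) [Q.Normal]
    (hQ3 : ⁅P, Q⁆ ≤ Q ⊓ Subgroup.centralizer (Q : Set G))
    (hQ4 : P ⊓ Subgroup.centralizer (Q : Set G) = Q ⊓ Subgroup.centralizer (Q : Set G)) {g : G} {i j : ℕ}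
    (hi : 1 ≤ i)
    (hQi : ∀ U V : Subgroup G, Cfsg.IsChiefFactor U V → U ≤ Q → Cfsg.iterCommutator U (Subgroup.zpowers g) i ≤ V)
    (hZj : ∀ U V : Subgroup G, Cfsg.IsChiefFactor U V → U ≤ Q ⊓ Subgroup.centralizer (Q : Set G) →
      Cfsg.iterCommutator U (Subgroup.zpowers g) j ≤ V)
    {U V : Subgroup G} (hUV : Cfsg.IsChiefFactor U V) (hUP : U ≤ P) :
    Cfsg.iterCommutator U (Subgroup.zpowers g) (i + j - 1) ≤ V := by
  set L := Subgroup.zpowers g
  obtain ⟨hlt, hUn, hVn, hmax⟩ := id hUV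
  obtain ⟨W, ⟨hWn, hWU, hWV⟩, hWmin⟩ := (Finite.to_wellFoundedLT).wf.has_min
    {W : Subgroup G | W.Normal ∧ W ≤ U ∧ ¬ W ≤ V} ⟨U, hUn, le_rfl, hlt.not_ge⟩
  have hWV' : W ⊔ V = U := by
    rcases hmax (W ⊔ V) inferInstance le_sup_right (sup_le hWU hlt.le) with h | h
    · exact absurd (h ▸ le_sup_left) hWV
    · exact h
  have hminW : ∀ N : Subgroup G, N.Normal → N ≤ W → N = W ∨ N ≤ V := by
    intro N hN hNW
    by_contra hcon
    push Not at hcon
    exact hWmin N ⟨hN, hNW.trans hWU, hcon.2⟩ (lt_of_le_of_ne hNW hcon.1)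
  suffices hW : Cfsg.iterCommutator W L (i + j - 1) ≤ V by
    rw [← hWV']
    exact (iterCommutator_sup_le W V L _).trans (sup_le hW le_rfl)
  by_cases hWZ : W ≤ Q ⊓ Subgroup.centralizer (Q : Set G)
  · have hch : Cfsg.IsChiefFactor W (W ⊓ V) := by
      refine ⟨lt_of_le_of_ne inf_le_left fun e => hWV (inf_eq_left.mp e), hWn, inferInstance, fun N hN h1 h2 => ?_⟩
      rcases hminW N hN h2 with h | h
      · exact Or.inr h
      · exact Or.inl (le_antisymm (le_inf h2 h) h1)
    exact (iterCommutator_antitone W L (by omega : j ≤ i + j - 1)).trans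
      ((hZj W _ hch hWZ).trans inf_le_right)
  have hWP : W ≤ P := hWU.trans hUP
  have hne : ⁅W, Q⁆ ≠ ⊥ := fun e => hWZ (by
    rw [← hQ4]; exact le_inf hWP (Subgroup.commutator_eq_bot_iff_le_centralizer.mp e))
  obtain ⟨A, ⟨hAn, hAQ, hWA⟩, hAmin⟩ := (Finite.to_wellFoundedLT).wf.has_min
    {A : Subgroup G | A.Normal ∧ A ≤ Q ∧ ⁅W, A⁆ ≠ ⊥} ⟨Q, inferInstance, le_rfl, hne⟩
  obtain ⟨A', hA'⟩ := exists_max_normal (A := A) (fun e => hWA (by
    rw [e]; exact le_bot_iff.mp (Subgroup.commutator_le_right W ⊥)))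
  have hA'n : A'.Normal := hA'.2.2.1
  have hWA' : ⁅W, A'⁆ = ⊥ := by
    by_contra hcon
    exact hAmin A' ⟨hA'n, hA'.1.le.trans hAQ, hcon⟩ hA'.1
  have hBZ : ⁅W, A⁆ ≤ Q ⊓ Subgroup.centralizer (Q : Set G) := (Subgroup.commutator_mono hWP hAQ).trans hQ3
  obtain ⟨B', hB'⟩ := exists_max_normal (A := ⁅W, A⁆) hWA
  have hB'n : B'.Normal := hB'.2.2.1
  have hBp : IsPGroup p (⁅W, A⁆ : Subgroup G) := hP.to_le ((hBZ.trans inf_le_left).trans hQP)
  obtain ⟨R, iR, iA, Φ, -, hker, -, hirr, -⟩ := ChiefAction.exists_action hB' hBp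
  have hact : ∀ x ∈ W, ∀ c ∈ (⁅W, A⁆ : Subgroup G), x * c * x⁻¹ * c⁻¹ ∈ B' := fun x hx =>
    (hker x).mp (hirr W hWn ((hP.to_le hWP).map Φ) hx)
  have hpair := iterCommutator_pairing (L := L) hA'.1.le hB'.1.le hWA' le_rfl
    ((hBZ.trans inf_le_right).trans (Subgroup.centralizer_le (SetLike.coe_subset_coe.mpr hAQ)))
    ((hBZ.trans inf_le_right).trans (Subgroup.centralizer_le (SetLike.coe_subset_coe.mpr (hBZ.trans inf_le_left))))
    hact (hQi A A' hA' hAQ) (hZj _ B' hB' hBZ)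
  let W0 : Subgroup G :=
    { carrier := {w | w ∈ W ∧ ∀ a ∈ A, ⁅w, a⁆ ∈ B'}
      one_mem' := ⟨one_mem _, fun a _ => by simp [one_mem]⟩
      mul_mem' := by
        rintro y z ⟨hy, hy'⟩ ⟨hz, hz'⟩
        refine ⟨W.mul_mem hy hz, fun a ha => ?_⟩
        have e : ⁅y * z, a⁆ = y * ⁅z, a⁆ * y⁻¹ * ⁅y, a⁆ := by simp [commutatorElement_def, mul_assoc]
        rw [e]
        exact B'.mul_mem (hB'n.conj_mem _ (hz' a ha) y) (hy' a ha)
      inv_mem' := by
        rintro y ⟨hy, hy'⟩
        refine ⟨W.inv_mem hy, fun a ha => ?_⟩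
        have e : ⁅y⁻¹, a⁆ = y⁻¹ * ⁅y, a⁆⁻¹ * y⁻¹⁻¹ := by simp [commutatorElement_def, mul_assoc]
        rw [e]
        exact hB'n.conj_mem _ (B'.inv_mem (hy' a ha)) _ }
  have hW0n : W0.Normal := ⟨by
    rintro y ⟨hy, hy'⟩ k
    refine ⟨hWn.conj_mem y hy k, fun a ha => ?_⟩
    have h1 := hB'n.conj_mem _ (hy' _ (hAn.conj_mem a ha k⁻¹)) k
    simpa [commutatorElement_def, mul_assoc] using h1⟩
  rcases hminW W0 hW0n (fun w hw => hw.1) with h | h
  · exfalso
    refine hB'.1.not_ge ?_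
    rw [Subgroup.commutator_le]
    intro w hw a ha
    rw [← h] at hw
    exact hw.2 a ha
  · exact le_trans (b := W0) (fun w hw => ⟨iterCommutator_antitone W L (Nat.zero_le _) hw, fun a ha =>
      hpair (Subgroup.commutator_mem_commutator hw ha)⟩) h

end CfsgLib.KGroups.Functor.PairDegree
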