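import Cfsg.Agent.Lib.KGroups.Functor.KInfNormal
import Cfsg.Agent.Lib.KGroups.Functor.PairDegree
import Cfsg.Agent.S0093
import Cfsg.Agent.S0121

/-!
The quartic element when a K-infinity subgroup is not normal, and the loss of p-stability.
-/

set_option autoImplicit false
set_option linter.unusedSectionVars false

namespace CfsgLib.KGroups.Functor.Quartic

open Cfsg CfsgLib.KGroups.KInfinity
open scoped commutatorElement

universe u

variable {G : Type u} [Group G] [Finite G] {p : ℕ} [Fact p.Prime]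

theorem exists_critical (T : Subgroup G) [T.Normal] (hT : IsPGroup p T) :
    ∃ A : Subgroup G, A.Normal ∧ A ≤ T ∧ ⁅A, A⁆ ≤ Z A ∧ ⁅T, A⁆ ≤ Z A ∧
      T ⊓ Subgroup.centralizer (A : Set G) = Z A ∧
      (Subgroup.centralizer (T : Set G) ≤ T →
        ∀ d : G, (orderOf d).Coprime p → d ∈ Subgroup.centralizer (A : Set G) → d = 1) := by
  obtain ⟨H, hHc, h1, h2, h3⟩ := Cfsg.Agent.S0093.result (P := T) hT
  set A := H.map T.subtype with hA
  have hZ : Z A = (Z H).map T.subtype := map_Z T.subtype_injective H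
  refine ⟨A, ConjAct.normal_of_characteristic_of_normal, Subgroup.map_subtype_le H, ?_, ?_, ?_, ?_⟩
  · rw [hZ, hA, ← Subgroup.map_commutator]
    exact Subgroup.map_mono ((Subgroup.commutator_mono le_rfl le_top).trans h2)
  · have h : ⁅T, A⁆ = (⁅(⊤ : Subgroup T), H⁆).map T.subtype := by
      rw [Subgroup.map_commutator, ← MonoidHom.range_eq_map, T.range_subtype]
    rw [h, hZ]
    exact Subgroup.map_mono ((Subgroup.commutator_comm _ _).le.trans h2)
  · refine le_antisymm ?_ (le_inf (inf_le_left.trans (Subgroup.map_subtype_le H)) inf_le_right)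
    rintro x ⟨hxT, hxA⟩
    refine ⟨⟨⟨x, hxT⟩, h3 (Subgroup.mem_centralizer_iff.mpr fun y hy => Subtype.ext ?_), rfl⟩, hxA⟩
    exact Subgroup.mem_centralizer_iff.mp hxA y ⟨y, hy, rfl⟩
  · intro hc d hd hdA
    have hφ : MulAut.conjNormal (H := T) d = 1 := by
      refine Cfsg.Agent.S0121.result hT H hHc h1 h2 h3 _ (hd.coprime_dvd_left (orderOf_map_dvd _ d)) fun a ha => ?_
      apply Subtype.ext
      rw [MulAut.conjNormal_apply, ← Subgroup.mem_centralizer_iff.mp hdA (a : G) ⟨a, ha, rfl⟩, mul_inv_cancel_right]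
    have hdT : d ∈ T := hc (Subgroup.mem_centralizer_iff.mpr fun a ha => by
      have h := congrArg (fun x : T => (x : G)) (DFunLike.congr_fun hφ ⟨a, ha⟩)
      rw [MulAut.conjNormal_apply, MulAut.one_apply] at h
      exact (mul_inv_eq_iff_eq_mul.mp h).symm)
    obtain ⟨j, hj⟩ := hT ⟨d, hdT⟩
    exact CharP.eq_one_of_pow_coprime hd (pow_orderOf_eq_one d) (congrArg Subtype.val hj)

theorem not_stable_quotient {U V : Subgroup G} (hc : Cfsg.IsChiefFactor U V) (hUp : IsPGroup p U) {g : G}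
    (hquad : ⁅⁅U, Subgroup.zpowers g⁆, Subgroup.zpowers g⁆ ≤ V) (hnon : ¬ ⁅U, Subgroup.zpowers g⁆ ≤ V) :
    ∃ (N : Subgroup G) (_ : N.Normal), ¬ Cfsg.IsNormalizerPStable p (G ⧸ N) := by
  have hUn : U.Normal := hc.2.1
  have hVn : V.Normal := hc.2.2.1
  refine ⟨V, hVn, fun hst => hnon ?_⟩
  obtain ⟨R, iR, iA, Φ, -, hker, -, hirr, -⟩ := ChiefAction.exists_action hc hUp
  set π := QuotientGroup.mk' V
  set P := U.map π with hP
  have hPn : P.Normal := hUn.map π (QuotientGroup.mk'_surjective V)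
  have hN : ∀ x : G, π x ∈ Subgroup.normalizer (P : Set (G ⧸ V)) := fun x => by
    rw [Subgroup.normalizer_eq_top]; trivial
  set C := (Subgroup.centralizer (P : Set (G ⧸ V))).subgroupOf (Subgroup.normalizer (P : Set (G ⧸ V)))
  set f : G →* Subgroup.normalizer (P : Set (G ⧸ V)) ⧸ C :=
    (QuotientGroup.mk' C).comp (π.codRestrict _ hN) with hf
  have hfs : Function.Surjective f := by
    intro y
    obtain ⟨⟨z, hz⟩, rfl⟩ := QuotientGroup.mk'_surjective C y
    obtain ⟨x, rfl⟩ := QuotientGroup.mk'_surjective V z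
    exact ⟨x, rfl⟩
  set K := (Cfsg.pCore p (Subgroup.normalizer (P : Set (G ⧸ V)) ⧸ C)).comap f
  have hKn : K.Normal := (LocalEven.SylowIn.pCore_normal _ p).comap f
  have hcore := hst P (hUp.map π) (π g) (hN g) (by
    rw [hP, ← MonoidHom.map_zpowers, ← Subgroup.map_commutator, ← Subgroup.map_commutator,
      Subgroup.map_eq_bot_iff, QuotientGroup.ker_mk']
    exact hquad)
  have hgK : g ∈ K := hcore
  have hKp : IsPGroup p (K.map Φ) := by
    rintro ⟨_, k, hk, rfl⟩
    obtain ⟨n, hn⟩ := Solvable.Cores.isPGroup_pCore p ⟨f k, hk⟩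
    refine ⟨n, Subtype.ext ?_⟩
    show (Φ k) ^ p ^ n = 1
    rw [← map_pow]
    refine (hker _).mpr fun u hu => ?_
    have h1 : f (k ^ p ^ n) = 1 := by rw [map_pow]; exact congrArg Subtype.val hn
    have h1' : π.codRestrict _ hN (k ^ p ^ n) ∈ C :=
      (QuotientGroup.eq_one_iff (N := C) (π.codRestrict _ hN (k ^ p ^ n))).mp h1
    have h1'' : π (k ^ p ^ n) ∈ Subgroup.centralizer (P : Set (G ⧸ V)) := Subgroup.mem_subgroupOf.mp h1'
    have h2 : π u * π (k ^ p ^ n) = π (k ^ p ^ n) * π u :=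
      Subgroup.mem_centralizer_iff.mp h1'' (π u) (Subgroup.mem_map_of_mem π hu)
    have h3 : π (k ^ p ^ n * u * (k ^ p ^ n)⁻¹ * u⁻¹) = 1 := by
      simp only [map_mul, map_inv]
      rw [← h2, mul_inv_cancel_right, mul_inv_cancel]
    exact (QuotientGroup.eq_one_iff _).mp h3
  have hgker := (hker g).mp (hirr K hKn hKp hgK)
  rw [Subgroup.commutator_le]
  intro u hu z hz
  have hz' := (hker z).mp (Subgroup.zpowers_le.mpr (hirr K hKn hKp hgK) hz) u hu
  have := V.inv_mem hz'
  simpa [commutatorElement_def, mul_assoc] using this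

theorem exists_quartic (S : Sylow p G)
    (hK : ¬ (Cfsg.inducedFunctor Cfsg.kInfLower (S : Subgroup G)).Normal ∨
      ¬ (Cfsg.inducedFunctor Cfsg.kInfUpper (S : Subgroup G)).Normal) :
    ∃ g : G, g ∈ (S : Subgroup G) ∧ g ∉ Cfsg.pCore p G ∧
      (∀ U V : Subgroup G, Cfsg.IsChiefFactor U V → U ≤ Cfsg.pCore p G →
        Cfsg.iterCommutator U (Subgroup.zpowers g) 4 ≤ V) ∧
      ⁅⁅Cfsg.pCore p G ⊓ Subgroup.centralizer (Cfsg.pCore p G : Set G), Subgroup.zpowers g⁆,
          Subgroup.zpowers g⁆ = ⊥ ∧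
      (Subgroup.centralizer (Cfsg.pCore p G : Set G) ≤ Cfsg.pCore p G →
        ∃ (N : Subgroup G) (_ : N.Normal), ¬ Cfsg.IsNormalizerPStable p (G ⧸ N)) := by
  have hTn : (Cfsg.pCore p G).Normal := LocalEven.SylowIn.pCore_normal G p
  have hTp := Solvable.Cores.isPGroup_pCore (G := G) p
  obtain ⟨A, hAn, hAT, hA2, hA3, hA4, hA5⟩ := exists_critical (Cfsg.pCore p G) hTp
  obtain ⟨g, hgS, hgT, h3, h2, hex⟩ := Quadratic.exists_small (S := S) hAT hA2 hA3 hA5 hK
  set L := Subgroup.zpowers g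
  have hQi : ∀ U V : Subgroup G, Cfsg.IsChiefFactor U V → U ≤ A → Cfsg.iterCommutator U L 3 ≤ V := by
    rintro U V ⟨hlt, hUn, hVn, hmax⟩ hUA
    rcases hmax ((U ⊓ Z A) ⊔ V) inferInstance le_sup_right (sup_le inf_le_left hlt.le) with h | h
    · refine le_trans (le_inf ?_ ((PairDegree.iterCommutator_mono hUA L 3).trans h3)) (h ▸ le_sup_left)
      exact PairDegree.iterCommutator_antitone U L (Nat.zero_le 3)
    · rw [← h]
      refine (PairDegree.iterCommutator_sup_le _ V L 3).trans (sup_le ?_ le_rfl)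
      refine ((PairDegree.iterCommutator_antitone (U ⊓ Z A) L (by norm_num : 2 ≤ 3)).trans ?_)
      exact ((PairDegree.iterCommutator_mono inf_le_right L 2).trans h2.le).trans bot_le
  have hZj : ∀ U V : Subgroup G, Cfsg.IsChiefFactor U V → U ≤ A ⊓ Subgroup.centralizer (A : Set G) →
      Cfsg.iterCommutator U L 2 ≤ V := fun U V _ hU =>
    ((PairDegree.iterCommutator_mono hU L 2).trans h2.le).trans bot_le
  refine ⟨g, hgS, hgT, fun U V hUV hUT => ?_, ?_, fun hc => ?_⟩
  · exact PairDegree.iterCommutator_chief (i := 3) (j := 2) hTp hAT hA3 hA4 (by norm_num) hQi hZj hUV hUT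
  · refine le_bot_iff.mp ((Subgroup.commutator_mono (Subgroup.commutator_mono ?_ le_rfl) le_rfl).trans h2.le)
    rw [← hA4]
    exact inf_le_inf_left _ (Subgroup.centralizer_le (SetLike.coe_subset_coe.mpr hAT))
  · obtain ⟨U, V, hUV, hUA, hq, hn⟩ := hex hc
    exact not_stable_quotient hUV (hTp.to_le (hUA.trans hAT)) hq hn

end CfsgLib.KGroups.Functor.Quartic
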