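import Cfsg.Agent.Lib.KGroups.Functor.Lift
import Cfsg.Agent.Lib.Fusion.Transfer
import Cfsg.Agent.Lib.Fusion.Abelian
import Cfsg.Agent.Lib.Coprime.Sylow

/-!
Reduction of control of strong fusion and of transfer to the constrained sections.
-/

set_option autoImplicit false
set_option linter.unusedSectionVars false

namespace CfsgLib.KGroups.Functor

open CfsgLib.LocalEven.SylowIn

universe u

variable {G : Type u} [Group G] [Finite G] {p : ℕ} [Fact p.Prime]

theorem isPGroup_centralizer_of_inf_le (S : Sylow p G) (hN : Cfsg.pPrimeCore p G = ⊥)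
    (h : (S : Subgroup G) ⊓ Subgroup.centralizer (Cfsg.pCore p G : Set G) ≤ Cfsg.pCore p G) :
    Subgroup.centralizer (Cfsg.pCore p G : Set G) ≤ Cfsg.pCore p G := by
  set T := Cfsg.pCore p G with hT
  set C := Subgroup.centralizer (T : Set G) with hC
  have hTn : T.Normal := LocalEven.SylowIn.pCore_normal G p
  have hCn : C.Normal := inferInstance
  have hSyl : IsSylowIn p ((S : Subgroup G) ⊓ C) C :=
    isSylowIn_of_not_dvd inf_le_right (isPGroup_sylow_inf S C) (Fusion.Basic.not_dvd_relIndex_of_normal S C)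
  have hcent : ∀ c : C, ∀ z ∈ (hSyl.toSylow : Subgroup C), z * c = c * z := fun c z hz =>
    Subtype.ext (Subgroup.mem_centralizer_iff.mp c.2 (z : G) (h hz))
  have hnpc : Cfsg.HasNormalPComplement p C := by
    refine Fusion.Abelian.npc_of_normalizer_le_centralizer hSyl.toSylow fun c _ => ?_
    exact Subgroup.mem_centralizer_iff.mpr (hcent c)
  have hres : (Cfsg.pResidual p C).map C.subtype ≤ Cfsg.pPrimeCore p G := by
    refine Solvable.Cores.le_pPrimeCore ?_
    rw [Coprime.card_map_subtype]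
    exact Fusion.Basic.npc_iff_coprime.mp hnpc
  intro c hc
  obtain ⟨w, hw, u, hu, he⟩ := Fusion.Basic.exists_eq_pResidual_mul hSyl.toSylow (⟨c, hc⟩ : C)
  have hw1 : (w : G) = 1 := by
    have := hres ⟨w, hw, rfl⟩
    rwa [hN, Subgroup.mem_bot] at this
  have hcu : c = (w : G) * u := congrArg Subtype.val he
  rw [hcu, hw1, one_mul]
  exact h hu

variable (S : Sylow p G)

/-- The data of a group with nontrivial `O_p`, trivial `O_{p'}` and non-constrained. -/
theorem frattini_centralizer (hN : Cfsg.pPrimeCore p G = ⊥)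
    (hnc : ¬ Subgroup.centralizer (Cfsg.pCore p G : Set G) ≤ Cfsg.pCore p G) :
    ∃ L : Subgroup G, (S : Subgroup G) ≤ L ∧ L ≠ ⊤ ∧
      ∀ g : G, ∃ c ∈ Subgroup.centralizer (Cfsg.pCore p G : Set G), ∃ l ∈ L, g = c * l := by
  set T := Cfsg.pCore p G with hT
  set C := Subgroup.centralizer (T : Set G) with hC
  have hTn : T.Normal := LocalEven.SylowIn.pCore_normal G p
  have hCn : C.Normal := inferInstance
  have hSyl : IsSylowIn p ((S : Subgroup G) ⊓ C) C :=
    isSylowIn_of_not_dvd inf_le_right (isPGroup_sylow_inf S C) (Fusion.Basic.not_dvd_relIndex_of_normal S C)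
  refine ⟨Subgroup.normalizer (((S : Subgroup G) ⊓ C : Subgroup G) : Set G), ?_, ?_, fun g => ?_⟩
  · refine le_normalizer_of_map_conj fun g hg => ?_
    rw [Subgroup.map_inf _ _ _ (MulAut.conj g).injective, conjG_eq_iff.mpr (Subgroup.le_normalizer hg),
      conjG_eq_iff.mpr]
    rw [Subgroup.normalizer_eq_top]; trivial
  · intro htop
    have : ((S : Subgroup G) ⊓ C).Normal := Subgroup.normalizer_eq_top_iff.mp htop
    exact hnc (isPGroup_centralizer_of_inf_le S hN (Solvable.Cores.le_pCore (isPGroup_sylow_inf S C)))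
  · obtain ⟨l, hl, n, hn, he⟩ := frattini_argument hSyl (H := ⊤) (g := g)
      (by rw [Subgroup.normalizer_eq_top]) le_top trivial
    exact ⟨l, hl, n, hn.2, he⟩

/-- In `G = C_G(T) S`, the elements of order prime to `p` centralize `T`. -/
theorem mem_centralizer_of_sup {T : Subgroup G} [T.Normal]
    (h : Subgroup.centralizer (T : Set G) ⊔ (S : Subgroup G) = ⊤) (q : G) (hq : (orderOf q).Coprime p) :
    q ∈ Subgroup.centralizer (T : Set G) := by
  set C := Subgroup.centralizer (T : Set G) with hC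
  have hCn : C.Normal := inferInstance
  have hmem : q ∈ ((C ⊔ (S : Subgroup G) : Subgroup G) : Set G) := by rw [h]; trivial
  rw [Subgroup.normal_mul] at hmem
  obtain ⟨c, hc, s, hs, rfl⟩ := hmem
  set π := QuotientGroup.mk' C
  have h1 : π (c * s) = π s := by
    rw [map_mul, (QuotientGroup.eq_one_iff c).mpr hc |> (fun e => (show π c = 1 from e)), one_mul]
  obtain ⟨k, hk⟩ := S.2 ⟨s, hs⟩
  have h2 : π (c * s) ^ p ^ k = 1 := by
    rw [h1, ← map_pow, show s ^ p ^ k = 1 from congrArg Subtype.val hk, map_one]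
  have h3 : π (c * s) = 1 := CharP.eq_one_of_pow_coprime hq (by rw [← map_pow, pow_orderOf_eq_one, map_one]) h2
  exact (QuotientGroup.eq_one_iff _).mp h3

variable {𝓦 : Set (∀ (Q : Type u) [Group Q], Subgroup Q)}

/-- The strong fusion relation on `S`. -/
abbrev SF (S : Sylow p G) (𝓦 : Set (∀ (Q : Type u) [Group Q], Subgroup Q)) : Subgroup G → G → Prop :=
  CtrlStep (ind G 𝓦) (S : Subgroup G) ⊤

theorem agrees_of_le (h𝓦 : ∀ W ∈ 𝓦, Cfsg.IsCharPFunctor.{u} p W) {H : Subgroup G}
    (hSH : (S : Subgroup G) ≤ H) (h : Cfsg.FamilyControlsStrongFusionIn p (ind G 𝓦) H) {A : Subgroup G}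
    {x : G} (hx : x ∈ H) (hA : A ≤ (S : Subgroup G)) (hxA : A ^ᶜ x ≤ (S : Subgroup G)) :
    Agrees (SF S 𝓦) A x := by
  obtain ⟨g, hg, hag⟩ := agrees_of_familyControls (isConjugacyFunctor_ind h𝓦) h (isSylowIn_of_le S hSH) hx hA hxA
  refine ⟨g, hg.imp fun B y hy => ?_, hag⟩
  obtain ⟨W, hW, hy1, hy2, hy3⟩ := hy
  exact ⟨W, hW, ⟨trivial, hy1.2⟩, hy2, hy3⟩

/-- Reduction modulo a normal `p'`-subgroup. -/
theorem familyControls_of_quotient (S : Sylow p G) {H : Type u} [Group H] [Finite H] (φ : G →* H) (hφ : Function.Surjective φ)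
    (hker : (Nat.card φ.ker).Coprime p) (h𝓦 : ∀ W ∈ 𝓦, Cfsg.IsCharPFunctor.{u} p W)
    (h : Cfsg.FamilyControlsStrongFusionIn p (ind H 𝓦) ⊤) :
    Cfsg.FamilyControlsStrongFusionIn p (ind G 𝓦) ⊤ := by
  refine familyControls_of_agrees (isSylowIn_top S) fun A g _ hA hgA => ?_
  have hinj := injOn_sylow φ hker S.2
  obtain ⟨x, hx, hag⟩ := agrees_of_familyControls (isConjugacyFunctor_ind h𝓦) h
    (isSylowIn_top (S.mapSurjective hφ)) (x := φ g) trivial (Subgroup.map_mono hA)
    (by rw [← map_conjG]; exact Subgroup.map_mono hgA)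
  obtain ⟨g', rfl, hg', hg'S⟩ := exists_lift φ (P := (S : Subgroup G)) (R := SF S 𝓦) (fun B y hB hy => by
    obtain ⟨_, ⟨W, hW, rfl⟩, hy1, -, hy3⟩ := hy
    have hy1' : y ∈ Subgroup.normalizer (Cfsg.inducedFunctor W ((S : Subgroup G).map φ) : Set H) := hy1.2
    rw [inducedFunctor_map (h𝓦 W hW) φ S.2 hinj] at hy1'
    obtain ⟨n, hn, rfl⟩ := exists_normalizer_lift φ hφ hker (S.2.to_le (inducedFunctor_le W _)) hy1'
    have hle : B ^ᶜ n ≤ (S : Subgroup G) ⊔ φ.ker := by
      rw [← Subgroup.comap_map_eq, ← Subgroup.map_le_iff_le_comap, map_conjG]; exact hy3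
    have hBN : B ^ᶜ n ≤ Subgroup.normalizer (Cfsg.inducedFunctor W (S : Subgroup G) : Set G) := by
      refine le_trans (Subgroup.map_mono (hB.trans ?_)) (conjG_eq_iff.mpr (Subgroup.le_normalizer hn)).le
      exact Subgroup.le_normalizer.trans
        (normalizer_le_normalizer_functor (isConjugacyFunctor_induced (h𝓦 W hW)) S.2)
    obtain ⟨m, hm, hmB⟩ := exists_conj_le_of_le_sup hker S.2 ((isPGroup_of_le S hB).map _)
      (Subgroup.le_normalizer.trans
        (normalizer_le_normalizer_functor (isConjugacyFunctor_induced (h𝓦 W hW)) S.2)) hBN hle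
    rw [conjG_conjG] at hmB
    refine ⟨m * n, by rw [map_mul, MonoidHom.mem_ker.mp hm.1, one_mul], (Chain.single ?_).agrees, hmB⟩
    exact ⟨_, ⟨W, hW, rfl⟩, ⟨trivial, Subgroup.mul_mem _ hm.2 hn⟩, hB, hmB⟩) hx A hA rfl
  refine hg'.congr fun a ha => hinj (hgA (conjG_mem ha)) (hg'S (conjG_mem ha)) ?_
  simpa using hag (φ a) ⟨a, ha, rfl⟩

/-- The case where the elements of order prime to `p` centralize the normal `p`-subgroup `ker φ`. -/
theorem familyControls_of_centralized {H : Type u} [Group H] [Finite H] (φ : G →* H) (hφ : Function.Surjective φ)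
    (hker : IsPGroup p φ.ker) (hcen : ∀ q : G, (orderOf q).Coprime p → q ∈ Subgroup.centralizer (φ.ker : Set G))
    (h𝓦 : ∀ W ∈ 𝓦, Cfsg.IsCharPFunctor.{u} p W) (h : Cfsg.FamilyControlsStrongFusionIn p (ind H 𝓦) ⊤)
    (hSn : Subgroup.normalizer ((S : Subgroup G) : Set G) ≠ ⊤)
    (hHn : ∀ W ∈ 𝓦, Subgroup.normalizer (Cfsg.inducedFunctor W ((S : Subgroup G).map φ) : Set H) ≠ ⊤)
    (hM : ∀ K : Subgroup G, (S : Subgroup G) ≤ K → K ≠ ⊤ → Cfsg.FamilyControlsStrongFusionIn p (ind G 𝓦) K) :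
    Cfsg.FamilyControlsStrongFusionIn p (ind G 𝓦) ⊤ := by
  refine familyControls_of_agrees (isSylowIn_top S) fun A g _ hA hgA => ?_
  have hTS : φ.ker ≤ (S : Subgroup G) := hker.le_sylow_of_normal S
  suffices key : ∀ (B : Subgroup G) (x : G), φ.ker ≤ B → B ≤ (S : Subgroup G) → B ^ᶜ x ≤ (S : Subgroup G) →
      Agrees (SF S 𝓦) B x by
    refine (key (A ⊔ φ.ker) g le_sup_right (sup_le hA hTS) ?_).mono ctrlStep_mono le_sup_left
    rw [Subgroup.map_sup]
    refine sup_le hgA ?_
    rw [conjG_eq_iff.mpr]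
    · exact hTS
    · rw [Subgroup.normalizer_eq_top]; trivial
  intro B
  induction hk : Nat.card (S : Subgroup G) - Nat.card B using Nat.strong_induction_on generalizing B with
  | _ k ih =>
  subst hk
  intro g hTB hB hgB
  rcases eq_or_ne B (S : Subgroup G) with rfl | hne
  · have hgN : g ∈ Subgroup.normalizer ((S : Subgroup G) : Set G) :=
      conjG_eq_iff.mp (Subgroup.eq_of_le_of_card_ge hgB (card_conjG _ g).ge)
    exact agrees_of_le S h𝓦 Subgroup.le_normalizer (hM _ Subgroup.le_normalizer hSn) hgN le_rfl hgB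
  obtain ⟨x, hx, hag⟩ := agrees_of_familyControls (isConjugacyFunctor_ind h𝓦) h
    (isSylowIn_top (S.mapSurjective hφ)) (x := φ g) trivial (Subgroup.map_mono hB)
    (by rw [← map_conjG]; exact Subgroup.map_mono hgB)
  have hcomap : ((S : Subgroup G).map φ).comap φ = (S : Subgroup G) := by
    rw [Subgroup.comap_map_eq, sup_eq_left.mpr hTS]
  obtain ⟨g', rfl, hg', hg'S⟩ := exists_lift φ (P := (S : Subgroup G)) (R := SF S 𝓦) (fun C y hC hy => by
    obtain ⟨_, ⟨W, hW, rfl⟩, hy1, -, hy3⟩ := hy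
    obtain ⟨a, rfl⟩ := hφ y
    have haS : C ^ᶜ a ≤ (S : Subgroup G) := by
      rw [← hcomap, ← Subgroup.map_le_iff_le_comap, map_conjG]; exact hy3
    have hSK : (S : Subgroup G) ≤ (Subgroup.normalizer (Cfsg.inducedFunctor W ((S : Subgroup G).map φ) : Set H)).comap φ := by
      rw [← Subgroup.map_le_iff_le_comap]
      exact Subgroup.le_normalizer.trans
        (normalizer_le_normalizer_functor (isConjugacyFunctor_induced (h𝓦 W hW)) (S.2.map φ))
    have hK : (Subgroup.normalizer (Cfsg.inducedFunctor W ((S : Subgroup G).map φ) : Set H)).comap φ ≠ ⊤ := by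
      intro e
      apply hHn W hW
      rw [← Subgroup.map_comap_eq_self_of_surjective hφ (Subgroup.normalizer _), e, Subgroup.map_top_of_surjective φ hφ]
    exact ⟨a, rfl, agrees_of_le S h𝓦 hSK (hM _ hSK hK) (x := a) hy1.2 hC haS, haS⟩) hx B hB rfl
  have hag' : ∀ b ∈ B, φ (g * b * g⁻¹) = φ (g' * b * g'⁻¹) := fun b hb => by
    simpa using hag (φ b) ⟨b, hb, rfl⟩
  have hy : B ^ᶜ g = B ^ᶜ g' := by
    have h1 : ∀ z, φ.ker ≤ B ^ᶜ z := fun z => by
      refine le_trans (le_of_eq (conjG_eq_iff.mpr ?_).symm) (Subgroup.map_mono hTB)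
      rw [Subgroup.normalizer_eq_top]; trivial
    rw [← Subgroup.comap_map_eq_self (h1 g), ← Subgroup.comap_map_eq_self (h1 g'), map_conjG, map_conjG]
    congr 1
    refine conjG_congr ?_
    rintro _ ⟨b, hb, rfl⟩
    simpa using hag' b hb
  have hyN : g'⁻¹ * g ∈ Subgroup.normalizer (B : Set G) := by
    rw [← conjG_eq_iff, ← conjG_conjG, hy, conjG_inv_conjG]
  -- the correction normalizes `B` and centralizes it modulo the kernel
  suffices hcorr : Agrees (SF S 𝓦) B (g'⁻¹ * g) by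
    have := hcorr.trans (by rw [conjG_eq_iff.mpr hyN]; exact hg')
    simpa using this
  obtain ⟨a, haS, haE⟩ := exists_extremal S hB
  obtain ⟨k, hk1, hk2⟩ := haE.exists_conjG S rfl
  have hlt := card_lt_inf_normalizer S hB hne
  have hle := card_le_sylow S (inf_le_left : (S : Subgroup G) ⊓ Subgroup.normalizer (B : Set G) ≤ _)
  have hkB : Agrees (SF S 𝓦) B k :=
    (ih _ (by omega) _ rfl k (hTB.trans (le_inf hB Subgroup.le_normalizer)) inf_le_left
      (hk2.trans inf_le_left)).mono ctrlStep_mono (le_inf hB Subgroup.le_normalizer)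
  set y := g'⁻¹ * g with hydef
  have hy' : k * y * k⁻¹ ∈ Subgroup.normalizer ((B ^ᶜ k : Subgroup G) : Set G) := by
    rw [normalizer_map_conj]; exact conjG_mem hyN
  have hker' : ∀ b ∈ B ^ᶜ k, (k * y * k⁻¹) * b * (k * y * k⁻¹)⁻¹ * b⁻¹ ∈ φ.ker := by
    rintro _ ⟨b, hb, rfl⟩
    show φ ((k * y * k⁻¹) * (k * b * k⁻¹) * (k * y * k⁻¹)⁻¹ * (k * b * k⁻¹)⁻¹) = 1
    have h2 : φ (y * b * y⁻¹) = φ b := by
      have h3 := hag' b hb
      simp only [hydef, map_mul, map_inv, mul_inv_rev, inv_inv] at h3 ⊢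
      calc (φ g')⁻¹ * φ g * φ b * ((φ g)⁻¹ * φ g') = (φ g')⁻¹ * (φ g * φ b * (φ g)⁻¹) * φ g' := by simp [mul_assoc]
        _ = φ b := by rw [h3]; simp [mul_assoc]
    calc _ = φ k * φ (y * b * y⁻¹) * (φ b)⁻¹ * (φ k)⁻¹ := by simp [mul_assoc]
      _ = 1 := by rw [h2]; simp [mul_assoc]
  obtain ⟨s, hs, hsag⟩ := exists_mem_sylow_agree S hker hcen (hk1 ▸ haE) hy' hker'
  have hkS : B ^ᶜ k ≤ (S : Subgroup G) := hk1 ▸ haS
  have hs' : Agrees (SF S 𝓦) (B ^ᶜ k) (k * y * k⁻¹) :=
    (agrees_of_le S h𝓦 Subgroup.le_normalizer (hM _ Subgroup.le_normalizer hSn)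
      (Subgroup.le_normalizer hs.1) hkS (by rwa [conjG_eq_iff.mpr hs.2])).congr hsag
  have h2 : Agrees (SF S 𝓦) B ((k * y * k⁻¹) * k) := hkB.trans hs'
  have h3 := h2.trans (h := k⁻¹) (by
    rw [← conjG_conjG, conjG_eq_iff.mpr hy']; exact hkB.symm ctrlStep_symm)
  simpa [mul_assoc] using h3

/-- Values of a functor on the image of `S` modulo `O_p` are not normal. -/
theorem normalizer_quotient_pCore_ne_top (S : Sylow p G) {W : ∀ (Q : Type u) [Group Q], Subgroup Q}
    (hST : ¬ (S : Subgroup G) ≤ Cfsg.pCore p G) (hW : Cfsg.IsCharPFunctor.{u} p W) :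
    Subgroup.normalizer (Cfsg.inducedFunctor W ((S : Subgroup G).map (QuotientGroup.mk' (Cfsg.pCore p G))) :
      Set (G ⧸ Cfsg.pCore p G)) ≠ ⊤ := by
  intro htop
  set T := Cfsg.pCore p G with hT
  set P := (S : Subgroup G).map (QuotientGroup.mk' T)
  have hP : IsPGroup p P := S.2.map _
  have hPne : P ≠ ⊥ := fun e => hST (by
    rw [Subgroup.map_eq_bot_iff, QuotientGroup.ker_mk'] at e; exact e)
  have hne := (isConjugacyFunctor_induced hW P hP).2.1 hPne
  have : (Cfsg.inducedFunctor W P).Normal := Subgroup.normalizer_eq_top_iff.mp htop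
  have h1 : (Cfsg.inducedFunctor W P).comap (QuotientGroup.mk' T) ≤ T := by
    refine Solvable.Cores.le_pCore (IsPGroup.to_le (S.2) ?_)
    refine (Subgroup.comap_mono (inducedFunctor_le W P)).trans ?_
    rw [Subgroup.comap_map_eq, QuotientGroup.ker_mk', sup_eq_left.mpr ((Solvable.Cores.isPGroup_pCore p).le_sylow_of_normal S)]
  refine hne ?_
  rw [← Subgroup.map_comap_eq_self_of_surjective (QuotientGroup.mk'_surjective T) (Cfsg.inducedFunctor W P),
    Subgroup.map_eq_bot_iff, QuotientGroup.ker_mk']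
  exact h1

/-- The constrained sections decide control of strong fusion. -/
theorem familyControls_sec (h𝓦 : ∀ W ∈ 𝓦, Cfsg.IsCharPFunctor.{u} p W)
    (hloc : ∀ (X : Type u) [Group X] [Finite X], Sec G X →
      Subgroup.centralizer (Cfsg.pCore p X : Set X) ≤ Cfsg.pCore p X →
        Cfsg.FamilyControlsStrongFusionIn p (ind X 𝓦) ⊤) :
    ∀ (X : Type u) [Group X] [Finite X], Sec G X → Cfsg.FamilyControlsStrongFusionIn p (ind X 𝓦) ⊤ := by
  suffices key : ∀ (n : ℕ) (X : Type u) [Group X] [Finite X], Nat.card X = n → Sec G X →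
      Cfsg.FamilyControlsStrongFusionIn p (ind X 𝓦) ⊤ from fun X _ _ hX => key _ X rfl hX
  intro n
  induction n using Nat.strong_induction_on with
  | _ n ih =>
  intro X _ _ hn hX
  subst hn
  obtain ⟨S⟩ : Nonempty (Sylow p X) := inferInstance
  have hsub : ∀ K : Subgroup X, K ≠ ⊤ → Cfsg.FamilyControlsStrongFusionIn p (ind X 𝓦) K := by
    intro K hK
    refine familyControls_of_subgroup h𝓦 K (ih _ ?_ K rfl (hX.of_subgroup K))
    exact lt_of_le_of_ne (Subgroup.card_le_card_group K) fun e => hK (Subgroup.eq_top_of_card_eq K e)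
  have hquo : ∀ (N : Subgroup X) [N.Normal], N ≠ ⊥ →
      Cfsg.FamilyControlsStrongFusionIn p (ind (X ⧸ N) 𝓦) ⊤ := by
    intro N _ hN
    refine ih _ ?_ (X ⧸ N) rfl (hX.of_surjective (QuotientGroup.mk' N) (QuotientGroup.mk'_surjective N))
    rw [← Subgroup.card_mul_index N]
    exact lt_mul_of_one_lt_left (Nat.pos_of_ne_zero Subgroup.index_ne_zero_of_finite)
      ((Subgroup.one_lt_card_iff_ne_bot N).mpr hN)
  set T := Cfsg.pCore p X with hT
  have hTn : T.Normal := LocalEven.SylowIn.pCore_normal X p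
  rcases eq_or_ne T ⊥ with hbot | hTbot
  · refine familyControls_top S (isConjugacyFunctor_ind h𝓦) fun U hUS hU _ => hsub _ fun htop => hU ?_
    have : U.Normal := Subgroup.normalizer_eq_top_iff.mp htop
    exact le_bot_iff.mp (hbot ▸ Solvable.Cores.le_pCore (isPGroup_of_le S hUS))
  by_cases hcon : Subgroup.centralizer (T : Set X) ≤ T
  · exact hloc X hX hcon
  set N := Cfsg.pPrimeCore p X with hN
  have hNn : N.Normal := Solvable.Cores.pPrimeCore_normal p
  rcases eq_or_ne N ⊥ with hNbot | hNbot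
  swap
  · exact familyControls_of_quotient S (QuotientGroup.mk' N) (QuotientGroup.mk'_surjective N)
      (by rw [QuotientGroup.ker_mk']; exact Solvable.Cores.coprime_card_pPrimeCore p) h𝓦 (hquo N hNbot)
  obtain ⟨L, hSL, hL, hfac⟩ := frattini_centralizer S hNbot hcon
  set C := Subgroup.centralizer (T : Set X) with hC
  rcases ne_or_eq (C ⊔ (S : Subgroup X)) ⊤ with hH | hH
  · refine familyControls_of_agrees (isSylowIn_top S) fun A g _ hA hgA => ?_
    obtain ⟨c, hc, l, hl, rfl⟩ := hfac g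
    obtain ⟨c', hc', l', hl', he, hl'A⟩ :=
      exists_factor S (X := C ⊔ (S : Subgroup X)) le_sup_right hSL (Subgroup.mem_sup_left hc) hl hA hgA
    rw [he] at hgA ⊢
    rw [← conjG_conjG] at hgA
    exact (agrees_of_le S h𝓦 hSL (hsub L hL) hl' hA hl'A).trans
      (agrees_of_le S h𝓦 le_sup_right (hsub _ hH) hc' hl'A hgA)
  have hST : ¬ (S : Subgroup X) ≤ T := fun hle =>
    hcon (isPGroup_centralizer_of_inf_le S hNbot (inf_le_left.trans hle))
  refine familyControls_of_centralized S (QuotientGroup.mk' T) (QuotientGroup.mk'_surjective T)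
    (by rw [QuotientGroup.ker_mk']; exact Solvable.Cores.isPGroup_pCore p)
    (by rw [QuotientGroup.ker_mk']; exact mem_centralizer_of_sup S hH) h𝓦 (hquo T hTbot) ?_ ?_
    (fun K _ hK => hsub K hK)
  · intro htop
    have : (S : Subgroup X).Normal := Subgroup.normalizer_eq_top_iff.mp htop
    exact hST (Solvable.Cores.le_pCore S.2)
  · exact fun W hW => normalizer_quotient_pCore_ne_top S hST (h𝓦 W hW)

end CfsgLib.KGroups.Functor
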